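import Cfsg.Agent.OddHalf.D7TwF4.Growth.KRel
import Cfsg.Agent.OddHalf.D7TwF4.Growth.WDefs
import Cfsg.Agent.OddHalf.D7TwF4.Defs
import Cfsg.Agent.KFacts.TwF4.TorFix
import Cfsg.Agent.KFacts.TwF4.SylU
import Cfsg.Agent.KFacts.TwF4.TorEx
import Mathlib
import Cfsg.Agent.KFacts.TwF4.CentR
import Cfsg.Agent.OddHalf.D7TwF4.Growth.Tools
import Cfsg.Agent.KFacts.TwF4.Inv
import Cfsg.Agent.OddHalf.D7TwF4.Growth.Frame

-- merged: Cfsg.Agent.OddHalf.D7TwF4.KCent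
section

/-!
# Growth for `²F₄(q)`: centralisers in `PL = C_Y(Z_4)` (helper401)

For `y ∈ PL = ⟨X_0, …, X_8⟩`:

* `tor`: `PL ∩ T ≤ T_4`;
* `k1`: `y` commutes with `X_5`, `Z_6` ⟹ `y ∈ NO`;
* `k5`: `y` commutes with `X_3`, `X_5` ⟹ `y ∈ Q1 X_7 X_1`;
* `k6a`: `y` commutes with `X_4`, `Z_6` ⟹ `y ∈ Q2 X_8`;
* `k6b`: `y` commutes with `X_4`, `X_8` ⟹ `y ∈ Z_4 Z_6 Z_8`;
* `k7`: `y` commutes with `Z_4`, `Z_6` ⟹ `y ∈ ⟨X_2, …, X_8⟩`;
* `k8`: `[y, Q2] ≤ Z_4` ⟹ `y ∈ ⟨X_1, …, X_7⟩`.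
-/

set_option autoImplicit false
set_option linter.unusedSectionVars false
set_option linter.unusedVariables false

namespace Cfsg.Agent.OddHalf.D7TwF4.KCent

open Cfsg.Agent.KFacts.TwF4 Cfsg.Agent.SplitTwo.ZS
open scoped commutatorElement

universe u

variable {F : Type*} [Field F] {σ : F →+* F} {G : Type u} [Group G] (S : Full σ G)

include S in
theorem neg_eq (x : F) : -x = x := by
  rw [← mul_one (-x), neg_mul_comm, S.neg_one_eq, mul_one]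

/-- `PL ∩ T ≤ T_4` -/
theorem tor {t : G} (ht : t ∈ S.T) (hP : t ∈ S.PL) : t ∈ S.Tk 4 := by
  refine ⟨ht, Subgroup.mem_centralizer_iff.2 fun y hy => ?_⟩
  obtain ⟨c, d, rfl⟩ := S.mem_T.1 ht
  have h6 := S.comm_PL hP (z := S.e 2 0 1) ⟨1, rfl⟩
  have h7 := S.h_e c d 2 0 1
  rw [h6, mul_inv_cancel_right, mul_one] at h7
  have h8 : chE σ 2 c d = 1 := S.unit_eq_one (Units.ext (S.injE 2 _ _ _ _ h7).2.symm)
  obtain ⟨p, u, rfl⟩ := S.X4 hy
  have h9 := S.h_e c d 2 p u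
  rw [h8, Units.val_one, one_mul, map_one, one_mul, one_mul, mul_inv_eq_iff_eq_mul] at h9
  exact h9.symm

/-! ### `k7`, `k1` -/

theorem mem_cent {A : Subgroup G} {y : G} (h : A ≤ Subgroup.centralizer {y}) : y ∈ Subgroup.centralizer (A : Set G) :=
  Subgroup.mem_centralizer_iff.2 fun x hx => Subgroup.mem_centralizer_singleton_iff.1 (h hx)

theorem k7 {y : G} (h4 : ∀ z ∈ S.Zc 2, y * z = z * y) (h6 : ∀ z ∈ S.Zc 3, y * z = z * y) : y ∈ J S.XZ 2 8 := by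
  rw [← S.centralizer_W46]
  refine mem_cent ?_
  rintro _ ⟨u, v, rfl⟩
  refine mul_mem ?_ ?_
  · rw [Subgroup.mem_centralizer_singleton_iff]; exact (h4 _ ⟨u, rfl⟩).symm
  · rw [Subgroup.mem_centralizer_singleton_iff]; exact (h6 _ ⟨v, rfl⟩).symm

theorem k1 {y : G} (h4 : ∀ z ∈ S.Zc 2, y * z = z * y) (h5 : ∀ x ∈ S.XZ 5, y * x = x * y)
    (h6 : ∀ z ∈ S.Zc 3, y * z = z * y) : y ∈ S.NO :=
  ⟨k7 S h4 h6, mem_cent fun x hx => by
    rw [Subgroup.mem_centralizer_singleton_iff]; exact (h5 x hx).symm⟩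

/-! ### conjugation by `X_4` -/

/-- conjugation of `⟨X_2, …, X_8⟩` by `X_4` -/
theorem conj_four (q v a b s c d t p w r e f : F) :
    S.e 2 q v * (S.e 4 a b * (S.o 3 s * (S.e 3 c d * (S.o 2 t * (S.e 2 p w * (S.o 1 r * S.e 1 e f)))))) * (S.e 2 q v)⁻¹ =
    S.e 4 a b * (S.o 3 s * (S.e 3 c (d + q * s) * (S.o 2 (t + q * c) * (S.e 2 p (w + (q * σ p + p * σ q)) *
      (S.o 1 (r + e * q) * S.e 1 e f))))) := by
  set g := S.e 2 q v with hg
  have c8 : g * S.e 4 a b * g⁻¹ = S.e 4 a b := by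
    have : g * S.e 4 a b = S.e 4 a b * g := S.e_e2 2 q v a b
    rw [this, mul_inv_cancel_right]
  have c7 : g * S.o 3 s * g⁻¹ = S.o 3 s * S.e 3 0 (q * s) := by
    have h1 : g * S.o 3 s = S.o 3 s * g * S.e 3 0 (q * s) := S.e_o1 2 q v s
    have h2 : g * S.e 3 0 (q * s) = S.e 3 0 (q * s) * g :=
      S.comm_Z6 (k := 4) (by norm_num) (by norm_num) (S.mX4 q v) _
    rw [h1, mul_assoc (S.o 3 s), h2, ← mul_assoc, mul_inv_cancel_right]
  have c6 : g * S.e 3 c d * g⁻¹ = S.e 3 c d * S.o 2 (q * c) := by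
    have h1 : g * S.e 3 c d = S.e 3 c d * g * S.o 2 (q * c) := S.e_e1 2 q v c d
    have h2 : g * S.o 2 (q * c) = S.o 2 (q * c) * g := S.e_o0 2 q v _
    rw [h1, mul_assoc (S.e 3 c d), h2, ← mul_assoc, mul_inv_cancel_right]
  have c5 : g * S.o 2 t * g⁻¹ = S.o 2 t := by
    have h2 : g * S.o 2 t = S.o 2 t * g := S.e_o0 2 q v _
    rw [h2, mul_inv_cancel_right]
  have c4 : g * S.e 2 p w * g⁻¹ = S.e 2 p (w + (q * σ p + p * σ q)) := by
    rw [mul_inv_eq_iff_eq_mul, hg, S.e_mul, S.e_mul]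
    congr 1
    · ring
    · have := S.add_self (p * σ q)
      linear_combination - this
  have c3 : g * S.o 1 r * g⁻¹ = S.o 1 r := by
    have h2 : S.o 1 r * g = g * S.o 1 r := S.o_e1 1 r q v
    rw [← h2, mul_inv_cancel_right]
  have c2 : g * S.e 1 e f * g⁻¹ = S.o 1 (e * q) * S.e 1 e f := by
    have h1 : S.e 1 e f * g = g * S.e 1 e f * S.o 1 (e * q) := S.e_e1 1 e f q v
    have h2 : S.o 1 (e * q) * g = g * S.o 1 (e * q) := S.o_e1 1 _ q v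
    have h3 : S.e 1 e f * S.o 1 (e * q) = S.o 1 (e * q) * S.e 1 e f := S.e_o0 1 e f _
    have h4 : S.o 1 (e * q) * S.o 1 (e * q) = 1 := by rw [S.o_add, S.add_self, S.o_zero]
    calc g * S.e 1 e f * g⁻¹ = g * S.e 1 e f * (S.o 1 (e * q) * S.o 1 (e * q)) * g⁻¹ := by rw [h4, mul_one]
      _ = (g * S.e 1 e f * S.o 1 (e * q)) * S.o 1 (e * q) * g⁻¹ := by group
      _ = S.e 1 e f * (g * S.o 1 (e * q)) * g⁻¹ := by rw [← h1]; group
      _ = (S.e 1 e f * S.o 1 (e * q)) * (g * g⁻¹) := by rw [← h2]; group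
      _ = _ := by rw [h3, mul_inv_cancel, mul_one]
  calc g * (S.e 4 a b * (S.o 3 s * (S.e 3 c d * (S.o 2 t * (S.e 2 p w * (S.o 1 r * S.e 1 e f)))))) * g⁻¹ =
      (g * S.e 4 a b * g⁻¹) * ((g * S.o 3 s * g⁻¹) * ((g * S.e 3 c d * g⁻¹) * ((g * S.o 2 t * g⁻¹) *
        ((g * S.e 2 p w * g⁻¹) * ((g * S.o 1 r * g⁻¹) * (g * S.e 1 e f * g⁻¹)))))) := by group
    _ = S.e 4 a b * (S.o 3 s * ((S.e 3 0 (q * s) * S.e 3 c d) * ((S.o 2 (q * c) * S.o 2 t) *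
        (S.e 2 p (w + (q * σ p + p * σ q)) * ((S.o 1 r * S.o 1 (e * q)) * S.e 1 e f))))) := by
      rw [c8, c7, c6, c5, c4, c3, c2]; group
    _ = _ := by
      rw [S.e_mul, S.o_add, S.o_add, zero_add, zero_mul, add_zero, add_comm (q * s), add_comm (q * c)]

theorem split_at {a b c : ℤ} (h1 : a ≤ b) (h2 : b < a + 8) (h3 : b - 1 ≤ c) {y : G} (hy : y ∈ J S.XZ a b) :
    ∃ x ∈ S.XZ b, ∃ y' ∈ J S.XZ a c, y = x * y' := by
  obtain ⟨x, hx, y', hy', e⟩ := S.zsys8.split_rl h1 h2 hy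
  exact ⟨x, hx, y', J_mono le_rfl h3 hy', e⟩

/-- the form of the elements of `⟨X_2, …, X_8⟩` -/
theorem form28 {y : G} (hy : y ∈ J S.XZ 2 8) : ∃ a b s c d t p w r e f, y =
    S.e 4 a b * (S.o 3 s * (S.e 3 c d * (S.o 2 t * (S.e 2 p w * (S.o 1 r * S.e 1 e f))))) := by
  have Z8 := S.zsys8
  obtain ⟨x8, h8, y8, hy8, rfl⟩ := split_at S (a := 2) (b := 8) (c := 7) (by norm_num) (by norm_num) (by norm_num) hy
  obtain ⟨x7, h7, y7, hy7, rfl⟩ := split_at S (a := 2) (b := 7) (c := 6) (by norm_num) (by norm_num) (by norm_num) hy8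
  obtain ⟨x6, h6, y6, hy6, rfl⟩ := split_at S (a := 2) (b := 6) (c := 5) (by norm_num) (by norm_num) (by norm_num) hy7
  obtain ⟨x5, h5, y5, hy5, rfl⟩ := split_at S (a := 2) (b := 5) (c := 4) (by norm_num) (by norm_num) (by norm_num) hy6
  obtain ⟨x4, h4, y4, hy4, rfl⟩ := split_at S (a := 2) (b := 4) (c := 3) (by norm_num) (by norm_num) (by norm_num) hy5
  obtain ⟨x3, h3, y3, hy3, rfl⟩ := split_at S (a := 2) (b := 3) (c := 2) (by norm_num) (by norm_num) (by norm_num) hy4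
  have h2 : y3 ∈ S.XZ 2 := mem_of_J_self hy3 le_rfl
  obtain ⟨a, b, rfl⟩ := S.X8 h8
  obtain ⟨s, rfl⟩ := S.X7 h7
  obtain ⟨c, d, rfl⟩ := S.X6 h6
  obtain ⟨t, rfl⟩ := S.X5 h5
  obtain ⟨p, w, rfl⟩ := S.X4 h4
  obtain ⟨r, rfl⟩ := S.X3 h3
  obtain ⟨e, f, rfl⟩ := S.X2 h2
  exact ⟨a, b, s, c, d, t, p, w, r, e, f, rfl⟩

/-- uniqueness of the top factor -/
theorem uniq_top {k a : ℤ} (ha : k - 8 < a) {x x' y y' : G} (hx : x ∈ S.XZ k) (hx' : x' ∈ S.XZ k)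
    (hy : y ∈ J S.XZ a (k - 1)) (hy' : y' ∈ J S.XZ a (k - 1)) (h : x * y = x' * y') : x = x' ∧ y = y' := by
  have h1 : x'⁻¹ * x = y' * y⁻¹ := by
    rw [inv_mul_eq_iff_eq_mul, ← mul_assoc, eq_mul_inv_iff_mul_eq]; exact h
  have h2 := S.zsys8.inter' (mul_mem (inv_mem hx') hx) (by
    rw [h1]; exact J_mono (by omega) le_rfl (mul_mem hy' (inv_mem hy)))
  have h3 : x = x' := (inv_mul_eq_one.1 h2).symm
  exact ⟨h3, mul_left_cancel (h.trans (by rw [h3]))⟩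

/-- elements of `⟨X_2, …, X_8⟩` commuting with `X_4` -/
theorem form_four {y : G} (hσ : ∃ q, σ q ≠ q) (hy : y ∈ J S.XZ 2 8) (h4 : ∀ x ∈ S.XZ 4, y * x = x * y) :
    ∃ a b d t w r f, y = S.e 4 a b * (S.e 3 0 d * (S.o 2 t * (S.e 2 0 w * (S.o 1 r * S.e 1 0 f)))) := by
  obtain ⟨a, b, s, c, d, t, p, w, r, e, f, rfl⟩ := form28 S hy
  -- comparison of coordinates
  have m2 : ∀ e f, S.e 1 e f ∈ J S.XZ 2 2 := fun e f => mem_J (S.mX2 e f) le_rfl le_rfl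
  have m3 : ∀ r e f, S.o 1 r * S.e 1 e f ∈ J S.XZ 2 3 := fun r e f =>
    mul_mem (mem_J (S.mX3 r) (by norm_num) (by norm_num)) (J_mono le_rfl (by norm_num) (m2 e f))
  have m4 : ∀ p w r e f, S.e 2 p w * (S.o 1 r * S.e 1 e f) ∈ J S.XZ 2 4 := fun p w r e f =>
    mul_mem (mem_J (S.mX4 p w) (by norm_num) (by norm_num)) (J_mono le_rfl (by norm_num) (m3 r e f))
  have m5 : ∀ t p w r e f, S.o 2 t * (S.e 2 p w * (S.o 1 r * S.e 1 e f)) ∈ J S.XZ 2 5 := fun t p w r e f =>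
    mul_mem (mem_J (S.mX5 t) (by norm_num) (by norm_num)) (J_mono le_rfl (by norm_num) (m4 p w r e f))
  have key : ∀ q : F, q * s = 0 ∧ q * c = 0 ∧ q * σ p + p * σ q = 0 ∧ e * q = 0 := by
    intro q
    have h1 := h4 _ (S.mX4 q 0)
    have h2 := conj_four S q 0 a b s c d t p w r e f
    rw [← h1, mul_inv_cancel_right] at h2
    have h3 := mul_left_cancel (mul_left_cancel h2)
    obtain ⟨e6, h5⟩ := uniq_top S (k := 6) (a := 2) (by norm_num) (S.mX6 _ _) (S.mX6 _ _) (m5 _ _ _ _ _ _)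
      (m5 _ _ _ _ _ _) h3
    obtain ⟨e5, h6⟩ := uniq_top S (k := 5) (a := 2) (by norm_num) (S.mX5 _) (S.mX5 _) (m4 _ _ _ _ _) (m4 _ _ _ _ _) h5
    obtain ⟨e4, h7⟩ := uniq_top S (k := 4) (a := 2) (by norm_num) (S.mX4 _ _) (S.mX4 _ _) (m3 _ _ _) (m3 _ _ _) h6
    obtain ⟨e3, -⟩ := uniq_top S (k := 3) (a := 2) (by norm_num) (S.mX3 _) (S.mX3 _) (m2 _ _) (m2 _ _) h7
    exact ⟨left_eq_add.1 (S.injE 3 _ _ _ _ e6).2, left_eq_add.1 (S.injO 2 e5), left_eq_add.1 (S.injE 2 _ _ _ _ e4).2,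
      left_eq_add.1 (S.injO 1 e3)⟩
  obtain ⟨k1, k2, k3, k4⟩ := key 1
  rw [one_mul] at k1 k2
  rw [mul_one] at k4
  rw [map_one, one_mul, mul_one] at k3
  have hσp : σ p = p := by rw [← sub_eq_zero, sub_eq_add_neg, neg_eq S]; exact k3
  obtain ⟨q, hq⟩ := hσ
  obtain ⟨-, -, k5, -⟩ := key q
  have hp : p = 0 := by
    rw [hσp] at k5
    have h1 : p * (σ q - q) = 0 := by
      have := S.add_self (q * p)
      linear_combination k5 - this
    rcases mul_eq_zero.1 h1 with h2 | h2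
    · exact h2
    · exact absurd (sub_eq_zero.1 h2) hq
  refine ⟨a, b, d, t, w, r, f, ?_⟩
  rw [k1, k2, k4, hp, S.o_zero, one_mul]

theorem k6a {y : G} (hσ : ∃ q, σ q ≠ q) (h4 : ∀ x ∈ S.XZ 4, y * x = x * y) (h6 : ∀ z ∈ S.Zc 3, y * z = z * y) :
    y ∈ S.Q2 ⊔ S.XZ 8 := by
  have hy : y ∈ J S.XZ 2 8 := k7 S (fun z hz => h4 z (Cfsg.Agent.OddHalf.D7TwF4.Growth.KInst.Zc_le4 S hz)) h6
  obtain ⟨a, b, d, t, w, r, f, rfl⟩ := form_four S hσ hy h4
  exact mul_mem (Subgroup.mem_sup_right (S.mX8 a b)) (Subgroup.mem_sup_left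
    (mul_mem (S.q2_5 d) (mul_mem (S.q2_4 t) (mul_mem (S.q2_3 w) (mul_mem (S.q2_2 r) (S.q2_1 f))))))

/-! ### `k6b` -/

/-- the torus part of an element `b t ∈ PL` -/
theorem tor_of {b t : G} (hb : b ∈ J S.XZ 1 8) (ht : t ∈ S.T) (h : b * t ∈ S.PL) : t ∈ S.Tk 4 := by
  refine tor S ht ?_
  have e : t = b⁻¹ * (b * t) := by group
  rw [e]
  exact mul_mem (inv_mem (J_mono (by norm_num) le_rfl hb)) h

theorem conj_eight (q a b d t w : F) :
    S.e 4 q 0 * (S.e 4 a b * (S.e 3 0 d * (S.o 2 t * S.e 2 0 w))) * (S.e 4 q 0)⁻¹ =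
    S.e 4 a (b + (q * σ a + a * σ q)) * (S.e 3 0 (d + t * q) * (S.o 2 t * S.e 2 0 w)) := by
  set g := S.e 4 q 0 with hg
  have c4 : g * S.e 4 a b * g⁻¹ = S.e 4 a (b + (q * σ a + a * σ q)) := by
    rw [mul_inv_eq_iff_eq_mul, hg, S.e_mul, S.e_mul]
    congr 1
    · ring
    · have := S.add_self (a * σ q)
      linear_combination - this
  have c3 : g * S.e 3 0 d * g⁻¹ = S.e 3 0 d := by
    rw [S.comm_Z6 (k := 8) (by norm_num) (by norm_num) (S.mX8 q 0) d, mul_inv_cancel_right]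
  have c1 : g * S.e 2 0 w * g⁻¹ = S.e 2 0 w := by
    rw [S.comm_Z4 (k := 8) (by norm_num) (by norm_num) (S.mX8 q 0) w, mul_inv_cancel_right]
  have c2 : g * S.o 2 t * g⁻¹ = S.e 3 0 (t * q) * S.o 2 t := by
    have h1 : S.o 2 t * g = g * S.o 2 t * S.e 3 0 (t * q) := S.o_e2 2 t q 0
    have h2 : S.o 2 t * S.e 3 0 (t * q) = S.e 3 0 (t * q) * S.o 2 t :=
      S.comm_Z6 (k := 5) (by norm_num) (by norm_num) (S.mX5 t) _
    have h3 : g * S.e 3 0 (t * q) = S.e 3 0 (t * q) * g :=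
      S.comm_Z6 (k := 8) (by norm_num) (by norm_num) (S.mX8 q 0) _
    have h4 : S.e 3 0 (t * q) * S.e 3 0 (t * q) = 1 := by rw [S.e_mul_Zc, S.add_self, S.e_zero]
    calc g * S.o 2 t * g⁻¹ = g * S.o 2 t * (S.e 3 0 (t * q) * S.e 3 0 (t * q)) * g⁻¹ := by rw [h4, mul_one]
      _ = (g * S.o 2 t * S.e 3 0 (t * q)) * S.e 3 0 (t * q) * g⁻¹ := by group
      _ = S.o 2 t * (g * S.e 3 0 (t * q)) * g⁻¹ := by rw [← h1]; group
      _ = S.o 2 t * S.e 3 0 (t * q) := by rw [h3]; group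
      _ = _ := h2
  calc g * (S.e 4 a b * (S.e 3 0 d * (S.o 2 t * S.e 2 0 w))) * g⁻¹ =
      (g * S.e 4 a b * g⁻¹) * ((g * S.e 3 0 d * g⁻¹) * ((g * S.o 2 t * g⁻¹) * (g * S.e 2 0 w * g⁻¹))) := by group
    _ = S.e 4 a (b + (q * σ a + a * σ q)) * ((S.e 3 0 d * S.e 3 0 (t * q)) * (S.o 2 t * S.e 2 0 w)) := by
      rw [c4, c3, c2, c1]; group
    _ = _ := by rw [S.e_mul_Zc]

theorem k6b {y : G} (hσ : ∃ q, σ q ≠ q) (hP : y ∈ S.PL) (h4 : ∀ x ∈ S.XZ 4, y * x = x * y)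
    (h8 : ∀ x ∈ S.XZ 8, y * x = x * y) : y ∈ S.Zc 2 ⊔ S.Zc 3 ⊔ S.Zc 4 := by
  have Z8 := S.zsys8
  rcases S.form_PL hP with ⟨b, hb, t, ht, rfl⟩ | ⟨b, hb, t, ht, x, hx, rfl⟩
  · -- `t = 1`
    have hn : S.e 4 1 0 ≠ 1 := fun h => one_ne_zero (S.e_eq_one h).1
    have ht4 := tor_of S hb ht hP
    have ht1 : t = 1 := by
      by_contra ht1
      obtain ⟨b7, hb7, x8, hx8, rfl⟩ := Z8.split_rr (a := 1) (b := 8) (by norm_num) (by norm_num) hb
      have h1 := h8 _ (S.mX8 1 0)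
      have hx' : t * S.e 4 1 0 * t⁻¹ ∈ S.XZ 8 := S.T_conj ht 8 (S.mX8 1 0)
      set g' := x8 * (t * S.e 4 1 0 * t⁻¹) * x8⁻¹ with hg'
      have hg8 : g' ∈ S.XZ 8 := mul_mem (mul_mem hx8 hx') (inv_mem hx8)
      have h2 : ⁅b7, g'⁆ = S.e 4 1 0 * g'⁻¹ := by
        rw [commutatorElement_def, hg']
        have e : b7 * (x8 * (t * S.e 4 1 0 * t⁻¹) * x8⁻¹) * b7⁻¹ = S.e 4 1 0 := by
          calc b7 * (x8 * (t * S.e 4 1 0 * t⁻¹) * x8⁻¹) * b7⁻¹ = (b7 * x8 * t * S.e 4 1 0) * (b7 * x8 * t)⁻¹ := by group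
            _ = _ := by rw [h1]; group
        rw [e]
      have h3 : ⁅b7, g'⁆ ∈ J S.XZ (1 + 1) (8 - 1) := Z8.comm_J_right (a := 1) (b := 8 - 1) (d := 8) (by norm_num)
        (by norm_num) hb7 hg8
      have h5 : ⁅b7, g'⁆ = 1 := Z8.inter' (k := 8) (by rw [h2]; exact mul_mem (S.mX8 1 0) (inv_mem hg8))
        (J_mono (by norm_num) (by norm_num) h3)
      rw [h2, mul_inv_eq_one, hg'] at h5
      obtain ⟨a, c, rfl⟩ := S.X8 hx8
      obtain ⟨c', d', rfl⟩ := S.mem_T.1 ht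
      rw [S.h_e, mul_zero, eq_mul_inv_iff_mul_eq, S.e_mul, S.e_mul] at h5
      have h6 := (S.injE 4 _ _ _ _ h5).1
      have h7 : (chE σ 4 c' d' : F) * 1 = 1 := by
        rw [add_comm] at h6
        exact (add_left_cancel h6).symm
      have h9 : S.h c' d' * S.e 4 1 0 * (S.h c' d')⁻¹ = S.e 4 1 0 := by rw [S.h_e, mul_zero, h7]
      exact hn (S.fpf (k := 4) (j := 8) (by norm_num) ht4 ht1 (S.mX8 1 0) h9)
    subst ht1
    rw [mul_one] at h4 h8 ⊢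
    have hb4 : b ∈ J S.XZ (8 - 4) 8 := Z8.comm_bot (k := 8) (a := 1) (r := 4) (by norm_num) (by norm_num) (S.mX8 1 0) hn
      hb (h8 _ (S.mX8 1 0))
    obtain ⟨a, c, d, t, w, r, f, rfl⟩ := form_four S hσ (J_mono (by norm_num) le_rfl hb4) h4
    have h48 : ∀ k : ℤ, 4 ≤ k → k ≤ 8 → ∀ x ∈ S.XZ k, x ∈ J S.XZ (8 - 4) 8 := fun k h1 h2 x hx =>
      mem_J hx (by omega) h2
    have h1 : S.o 1 r * S.e 1 0 f ∈ J S.XZ (8 - 4) 8 := by
      have h2 := mul_mem (inv_mem (mul_mem (mul_mem (h48 8 (by norm_num) (by norm_num) _ (S.mX8 a c))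
        (h48 6 (by norm_num) (by norm_num) _ (S.mX6 0 d))) (mul_mem (h48 5 (by norm_num) (by norm_num) _ (S.mX5 t))
        (h48 4 (by norm_num) (by norm_num) _ (S.mX4 0 w))))) hb4
      have e : (S.e 4 a c * S.e 3 0 d * (S.o 2 t * S.e 2 0 w))⁻¹ *
          (S.e 4 a c * (S.e 3 0 d * (S.o 2 t * (S.e 2 0 w * (S.o 1 r * S.e 1 0 f))))) = S.o 1 r * S.e 1 0 f := by group
      rwa [e] at h2
    have h2 : S.o 1 r * S.e 1 0 f ∈ J S.XZ 2 3 :=
      mul_mem (mem_J (S.mX3 r) (by norm_num) (by norm_num)) (mem_J (S.mX2 0 f) (by norm_num) (by norm_num))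
    have h3 := Z8.inter_one 1 h1 h2 (by norm_num) (by norm_num) (by norm_num) (by norm_num) (Or.inr (by norm_num))
    rw [h3, mul_one] at h8 ⊢
    have m4 : S.e 2 0 w ∈ J S.XZ 2 4 := mem_J (S.mX4 0 w) (by norm_num) (by norm_num)
    have m5 : S.o 2 t * S.e 2 0 w ∈ J S.XZ 2 5 := mul_mem (mem_J (S.mX5 t) (by norm_num) (by norm_num))
      (J_mono le_rfl (by norm_num) m4)
    have m6 : ∀ d, S.e 3 0 d * (S.o 2 t * S.e 2 0 w) ∈ J S.XZ 2 7 := fun d =>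
      mul_mem (mem_J (S.mX6 0 d) (by norm_num) (by norm_num)) (J_mono le_rfl (by norm_num) m5)
    have key : ∀ q, q * σ a + a * σ q = 0 ∧ t * q = 0 := by
      intro q
      have h5 := h8 _ (S.mX8 q 0)
      have h6 := conj_eight S q a c d t w
      rw [← h5, mul_inv_cancel_right] at h6
      obtain ⟨e8, h7⟩ := uniq_top S (k := 8) (a := 2) (by norm_num) (S.mX8 _ _) (S.mX8 _ _) (m6 _) (m6 _) h6
      obtain ⟨e6, -⟩ := uniq_top S (k := 6) (a := 2) (by norm_num) (S.mX6 _ _) (S.mX6 _ _) m5 m5 h7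
      exact ⟨left_eq_add.1 (S.injE 4 _ _ _ _ e8).2, left_eq_add.1 (S.injE 3 _ _ _ _ e6).2⟩
    obtain ⟨k1, k2⟩ := key 1
    rw [mul_one] at k2
    rw [map_one, one_mul, mul_one] at k1
    have hσa : σ a = a := by rw [← sub_eq_zero, sub_eq_add_neg, neg_eq S]; exact k1
    obtain ⟨q, hq⟩ := hσ
    obtain ⟨k3, -⟩ := key q
    have ha : a = 0 := by
      rw [hσa] at k3
      have h1 : a * (σ q - q) = 0 := by
        have := S.add_self (q * a)
        linear_combination k3 - this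
      rcases mul_eq_zero.1 h1 with h2 | h2
      · exact h2
      · exact absurd (sub_eq_zero.1 h2) hq
    rw [ha, k2, S.o_zero, one_mul]
    exact mul_mem (Subgroup.mem_sup_right ⟨c, rfl⟩) (mul_mem (Subgroup.mem_sup_left (Subgroup.mem_sup_right ⟨d, rfl⟩))
      (Subgroup.mem_sup_left (Subgroup.mem_sup_left ⟨w, rfl⟩)))
  · exfalso
    have h1 := h8 _ (S.mX8 0 1)
    have h2 : x * S.e 4 0 1 = S.e 4 0 1 * x := by
      obtain ⟨a, c, rfl⟩ := S.X8 hx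
      rw [S.e_mul, S.e_mul, map_zero, mul_zero, zero_mul, add_zero, add_zero, add_zero, zero_add, add_comm]
    have h3 : t * (S.n2 * S.e 4 0 1 * S.n2⁻¹) * t⁻¹ = b⁻¹ * S.e 4 0 1 * b := by
      calc t * (S.n2 * S.e 4 0 1 * S.n2⁻¹) * t⁻¹ = b⁻¹ * (b * (t * S.n2) * (S.e 4 0 1 * x)) * x⁻¹ * (t * S.n2)⁻¹ := by group
        _ = b⁻¹ * ((b * (t * S.n2) * x) * S.e 4 0 1) * x⁻¹ * (t * S.n2)⁻¹ := by rw [← h2]; group
        _ = _ := by rw [h1]; group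
    have h5 : t * (S.n2 * S.e 4 0 1 * S.n2⁻¹) * t⁻¹ ∈ S.XZ 0 := S.T_conj ht 0 (S.n2_refl.mem' (S.mX8 0 1) (by norm_num))
    have h6 : b⁻¹ * S.e 4 0 1 * b ∈ J S.XZ 1 8 := mul_mem (mul_mem (inv_mem hb) (mem_J (S.mX8 0 1) (by norm_num) le_rfl)) hb
    have h7 := (S.J07_inf_UT h5 h6 S.T.one_mem (by rw [mul_one]; exact h3)).2.1
    have h9 : S.e 4 0 1 = 1 := by
      have e : S.e 4 0 1 = b * (b⁻¹ * S.e 4 0 1 * b) * b⁻¹ := by group
      rw [e, h7]; group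
    exact one_ne_zero (S.e_eq_one h9).2

/-! ### `k5`, `k8` -/

theorem t_one {b t w : G} (hb : b ∈ J S.XZ 1 8) (ht : t ∈ S.Tk 4) (hw : w ∈ S.W46)
    (h : (b * t) * S.o 2 1 * (b * t)⁻¹ = w * S.o 2 1) : t = 1 := by
  by_contra ht1
  have hbi : b⁻¹ ∈ J S.XZ 1 9 := inv_mem (J_mono le_rfl (by norm_num) hb)
  have h1 : t * S.o 2 1 * t⁻¹ * (S.o 2 1)⁻¹ = (b⁻¹ * w * b⁻¹⁻¹) * (b⁻¹ * S.o 2 1 * b⁻¹⁻¹ * (S.o 2 1)⁻¹) := by
    calc t * S.o 2 1 * t⁻¹ * (S.o 2 1)⁻¹ = b⁻¹ * ((b * t) * S.o 2 1 * (b * t)⁻¹) * b * (S.o 2 1)⁻¹ := by group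
      _ = _ := by rw [h]; group
  have h2 : t * S.o 2 1 * t⁻¹ * (S.o 2 1)⁻¹ ∈ S.W46 := by
    rw [h1]; exact mul_mem (S.W46_conj hbi hw) (S.comm_five hbi (S.mX5 1))
  have h3 := S.W46_inf h2 (mul_mem (S.T_conj ht.1 5 (S.mX5 1)) (inv_mem (S.mX5 1)))
  exact one_ne_zero (S.o_eq_one (S.fpf (k := 4) (j := 5) (by norm_num) ht ht1 (S.mX5 1) (mul_inv_eq_one.1 h3)))

/-- `J 3 5` commutes with `X_3` -/
theorem J35_comm {r : G} (hr : r ∈ J S.XZ 3 5) (s : F) : r * S.o 1 s = S.o 1 s * r := by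
  have : J S.XZ 3 5 ≤ Subgroup.centralizer {S.o 1 s} := J_le fun k h1 h2 x hx => by
    rw [Subgroup.mem_centralizer_singleton_iff]
    interval_cases k
    · obtain ⟨t, rfl⟩ := S.X3 hx
      rw [S.o_add, S.o_add, add_comm]
    · obtain ⟨q, v, rfl⟩ := S.X4 hx
      exact (S.o_e1 1 s q v).symm
    · obtain ⟨t, rfl⟩ := S.X5 hx
      exact (S.o_o1 1 s t).symm
  exact Subgroup.mem_centralizer_singleton_iff.1 (this hr)

theorem k5 {y : G} (hP : y ∈ S.PL) (h3 : ∀ x ∈ S.XZ 3, y * x = x * y) (h5 : ∀ x ∈ S.XZ 5, y * x = x * y) :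
    y ∈ S.Q1 ⊔ S.XZ 7 ⊔ S.XZ 1 := by
  have Z8 := S.zsys8
  rcases S.form_PL hP with ⟨b, hb, t, ht, rfl⟩ | ⟨b, hb, t, ht, x, hx, rfl⟩
  · have ht1 : t = 1 := t_one S hb (tor_of S hb ht hP) (one_mem _) (by
      rw [one_mul, h5 _ (S.mX5 1), mul_inv_cancel_right])
    subst ht1
    rw [mul_one] at h3 h5 ⊢
    obtain ⟨x1, hx1, q, hq, rfl⟩ := Z8.split_ll (a := 1) (b := 8) (by norm_num) (by norm_num) hb
    obtain ⟨s1, rfl⟩ := S.X1 hx1
    have c5 : S.o 0 s1 * S.o 2 1 = S.o 2 1 * S.o 0 s1 := S.o_o2 0 s1 1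
    have c3 : S.o 0 s1 * S.o 1 1 = S.o 1 1 * S.o 0 s1 := S.o_o1 0 s1 1
    have q5 : q * S.o 2 1 = S.o 2 1 * q := by
      have h1 := h5 _ (S.mX5 1)
      rw [← mul_assoc (S.o 2 1), ← c5, mul_assoc, mul_assoc] at h1
      exact mul_left_cancel h1
    have q3 : q * S.o 1 1 = S.o 1 1 * q := by
      have h1 := h3 _ (S.mX3 1)
      rw [← mul_assoc (S.o 1 1), ← c3, mul_assoc, mul_assoc] at h1
      exact mul_left_cancel h1
    obtain ⟨u, v, r, hr, rfl⟩ := S.mem_NO_iff.1 (S.mem_NO_of_comm (J_mono (by norm_num) le_rfl hq) one_ne_zero q5)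
    obtain ⟨x7, hx7, r6, hr6, rfl⟩ := split_at S (a := 3) (b := 7) (c := 6) (by norm_num) (by norm_num) (by norm_num) hr
    obtain ⟨x6, hx6, r, hr', rfl⟩ := split_at S (a := 3) (b := 6) (c := 5) (by norm_num) (by norm_num) (by norm_num) hr6
    obtain ⟨s, rfl⟩ := S.X7 hx7
    obtain ⟨c, d, rfl⟩ := S.X6 hx6
    have r28 : ∀ k : ℤ, 2 ≤ k → k ≤ 8 → ∀ x ∈ S.XZ k, ∀ w ∈ S.W46, x * w * x⁻¹ = w := fun k h1 h2 x hx w hw => by
      rw [S.W46_comm (mem_J hx h1 h2) hw, mul_inv_cancel_right]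
    -- conjugation of `o 1 1`
    have hE : S.e 4 0 v * S.o 1 1 * (S.e 4 0 v)⁻¹ = S.o 1 1 * S.e 3 0 v := by
      have h1 : S.o 1 1 * S.e 4 0 v = S.e 4 0 v * S.o 1 1 * S.e 2 0 (σ 1 * 0) * S.o 2 (1 * σ 0) *
          S.e 3 0 (1 * 0 * σ 0 + 1 * v) := S.o_e3 1 1 0 v
      rw [map_zero, mul_zero, mul_zero, mul_zero, zero_add, one_mul, S.o_zero, S.e_zero, mul_one, mul_one] at h1
      have h2 := S.comm_Z6 (k := 8) (by norm_num) (by norm_num) (S.mX8 0 v) v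
      have h4 : S.e 3 0 v * S.e 3 0 v = 1 := by rw [S.e_mul_Zc, S.add_self, S.e_zero]
      rw [mul_inv_eq_iff_eq_mul]
      calc S.e 4 0 v * S.o 1 1 = S.e 4 0 v * S.o 1 1 * S.e 3 0 v * S.e 3 0 v := by
            rw [mul_assoc (S.e 4 0 v * S.o 1 1), h4, mul_one]
        _ = S.o 1 1 * (S.e 4 0 v * S.e 3 0 v) := by rw [← h1]; group
        _ = _ := by rw [h2]; group
    have hD : r * (S.o 1 1 * S.e 3 0 v) * r⁻¹ = S.o 1 1 * S.e 3 0 v := by
      have h1 := J35_comm S hr' 1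
      have h2 := S.W46_comm (J_mono (by norm_num) (by norm_num) hr') (S.Z6_W46 v)
      calc r * (S.o 1 1 * S.e 3 0 v) * r⁻¹ = (r * S.o 1 1) * S.e 3 0 v * r⁻¹ := by group
        _ = S.o 1 1 * (r * S.e 3 0 v) * r⁻¹ := by rw [h1]; group
        _ = _ := by rw [h2]; group
    have hC : S.e 3 c d * (S.o 1 1 * S.e 3 0 v) * (S.e 3 c d)⁻¹ = S.o 1 1 * S.e 2 0 c * S.e 3 0 v := by
      have h1 : S.o 1 1 * S.e 3 c d = S.e 3 c d * S.o 1 1 * S.e 2 0 (1 * c) := S.o_e2 1 1 c d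
      rw [one_mul] at h1
      have h2 := r28 6 (by norm_num) (by norm_num) _ (S.mX6 c d) _ (S.Z6_W46 v)
      have h3 := S.W46_comm (mem_J (S.mX6 c d) (by norm_num) (by norm_num)) (S.Z4_W46 c)
      have h4 : S.e 2 0 c * S.e 2 0 c = 1 := by rw [S.e_mul_Zc, S.add_self, S.e_zero]
      have h6 : S.e 3 c d * S.o 1 1 = S.o 1 1 * S.e 2 0 c * S.e 3 c d := by
        calc S.e 3 c d * S.o 1 1 = S.e 3 c d * S.o 1 1 * S.e 2 0 c * S.e 2 0 c := by
              rw [mul_assoc (S.e 3 c d * S.o 1 1), h4, mul_one]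
          _ = S.o 1 1 * (S.e 3 c d * S.e 2 0 c) := by rw [← h1]; group
          _ = _ := by rw [h3]; group
      calc S.e 3 c d * (S.o 1 1 * S.e 3 0 v) * (S.e 3 c d)⁻¹ = (S.e 3 c d * S.o 1 1) * S.e 3 0 v * (S.e 3 c d)⁻¹ := by group
        _ = S.o 1 1 * S.e 2 0 c * (S.e 3 c d * S.e 3 0 v * (S.e 3 c d)⁻¹) := by rw [h6]; group
        _ = _ := by rw [h2]
    have hW : ∀ k : ℤ, 2 ≤ k → k ≤ 8 → ∀ x ∈ S.XZ k, x * S.o 1 1 = S.o 1 1 * x →
        x * (S.o 1 1 * S.e 2 0 c * S.e 3 0 v) * x⁻¹ = S.o 1 1 * S.e 2 0 c * S.e 3 0 v := by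
      intro k h1 h2 x hx hxo
      have h3 := S.W46_comm (mem_J hx h1 h2) (mul_mem (S.Z4_W46 c) (S.Z6_W46 v))
      calc x * (S.o 1 1 * S.e 2 0 c * S.e 3 0 v) * x⁻¹ = (x * S.o 1 1) * (S.e 2 0 c * S.e 3 0 v) * x⁻¹ := by group
        _ = S.o 1 1 * (x * (S.e 2 0 c * S.e 3 0 v)) * x⁻¹ := by rw [hxo]; group
        _ = _ := by rw [h3]; group
    have hB := hW 7 (by norm_num) (by norm_num) _ (S.mX7 s) (S.o_o2 1 1 s).symm
    have hA := hW 2 (by norm_num) (by norm_num) _ (S.mX2 0 u) (S.e_o0 1 0 u 1)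
    have hq1 : S.o 1 1 = S.o 1 1 * S.e 2 0 c * S.e 3 0 v := by
      calc S.o 1 1 = (S.e 1 0 u * (S.o 3 s * (S.e 3 c d * r)) * S.e 4 0 v * S.o 1 1) *
            (S.e 1 0 u * (S.o 3 s * (S.e 3 c d * r)) * S.e 4 0 v)⁻¹ := by rw [q3, mul_inv_cancel_right]
        _ = S.e 1 0 u * (S.o 3 s * (S.e 3 c d * (r * (S.e 4 0 v * S.o 1 1 * (S.e 4 0 v)⁻¹) * r⁻¹) * (S.e 3 c d)⁻¹) *
            (S.o 3 s)⁻¹) * (S.e 1 0 u)⁻¹ := by group
        _ = _ := by rw [hE, hD, hC, hB, hA]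
    rw [mul_assoc] at hq1
    have hq2 := left_eq_mul.1 hq1
    have hc4 : S.e 2 0 c = 1 := S.X_inf_near (i := 4) (j := 6) (by norm_num) (by norm_num) (S.mX4 0 c) (by
      rw [mul_eq_one_iff_eq_inv.1 hq2]; exact inv_mem (S.mX6 0 v))
    have hc := (S.e_eq_one hc4).2
    rw [hc4, one_mul] at hq2
    have hv := (S.e_eq_one hq2).2
    rw [hc, hv, S.e_zero, mul_one]
    have hr35 : r ∈ S.Q1 := by
      have : J S.XZ 3 5 ≤ S.Q1 := J_le fun k h1 h2 x hx => by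
        interval_cases k
        · obtain ⟨t, rfl⟩ := S.X3 hx
          exact Subgroup.mem_sup_right (S.q2_2 t)
        · exact Subgroup.mem_sup_left hx
        · obtain ⟨t, rfl⟩ := S.X5 hx
          exact Subgroup.mem_sup_right (S.q2_4 t)
      exact this hr'
    refine mul_mem (Subgroup.mem_sup_right (S.mX1 s1)) (Subgroup.mem_sup_left (mul_mem ?_ (mul_mem
      (Subgroup.mem_sup_right (S.mX7 s)) (mul_mem ?_ (Subgroup.mem_sup_left hr35)))))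
    · exact Subgroup.mem_sup_left (Subgroup.mem_sup_right (S.q2_1 u))
    · exact Subgroup.mem_sup_left (Subgroup.mem_sup_right (S.q2_5 d))
  · exfalso
    have hbi : b⁻¹ ∈ J S.XZ 1 9 := inv_mem (J_mono le_rfl (by norm_num) hb)
    have h1 : x * S.o 2 1 * x⁻¹ ∈ J S.XZ 5 7 := by
      have e : x * S.o 2 1 * x⁻¹ = ⁅x, S.o 2 1⁆ * S.o 2 1 := by
        rw [commutatorElement_def]; group
      rw [e]
      exact mul_mem (J_mono (by norm_num) (by norm_num)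
        (Z8.comm' (k := 8) (l := 5) (by norm_num) (by norm_num) hx (S.mX5 1)))
        (mem_J (S.mX5 1) (by norm_num) (by norm_num))
    have h2 : t * (S.n2 * (x * S.o 2 1 * x⁻¹) * S.n2⁻¹) * t⁻¹ ∈ J S.XZ 1 3 :=
      S.T_conj_J ht (S.n2_refl.mem_J h1 (by norm_num) (by norm_num))
    have h4 : t * (S.n2 * (x * S.o 2 1 * x⁻¹) * S.n2⁻¹) * t⁻¹ = b⁻¹ * S.o 2 1 * b⁻¹⁻¹ := by
      have h6 := h5 _ (S.mX5 1)
      calc t * (S.n2 * (x * S.o 2 1 * x⁻¹) * S.n2⁻¹) * t⁻¹ =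
          b⁻¹ * ((b * (t * S.n2) * x) * S.o 2 1) * (b * (t * S.n2) * x)⁻¹ * b⁻¹⁻¹ := by group
        _ = _ := by rw [h6]; group
    have h6 : b⁻¹ * S.o 2 1 * b⁻¹⁻¹ ∈ J S.XZ 4 6 := by
      have e : b⁻¹ * S.o 2 1 * b⁻¹⁻¹ = (b⁻¹ * S.o 2 1 * b⁻¹⁻¹ * (S.o 2 1)⁻¹) * S.o 2 1 := by group
      rw [e]
      exact mul_mem (S.W46_le (S.comm_five hbi (S.mX5 1))) (mem_J (S.mX5 1) (by norm_num) (by norm_num))
    rw [h4] at h2
    have h7 := Z8.inter_one 1 h2 h6 (by norm_num) (by norm_num) (by norm_num) (by norm_num) (Or.inl (by norm_num))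
    have h8 : S.o 2 1 = 1 := by
      have e : S.o 2 1 = b * (b⁻¹ * S.o 2 1 * b⁻¹⁻¹) * b⁻¹ := by group
      rw [e, h7]; group
    exact one_ne_zero (S.o_eq_one h8)

/-- `[J 1 7, X_3] ≤ Z_4` -/
theorem J17_three {b : G} (hb : b ∈ J S.XZ 1 7) : ∀ s, b * S.o 1 s * b⁻¹ * (S.o 1 s)⁻¹ ∈ S.Zc 2 := by
  let D : Subgroup G :=
    { carrier := {g | g ∈ S.PL ∧ ∀ s, g * S.o 1 s * g⁻¹ * (S.o 1 s)⁻¹ ∈ S.Zc 2}
      one_mem' := ⟨one_mem _, fun s => by
        have e : (1 : G) * S.o 1 s * 1⁻¹ * (S.o 1 s)⁻¹ = 1 := by group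
        rw [e]; exact one_mem _⟩
      mul_mem' := by
        rintro a b ⟨ha, ha'⟩ ⟨hb, hb'⟩
        refine ⟨mul_mem ha hb, fun s => ?_⟩
        have e : a * b * S.o 1 s * (a * b)⁻¹ * (S.o 1 s)⁻¹ =
            (a * (b * S.o 1 s * b⁻¹ * (S.o 1 s)⁻¹)) * a⁻¹ * (a * S.o 1 s * a⁻¹ * (S.o 1 s)⁻¹) := by group
        rw [e, S.comm_PL ha (hb' s), mul_inv_cancel_right]
        exact mul_mem (hb' s) (ha' s)
      inv_mem' := by
        rintro a ⟨ha, ha'⟩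
        refine ⟨inv_mem ha, fun s => ?_⟩
        have e : a⁻¹ * S.o 1 s * a⁻¹⁻¹ * (S.o 1 s)⁻¹ = (a⁻¹ * (a * S.o 1 s * a⁻¹ * (S.o 1 s)⁻¹)⁻¹) * a := by group
        rw [e, S.comm_PL (inv_mem ha) (inv_mem (ha' s)), inv_mul_cancel_right]
        exact inv_mem (ha' s) }
  have hle : J S.XZ 1 7 ≤ D := by
    refine J_le fun k h1 h2 x hx => ⟨mem_J hx (by omega) (by omega), fun s => ?_⟩
    have hc : x * S.o 1 s = S.o 1 s * x → x * S.o 1 s * x⁻¹ * (S.o 1 s)⁻¹ ∈ S.Zc 2 := fun h => by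
      rw [h, mul_inv_cancel_right, mul_inv_cancel]; exact one_mem _
    interval_cases k
    · obtain ⟨t, rfl⟩ := S.X1 hx
      exact hc (S.o_o1 0 t s)
    · obtain ⟨q, v, rfl⟩ := S.X2 hx
      exact hc (S.e_o0 1 q v s)
    · obtain ⟨t, rfl⟩ := S.X3 hx
      exact hc (by rw [S.o_add, S.o_add, add_comm])
    · obtain ⟨q, v, rfl⟩ := S.X4 hx
      exact hc (S.o_e1 1 s q v).symm
    · obtain ⟨t, rfl⟩ := S.X5 hx
      exact hc (S.o_o1 1 s t).symm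
    · obtain ⟨q, v, rfl⟩ := S.X6 hx
      have h1 : S.o 1 s * S.e 3 q v = S.e 3 q v * S.o 1 s * S.e 2 0 (s * q) := S.o_e2 1 s q v
      have h2 := S.comm_Z4 (k := 6) (by norm_num) (by norm_num) (S.mX6 q v) (s * q)
      have h3 := S.comm_Z4 (k := 3) (by norm_num) (by norm_num) (S.mX3 s) (s * q)
      have h4 : S.e 3 q v * S.o 1 s * (S.e 3 q v)⁻¹ * (S.o 1 s)⁻¹ = (S.e 2 0 (s * q))⁻¹ := by
        have h5 : S.e 3 q v * (S.e 2 0 (s * q))⁻¹ = (S.e 2 0 (s * q))⁻¹ * S.e 3 q v :=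
          (show Commute _ _ from h2).inv_right.eq
        have h6 : S.o 1 s * (S.e 2 0 (s * q))⁻¹ = (S.e 2 0 (s * q))⁻¹ * S.o 1 s :=
          (show Commute _ _ from h3).inv_right.eq
        calc S.e 3 q v * S.o 1 s * (S.e 3 q v)⁻¹ * (S.o 1 s)⁻¹ =
            (S.e 3 q v * S.o 1 s * S.e 2 0 (s * q)) * (S.e 2 0 (s * q))⁻¹ * (S.e 3 q v)⁻¹ * (S.o 1 s)⁻¹ := by group
          _ = S.o 1 s * (S.e 3 q v * (S.e 2 0 (s * q))⁻¹) * (S.e 3 q v)⁻¹ * (S.o 1 s)⁻¹ := by rw [← h1]; group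
          _ = (S.o 1 s * (S.e 2 0 (s * q))⁻¹) * (S.o 1 s)⁻¹ := by rw [h5]; group
          _ = _ := by rw [h6, mul_inv_cancel_right]
      rw [h4]
      exact inv_mem ⟨_, rfl⟩
    · obtain ⟨t, rfl⟩ := S.X7 hx
      exact hc (S.o_o2 1 s t).symm
  exact (hle hb).2

theorem k8 {y : G} (hP : y ∈ S.PL) (h : ∀ x ∈ S.Q2, y * x * y⁻¹ * x⁻¹ ∈ S.Zc 2) : y ∈ J S.XZ 1 7 := by
  have Z8 := S.zsys8
  rcases S.form_PL hP with ⟨b, hb, t, ht, rfl⟩ | ⟨b, hb, t, ht, x, hx, rfl⟩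
  · have ht1 : t = 1 := by
      obtain ⟨u, hu⟩ := h _ (S.q2_4 1)
      refine t_one S hb (tor_of S hb ht hP) (S.Z4_W46 u) ?_
      rw [hu]; group
    subst ht1
    rw [mul_one] at h ⊢
    obtain ⟨b7, hb7, x, hx, rfl⟩ := Z8.split_rr (a := 1) (b := 8) (by norm_num) (by norm_num) hb
    have hb7' : b7 ∈ J S.XZ 1 7 := J_mono le_rfl (by norm_num) hb7
    obtain ⟨q, v, rfl⟩ := S.X8 hx
    have hPL : ∀ b ∈ J S.XZ 1 8, ∀ z ∈ S.Zc 2, b * z * b⁻¹ = z := fun b hb z hz => by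
      rw [S.comm_PL (J_mono (by norm_num) le_rfl hb) hz, mul_inv_cancel_right]
    -- `x⁻¹ o₁ x o₁⁻¹ ∈ Z_4`
    have h1 : (S.e 4 q v)⁻¹ * S.o 1 1 * S.e 4 q v * (S.o 1 1)⁻¹ ∈ S.Zc 2 := by
      have h2 := inv_mem (h _ (S.q2_2 1))
      have h3 := J17_three S (inv_mem hb7') 1
      have e : (S.e 4 q v)⁻¹ * S.o 1 1 * S.e 4 q v * (S.o 1 1)⁻¹ =
          ((S.e 4 q v)⁻¹ * (b7⁻¹ * S.o 1 1 * b7⁻¹⁻¹ * (S.o 1 1)⁻¹)⁻¹ * (S.e 4 q v)⁻¹⁻¹) *
          ((b7 * S.e 4 q v)⁻¹ * (b7 * S.e 4 q v * S.o 1 1 * (b7 * S.e 4 q v)⁻¹ * (S.o 1 1)⁻¹)⁻¹ *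
            (b7 * S.e 4 q v)⁻¹⁻¹) := by group
      rw [e, hPL _ (inv_mem (mem_J (S.mX8 q v) (by norm_num) le_rfl)) _ (inv_mem h3), hPL _ (inv_mem hb) _ h2]
      exact mul_mem (inv_mem h3) h2
    have h2 : S.o 1 1 * S.e 4 q v = S.e 4 q v * S.o 1 1 * S.e 2 0 (σ 1 * q) * S.o 2 (1 * σ q) *
        S.e 3 0 (1 * q * σ q + 1 * v) := S.o_e3 1 1 q v
    rw [map_one, one_mul, one_mul, one_mul] at h2
    have c1 : S.o 1 1 * (S.e 2 0 q * S.o 2 (σ q) * S.e 3 0 (q * σ q + v)) * (S.o 1 1)⁻¹ =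
        S.e 2 0 q * S.o 2 (σ q) * S.e 3 0 (q * σ q + v) := by
      have a1 := S.comm_Z4 (k := 3) (by norm_num) (by norm_num) (S.mX3 1) q
      have a2 : S.o 1 1 * S.o 2 (σ q) = S.o 2 (σ q) * S.o 1 1 := S.o_o1 1 1 _
      have a3 := S.comm_Z6 (k := 3) (by norm_num) (by norm_num) (S.mX3 1) (q * σ q + v)
      calc S.o 1 1 * (S.e 2 0 q * S.o 2 (σ q) * S.e 3 0 (q * σ q + v)) * (S.o 1 1)⁻¹ =
          (S.o 1 1 * S.e 2 0 q) * S.o 2 (σ q) * S.e 3 0 (q * σ q + v) * (S.o 1 1)⁻¹ := by group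
        _ = S.e 2 0 q * (S.o 1 1 * S.o 2 (σ q)) * S.e 3 0 (q * σ q + v) * (S.o 1 1)⁻¹ := by rw [a1]; group
        _ = S.e 2 0 q * S.o 2 (σ q) * (S.o 1 1 * S.e 3 0 (q * σ q + v)) * (S.o 1 1)⁻¹ := by rw [a2]; group
        _ = _ := by rw [a3]; group
    have h3 : (S.e 4 q v)⁻¹ * S.o 1 1 * S.e 4 q v * (S.o 1 1)⁻¹ = S.e 2 0 q * S.o 2 (σ q) * S.e 3 0 (q * σ q + v) := by
      rw [← c1]
      calc (S.e 4 q v)⁻¹ * S.o 1 1 * S.e 4 q v * (S.o 1 1)⁻¹ = (S.e 4 q v)⁻¹ * (S.o 1 1 * S.e 4 q v) * (S.o 1 1)⁻¹ := by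
            group
        _ = _ := by rw [h2]; group
    rw [h3] at h1
    obtain ⟨u, hu⟩ := h1
    have m4 : ∀ u, S.e 2 0 u ∈ J S.XZ 4 4 := fun u => mem_J (S.mX4 0 u) (by norm_num) (by norm_num)
    have e0 : S.o 2 (σ q) * S.e 3 0 (q * σ q + v) = S.e 3 0 (q * σ q + v) * S.o 2 (σ q) :=
      S.comm_Z6 (k := 5) (by norm_num) (by norm_num) (S.mX5 _) _
    have e1 : S.e 3 0 (q * σ q + v) * (S.o 2 (σ q) * S.e 2 0 q) = 1 * S.e 2 0 u := by
      rw [hu, one_mul]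
      have a1 := S.comm_Z6 (k := 4) (by norm_num) (by norm_num) (S.mX4 0 q) (q * σ q + v)
      have a2 := S.comm_Z4 (k := 5) (by norm_num) (by norm_num) (S.mX5 (σ q)) q
      calc S.e 3 0 (q * σ q + v) * (S.o 2 (σ q) * S.e 2 0 q) = (S.e 3 0 (q * σ q + v) * S.e 2 0 q) * S.o 2 (σ q) := by
            rw [a2]; group
        _ = S.e 2 0 q * (S.e 3 0 (q * σ q + v) * S.o 2 (σ q)) := by rw [← a1]; group
        _ = _ := by rw [← e0]; group
    obtain ⟨e6, e2⟩ := uniq_top S (k := 6) (a := 4) (by norm_num) (S.mX6 _ _) (one_mem _)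
      (mul_mem (mem_J (S.mX5 _) (by norm_num) (by norm_num)) (J_mono le_rfl (by norm_num) (m4 q)))
      (J_mono le_rfl (by norm_num) (m4 u)) e1
    have e2' : S.o 2 (σ q) * S.e 2 0 q = 1 * S.e 2 0 u := by rw [one_mul]; exact e2
    obtain ⟨e5, -⟩ := uniq_top S (k := 5) (a := 4) (by norm_num) (S.mX5 _) (one_mem _)
      (J_mono le_rfl (by norm_num) (m4 q)) (J_mono le_rfl (by norm_num) (m4 u)) e2'
    have hq : q = 0 := by
      have := S.o_eq_one e5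
      exact (map_eq_zero σ).1 this
    have hv : v = 0 := by
      have := (S.e_eq_one e6).2
      rw [hq, zero_mul, zero_add] at this
      exact this
    rw [hq, hv, S.e_zero, mul_one]
    exact hb7'
  · exfalso
    obtain ⟨u, hu⟩ := h _ (S.q2_5 1)
    have hbi : b⁻¹ ∈ J S.XZ 1 9 := inv_mem (J_mono le_rfl (by norm_num) hb)
    have h1 := S.comm_Z6 (k := 8) (by norm_num) (by norm_num) hx 1
    have h2 : t * (S.n2 * S.e 3 0 1 * S.n2⁻¹) * t⁻¹ = b⁻¹ * (S.e 2 0 u * S.e 3 0 1) * b⁻¹⁻¹ := by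
      rw [hu]
      calc t * (S.n2 * S.e 3 0 1 * S.n2⁻¹) * t⁻¹ = t * S.n2 * (S.e 3 0 1 * x) * x⁻¹ * S.n2⁻¹ * t⁻¹ := by group
        _ = t * S.n2 * (x * S.e 3 0 1) * x⁻¹ * S.n2⁻¹ * t⁻¹ := by rw [← h1]
        _ = _ := by group
    have h3 : t * (S.n2 * S.e 3 0 1 * S.n2⁻¹) * t⁻¹ ∈ S.XZ 2 := S.T_conj ht 2 (S.n2_refl.mem' (S.mX6 0 1) (by norm_num))
    have h4 : b⁻¹ * (S.e 2 0 u * S.e 3 0 1) * b⁻¹⁻¹ ∈ J S.XZ 4 6 :=
      S.W46_le (S.W46_conj hbi (mul_mem (S.Z4_W46 u) (S.Z6_W46 1)))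
    rw [← h2] at h4
    have h5 := Z8.inter 2 _ h3 (J_mono (by norm_num) (by norm_num) h4)
    have h6 : S.e 3 0 1 = 1 := by
      have e : S.e 3 0 1 = S.n2⁻¹ * (t⁻¹ * (t * (S.n2 * S.e 3 0 1 * S.n2⁻¹) * t⁻¹) * t) * S.n2 := by group
      rw [e, h5]; group
    exact one_ne_zero (S.e_eq_one h6).2

end Cfsg.Agent.OddHalf.D7TwF4.KCent

end

-- merged: Cfsg.Agent.OddHalf.D7TwF4.Growth.KCen
section

/-!
# Growth for `²F₄(q)`: centralisers in `C(t)` (helper401)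

* `lift0` : an element of `C(t)` centralising the double of `Z_4` lies in `i PL`;
* `kcen` : the fields `k1`, …, `k8`, in the standard position.
-/

set_option autoImplicit false
set_option linter.unusedSectionVars false
set_option linter.unusedVariables false

namespace Cfsg.Agent.OddHalf.D7TwF4.Growth.KCen

open Cfsg.Agent.KFacts.TwF4 Cfsg.Agent.SplitTwo.ZS Cfsg.Agent.OddHalf.D7TwF4.Growth.Defs
open Cfsg.Agent.OddHalf.D7TwF4.Defs Cfsg.Agent.OddHalf.D7TwF4.Growth.KInst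

universe u v w

variable {F : Type w} [Field F] {σ : F →+* F} {Y : Type u} [Group Y] {G : Type v} [Group G]
variable {S : Full σ Y} {i : Y →* G} {t : G} {W : ℤ → Subgroup G}

/-- conjugation by `t` -/
def tau (t : G) : G →* G := (MulAut.conj t).toMonoidHom

theorem tau_apply (t x : G) : tau t x = t * x * t⁻¹ := rfl

theorem tau_eq (P : Pos S i t) (x : G) : tau t x = t * x * t := by rw [tau_apply, P.t_inv]

theorem tau_iff {c : G} : tau t c = c ↔ c * t = t * c := by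
  rw [tau_apply, mul_inv_eq_iff_eq_mul]
  exact eq_comm

theorem exists_unit (P : Pos S i t) : ∃ c : Fˣ, c ≠ 1 := by
  classical
  have := P.finF
  have h := P.big
  have : Fintype F := Fintype.ofFinite F
  have h1 : 1 < Fintype.card Fˣ := by
    rw [Fintype.card_units, ← Nat.card_eq_fintype_card]
    omega
  exact Fintype.exists_ne_of_one_lt_card h1 1

theorem exists_sigma (P : Pos S i t) : ∃ q : F, σ q ≠ q := by
  obtain ⟨c, hc⟩ := exists_unit P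
  refine ⟨c, fun h => hc ?_⟩
  have h1 := S.sq (c : F)
  rw [h, h] at h1
  have h2 : (c : F) * c = c := by rw [← pow_two]; exact h1.symm
  exact Units.ext (mul_left_cancel₀ c.ne_zero (h2.trans (mul_one _).symm))

theorem exists_tor (P : Pos S i t) : ∃ h ∈ S.Tk 4, h ≠ 1 := by
  obtain ⟨c, hc⟩ := exists_unit P
  have h1 : S.h 1 c ∈ S.Tk 0 := S.mem_Tk_zero.2 ⟨c, rfl⟩
  refine ⟨S.ck 2 (S.h 1 c), ?_, fun h => ?_⟩
  · have := S.ck_Tk 2 h1
    rwa [show (0 : ℤ) + 2 * 2 = 4 by norm_num] at this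
  · have h2 := (MulEquiv.map_eq_one_iff _).1 h
    rw [← S.h_one] at h2
    exact hc (S.h_inj _ _ _ _ h2).2

/-- `i Z_4 ≤ W 2` -/
theorem Z4_W (P : Pos S i t) (D : WData S i t W) {z : Y} (hz : z ∈ S.Zc 2) : i z ∈ W 2 := by
  rw [D.mem]
  have hz' : z ∈ S.Zc ((2 : ℤ) : ZMod 8) := hz
  refine ⟨?_, ?_, ⟨1, one_mem _, ?_⟩, ?_⟩
  · rw [← map_mul]
    obtain ⟨u, rfl⟩ := hz
    rw [S.e_mul_Zc, S.add_self, S.e_zero, map_one]
  · intro y hy
    rw [← map_mul, ← map_mul, hy z hz']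
  · rw [map_one, mul_one, P.ti, mul_assoc, P.tt, mul_one]
  · rintro ⟨z', -, h⟩
    exact P.t_mul_ne h.symm

/-- **the lift** -/
theorem lift0 (P : Pos S i t) (D : WData S i t W) {c : G} (hc : tau t c = c) (hw : ∀ w ∈ W 2, c * w = w * c) :
    ∃ y ∈ S.PL, c = i y := by
  have := P.finF
  have hct := tau_iff.1 hc
  obtain ⟨y, hy⟩ := P.cZ c hct fun z hz => hw _ (Z4_W P D hz)
  have hyz : ∀ z ∈ S.Zc 2, y * z = z * y := by
    intro z hz
    apply P.inj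
    rw [map_mul, map_mul]
    have h1 := hw _ (Z4_W P D hz)
    rcases hy with rfl | rfl
    · exact h1
    · have h2 : t * (i y * i z) = t * (i z * i y) := by
        calc t * (i y * i z) = t * i y * i z := by group
          _ = i z * (t * i y) := h1
          _ = (i z * t) * i y := by group
          _ = t * (i z * i y) := by rw [← P.ti]; group
      exact mul_left_cancel h2
  have hyP : y ∈ S.PL := by
    rw [← S.centralizer_z (z := S.e 2 0 1) ⟨1, rfl⟩ (fun h => one_ne_zero (S.e_eq_one h).2),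
      Subgroup.mem_centralizer_singleton_iff]
    exact hyz _ ⟨1, rfl⟩
  refine ⟨y, hyP, ?_⟩
  rcases hy with rfl | rfl
  · rfl
  · exfalso
    obtain ⟨w, hw', h3⟩ := D.sur 2 (S.e 2 0 1) ⟨1, rfl⟩
    have h4 := hw w hw'
    have h5 : w * i y = i y * w := D.cent hw' hyz
    have h6 : t * w = w * t := by
      have h7 : t * w * i y = w * t * i y := by
        calc t * w * i y = t * (w * i y) := by group
          _ = t * i y * w := by rw [h5]; group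
          _ = w * (t * i y) := h4
          _ = _ := by group
      exact mul_right_cancel h7
    have h7 : w = w * i (S.e 2 0 1) := by
      rw [← h3, h6, mul_assoc, P.tt, mul_one]
    have h8 : i (S.e 2 0 1) = 1 := mul_eq_left.1 h7.symm
    have h9 : S.e 2 0 1 = 1 := P.inj (by rw [h8, map_one])
    exact one_ne_zero (S.e_eq_one h9).2

theorem down {A : Subgroup Y} (P : Pos S i t) {y : Y} (h : ∀ x ∈ A.map i, i y * x = x * i y) : ∀ x ∈ A, y * x = x * y :=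
  fun x hx => P.inj (by rw [map_mul, map_mul]; exact h _ ⟨x, hx, rfl⟩)

/-- **The centraliser fields.** -/
theorem kcen (P : Pos S i t) (D : WData S i t W) {V : ℤ → Subgroup G} (hV : ∀ w ∈ W 2, w ∈ V 0) :
    KCen (tau t) (fun k => (Xf S k).map i) (fun k => (Yf S k).map i) V (fun k => (Tf S k).map i) where
  k1 c hc hw h1 h2 := by
    obtain ⟨y, hy, rfl⟩ := lift0 P D hc (fun w hw' => hw w (hV w hw'))
    have g1 := down P h1
    have g2 := down P h2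
    rw [Yf2] at g2
    rw [NK_map i (Xf S) (Yf S), NK_eq]
    exact ⟨y, KCent.k1 S (fun z hz => S.comm_PL hy hz) g1 g2, rfl⟩
  k4 c hc hw h1 := by
    obtain ⟨y, hy, rfl⟩ := lift0 P D hc (fun w hw' => hw w (hV w hw'))
    have g1 := down P h1
    obtain ⟨s, hs, hs1⟩ := exists_tor P
    obtain ⟨x, hx, h, hh, e⟩ := S.centralizer_Tk hy hs hs1 (g1 s hs)
    exact ⟨i x, ⟨x, hx, rfl⟩, i h, ⟨h, hh, rfl⟩, by rw [← map_mul, e]⟩
  k5 c hc hw h1 h2 := by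
    obtain ⟨y, hy, rfl⟩ := lift0 P D hc (fun w hw' => hw w (hV w hw'))
    have g1 := down P h1
    have g2 := down P h2
    have h3 := KCent.k5 S hy g1 g2
    rw [Q1_map i (Xf S) (Yf S), Q1_eq]
    show i y ∈ S.Q1.map i ⊔ (Yf S 3).map i ⊔ (Yf S (-3)).map i
    rw [← Subgroup.map_sup, ← Subgroup.map_sup, Yf3, Yfm3]
    exact ⟨y, h3, rfl⟩
  k6a c hc hw h1 h2 := by
    obtain ⟨y, hy, rfl⟩ := lift0 P D hc (fun w hw' => hw w (hV w hw'))
    have g1 := down P h1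
    have g2 := down P h2
    rw [Yf2] at g2
    have h3 := KCent.k6a S (exists_sigma P) g1 g2
    rw [Q2_map i (Yf S), Growth.KInst.Q2_eq]
    show i y ∈ S.Q2.map i ⊔ (Xf S 4).map i
    rw [← Subgroup.map_sup]
    exact ⟨y, h3, rfl⟩
  k6b c hc hw h1 h2 := by
    obtain ⟨y, hy, rfl⟩ := lift0 P D hc (fun w hw' => hw w (hV w hw'))
    have g1 := down P h1
    have g2 := down P h2
    have h3 := KCent.k6b S (exists_sigma P) hy g1 g2
    show i y ∈ (Yf S 0).map i ⊔ (Yf S 2).map i ⊔ (Yf S 4).map i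
    rw [← Subgroup.map_sup, ← Subgroup.map_sup, Yf0, Yf2, Yf4]
    exact ⟨y, h3, rfl⟩
  k7 c hc hw h1 := by
    obtain ⟨y, hy, rfl⟩ := lift0 P D hc (fun w hw' => hw w (hV w hw'))
    have g1 := down P h1
    rw [Yf2] at g1
    have h3 := KCent.k7 S (fun z hz => S.comm_PL hy hz) g1
    rw [QpK_map i (Xf S) (Yf S), QpK_eq]
    show i y ∈ (J S.XZ 2 7).map i ⊔ (Xf S 4).map i
    rw [← Subgroup.map_sup]
    refine ⟨y, ?_, rfl⟩
    obtain ⟨x, hx, y', hy', rfl⟩ := KCent.split_at S (a := 2) (b := 8) (c := 7) (by norm_num) (by norm_num)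
      (by norm_num) h3
    exact mul_mem (Subgroup.mem_sup_right hx) (Subgroup.mem_sup_left hy')
  k8 c hc hw h1 := by
    obtain ⟨y, hy, rfl⟩ := lift0 P D hc (fun w hw' => hw w (hV w hw'))
    rw [Q2_map i (Yf S), Growth.KInst.Q2_eq] at h1
    rw [Q0_map i (Xf S) (Yf S), Q0_eq]
    refine ⟨y, KCent.k8 S hy fun x hx => ?_, rfl⟩
    obtain ⟨z, hz, e⟩ := h1 _ ⟨x, hx, rfl⟩
    have e' : i z = i (y * x * y⁻¹ * x⁻¹) := by
      rw [map_mul, map_mul, map_mul, map_inv, map_inv]; exact e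
    have hz' : z ∈ Yf S 0 := hz
    rw [Yf0] at hz'
    rw [← P.inj e']
    exact hz'

end Cfsg.Agent.OddHalf.D7TwF4.Growth.KCen

end

-- merged: Cfsg.Agent.OddHalf.D7TwF4.Fab
section

/-!
# ODD D7, `K = ²F₄(q)`, section 2a (helper544; text: bb ODD 13028, 2.2): `[W_{2a}, W_{2a+4}] = 1`

* `CE` : the elements `f` centralising `i Q1` and `W_4` with `[f, t] ∈ i Q2` (`Q1 = X_4 Q2`, `Q2 = Z_2 X_3 Z_4 X_5 Z_6`);
  `CE.ker` : `C(t) ∩ CE = i Q2`.
* `comm_two` : `[W a, W (a + 2)] = 1`.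
-/

set_option autoImplicit false
set_option linter.unusedSectionVars false

namespace Cfsg.Agent.OddHalf.D7TwF4.Fab

open Cfsg.Agent.KFacts.TwF4 Cfsg.Agent.Octagon.Pkg Cfsg.Agent.SplitTwo.ZS Cfsg.Agent.OddHalf.D7TwF4.Defs

universe u v w

variable {F : Type w} [Field F] {σ : F →+* F} {Y : Type u} [Group Y] {G : Type v} [Group G]
variable {S : Full σ Y} {i : Y →* G} {t : G} {W : ℤ → Subgroup G}

/-! ### basic facts -/

theorem ti_inv (P : Pos S i t) (y : Y) : t * (i y)⁻¹ = (i y)⁻¹ * t := by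
  have := P.ti y⁻¹
  rwa [map_inv] at this

/-- conjugation by `t` of a conjugate by `i y` -/
theorem t_conj (P : Pos S i t) (y : Y) (f : G) : t * (i y * f * (i y)⁻¹) * t = i y * (t * f * t) * (i y)⁻¹ := by
  calc t * (i y * f * (i y)⁻¹) * t = (t * i y) * f * ((i y)⁻¹ * t) := by group
    _ = i y * (t * f * t) * (i y)⁻¹ := by rw [P.ti, ← ti_inv P]; group

theorem t_mul (P : Pos S i t) (a b : G) : t * (a * b) * t = (t * a * t) * (t * b * t) := by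
  calc t * (a * b) * t = t * a * 1 * b * t := by group
    _ = t * a * (t * t) * b * t := by rw [P.tt]
    _ = _ := by group

theorem t_inv' (P : Pos S i t) (a : G) : t * a⁻¹ * t = (t * a * t)⁻¹ := by
  rw [mul_inv_rev, mul_inv_rev, P.t_inv]; group

/-- `W a` centralises `i X_k`, `|k - 2a| ≤ 4` -/
theorem W_J (P : Pos S i t) (D : WData S i t W) {a : ℤ} {w : G} (hw : w ∈ W a) {y : Y}
    (hy : y ∈ J S.XZ (2 * a - 4) (2 * a + 4)) : w * i y = i y * w := by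
  have := P.finF
  refine D.cent hw fun z hz => ?_
  by_cases hz1 : z = 1
  · subst hz1; rw [mul_one, one_mul]
  · have h := S.centralizer_Zc a hz hz1
    rw [← h] at hy
    exact Subgroup.mem_centralizer_singleton_iff.1 hy

theorem W1_J (P : Pos S i t) (D : WData S i t W) {w : G} (hw : w ∈ W 1) {y : Y}
    (hy : y ∈ J S.XZ (-2) 6) : w * i y = i y * w := W_J P D hw (by norm_num; exact hy)

theorem W2_J (P : Pos S i t) (D : WData S i t W) {w : G} (hw : w ∈ W 2) {y : Y}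
    (hy : y ∈ J S.XZ 0 8) : w * i y = i y * w := W_J P D hw (by norm_num; exact hy)

theorem W3_J (P : Pos S i t) (D : WData S i t W) {w : G} (hw : w ∈ W 3) {y : Y}
    (hy : y ∈ J S.XZ 2 10) : w * i y = i y * w := W_J P D hw (by norm_num; exact hy)

/-- an element of `W a` commuting with `t` lies in `i Z_{2a}` -/
theorem W_fix (P : Pos S i t) (D : WData S i t W) {a : ℤ} {w : G} (hw : w ∈ W a) (h : t * w * t = w) :
    ∃ z ∈ S.Zc (a : ZMod 8), w = i z := by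
  have := P.finF
  have hwt : w * t = t * w := by
    calc w * t = (t * w * t) * t := by rw [h]
      _ = t * w * (t * t) := by group
      _ = t * w := by rw [P.tt, mul_one]
  obtain ⟨y, hy, hw'⟩ := P.lift (A := (J S.XZ (2 * a - 4) (2 * a + 4) : Set Y)) (a := a)
    (fun z hz => mem_J (S.Zc_le a hz) (by omega) (by omega)) hwt (fun y hy => W_J P D hw hy)
  have hyZ : y ∈ S.Zc (a : ZMod 8) := by
    rw [← S.centralizer_J a, Subgroup.mem_centralizer_iff]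
    rw [Subgroup.mem_centralizer_iff] at hy
    exact fun x hx => hy x (J_mono (by omega) (by omega) hx)
  rcases hw' with h1 | h1
  · exact ⟨y, hyZ, h1⟩
  · exact absurd ⟨y, hyZ, h1⟩ (D.notMem hw)

/-- elements of `W a` with the same `[·, t]` differ by an element of `i Z_{2a}` -/
theorem W_eq (P : Pos S i t) (D : WData S i t W) {a : ℤ} {w w' : G} (hw : w ∈ W a) (hw' : w' ∈ W a) {z : Y}
    (hz : z ∈ S.Zc (a : ZMod 8)) (h : t * w * t = w * i z) (h' : t * w' * t = w' * i z) :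
    ∃ z' ∈ S.Zc (a : ZMod 8), w' = w * i z' := by
  have hiz : ∀ w ∈ W a, w * i z = i z * w := fun w hw => W_J P D hw (mem_J (S.Zc_le a hz) (by omega) (by omega))
  obtain ⟨z', hz', e⟩ := W_fix P D (mul_mem (inv_mem hw) hw') (by
    rw [t_mul P, t_inv' P, h, h', mul_inv_rev, hiz w' hw']
    have h2 : (i z)⁻¹ * w⁻¹ * (i z * w') = w⁻¹ * w' := by
      have h3 := hiz w⁻¹ (inv_mem hw)
      have h4 : (i z)⁻¹ * w⁻¹ = w⁻¹ * (i z)⁻¹ := by
        calc (i z)⁻¹ * w⁻¹ = (i z)⁻¹ * (w⁻¹ * i z) * (i z)⁻¹ := by group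
          _ = w⁻¹ * (i z)⁻¹ := by rw [h3]; group
      rw [h4]; group
    exact h2)
  exact ⟨z', hz', by rw [← e]; group⟩

/-- torus elements have odd order: an element of `T` with trivial square is trivial -/
theorem T_sq (P : Pos S i t) {y : Y} (hy : y ∈ S.T) (h : y * y = 1) : y = 1 := by
  have := P.finF
  obtain ⟨c, d, rfl⟩ := S.mem_T.1 hy
  obtain ⟨rfl, rfl⟩ := SylU.torus_two S (c := c) (d := d) (k := 1) (by rw [pow_one, pow_two]; exact h)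
  exact S.h_one

/-- every element of `T_k` is a square in `T_k` -/
theorem T_sqrt (P : Pos S i t) {k : ℤ} {y : Y} (hy : y ∈ S.Tk k) : ∃ x ∈ S.Tk k, x * x = y := by
  have := P.finG
  have hfY : Finite Y := Finite.of_injective i P.inj
  let f : S.Tk k → S.Tk k := fun x => x * x
  have hf : Function.Injective f := by
    rintro ⟨a, ha⟩ ⟨b, hb⟩ hab
    have h1 : a * a = b * b := congrArg Subtype.val hab
    have h2 := S.T_comm ha.1 hb.1
    have h3 : (a * b⁻¹) * (a * b⁻¹) = 1 := by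
      have h4 : b⁻¹ * a = a * b⁻¹ := by
        calc b⁻¹ * a = b⁻¹ * (a * b) * b⁻¹ := by group
          _ = a * b⁻¹ := by rw [h2]; group
      calc (a * b⁻¹) * (a * b⁻¹) = a * (b⁻¹ * a) * b⁻¹ := by group
        _ = (a * a) * b⁻¹ * b⁻¹ := by rw [h4]; group
        _ = 1 := by rw [h1]; group
    have h5 := T_sq P (mul_mem ha.1 (inv_mem hb.1)) h3
    exact Subtype.ext (mul_inv_eq_one.1 h5)
  obtain ⟨x, hx⟩ := Finite.surjective_of_injective hf ⟨y, hy⟩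
  exact ⟨x, x.2, congrArg Subtype.val hx⟩

/-- the torus normalises the centres -/
theorem T_Zc {y : Y} (hy : y ∈ S.T) (a : ZMod 8) (z : Y) : z ∈ S.Zc a ↔ y * z * y⁻¹ ∈ S.Zc a := by
  refine ⟨fun hz => S.T_conj_Zc hy hz, fun hz => ?_⟩
  have := S.T_conj_Zc (inv_mem hy) hz
  have e : y⁻¹ * (y * z * y⁻¹) * y⁻¹⁻¹ = z := by group
  rwa [e] at this

/-- the torus normalises `W a` -/
theorem W_T (P : Pos S i t) (D : WData S i t W) {a : ℤ} {w : G} (hw : w ∈ W a) {y : Y} (hy : y ∈ S.T) :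
    i y * w * (i y)⁻¹ ∈ W a := D.conj P.ti (T_Zc hy _) hw

/-- `T_{2a}` centralises `W a` -/
theorem W_Tk (P : Pos S i t) (D : WData S i t W) {a : ℤ} {w : G} (hw : w ∈ W a) {y : Y} (hy : y ∈ S.Tk (2 * a)) :
    i y * w = w * i y := by
  obtain ⟨x, hx, rfl⟩ := T_sqrt P hy
  obtain ⟨z, hz, h1⟩ := D.comm hw
  have hxz : ∀ z ∈ S.Zc (a : ZMod 8), x * z * x⁻¹ = z := fun z hz => by
    rw [S.Tk_comm hx (S.Zc_le a hz)]; group
  have hw1 := W_T P D hw hx.1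
  obtain ⟨z', hz', h2⟩ := W_eq P D hw hw1 hz h1 (by
    rw [t_conj P, h1]
    have : i x * (w * i z) * (i x)⁻¹ = i x * w * (i x)⁻¹ * i (x * z * x⁻¹) := by
      rw [map_mul, map_mul, map_inv]; group
    rw [this, hxz z hz])
  have hzz : z' * z' = 1 := by
    obtain ⟨u, rfl⟩ := hz'
    have h3 : u + u = 0 := by rw [← two_mul, S.two, zero_mul]
    rw [S.e_mul, zero_mul, add_zero, add_zero, h3]
    exact S.e_zero _
  rw [map_mul]
  calc i x * i x * w = i x * (i x * w * (i x)⁻¹) * i x := by group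
    _ = i x * (w * i z') * i x := by rw [h2]
    _ = (i x * w * (i x)⁻¹) * (i x * i z' * (i x)⁻¹) * i x * i x := by group
    _ = (w * i z') * i (x * z' * x⁻¹) * i x * i x := by rw [h2, map_mul, map_mul, map_inv]
    _ = w * (i z' * i z') * i x * i x := by rw [hxz z' hz']; group
    _ = w * (i x * i x) := by rw [← map_mul i z' z', hzz, map_one]; group

/-! ### The lemma (K') -/

/-- `B` finite, `h` fixed point free on `B`, `x` commutes with `h`, `[B, x] ⊆ C`, `h` trivial on `C R / R`: then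
`[B, x] ⊆ R`. -/
theorem kprime {B R : Subgroup G} [Finite B] {h x : G} {C : Set G} (hB : ∀ b ∈ B, h * b * h⁻¹ ∈ B)
    (hf : ∀ b ∈ B, h * b * h⁻¹ = b → b = 1) (hx : h * x = x * h) (nB : ∀ b ∈ B, ∀ r ∈ R, b⁻¹ * r * b ∈ R)
    (hC : ∀ b ∈ B, b * x * b⁻¹ * x⁻¹ ∈ C) (hR : ∀ c ∈ C, h * c * h⁻¹ * c⁻¹ ∈ R) :
    ∀ b ∈ B, b * x * b⁻¹ * x⁻¹ ∈ R := by
  let f : B → B := fun b => ⟨(b : G)⁻¹ * (h * b * h⁻¹), mul_mem (inv_mem b.2) (hB b b.2)⟩
  have hinj : Function.Injective f := by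
    rintro ⟨a, ha⟩ ⟨b, hb⟩ hab
    have h1 : a⁻¹ * (h * a * h⁻¹) = b⁻¹ * (h * b * h⁻¹) := congrArg Subtype.val hab
    have h2 := hf (b * a⁻¹) (mul_mem hb (inv_mem ha)) (by
      calc h * (b * a⁻¹) * h⁻¹ = (h * b * h⁻¹) * (h * a * h⁻¹)⁻¹ := by group
        _ = b * (b⁻¹ * (h * b * h⁻¹)) * (h * a * h⁻¹)⁻¹ := by group
        _ = b * (a⁻¹ * (h * a * h⁻¹)) * (h * a * h⁻¹)⁻¹ := by rw [h1]
        _ = b * a⁻¹ := by group)
    exact Subtype.ext (mul_inv_eq_one.1 h2).symm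
  intro b hb
  obtain ⟨⟨b0, hb0⟩, hb1⟩ := Finite.surjective_of_injective hinj ⟨b, hb⟩
  have hb2 : b0⁻¹ * (h * b0 * h⁻¹) = b := congrArg Subtype.val hb1
  have hxh : h * x * h⁻¹ = x := by rw [hx]; group
  set c := b0 * x * b0⁻¹ * x⁻¹ with hc
  have h3 := nB b0 hb0 _ (hR c (hC b0 hb0))
  have e : b * x * b⁻¹ * x⁻¹ = b0⁻¹ * (h * c * h⁻¹ * c⁻¹) * b0 := by
    rw [← hb2, hc]
    calc b0⁻¹ * (h * b0 * h⁻¹) * x * (b0⁻¹ * (h * b0 * h⁻¹))⁻¹ * x⁻¹
        = b0⁻¹ * (h * b0 * h⁻¹) * x * (h * b0⁻¹ * h⁻¹) * b0 * x⁻¹ := by group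
      _ = b0⁻¹ * (h * b0 * h⁻¹) * (h * x * h⁻¹) * (h * b0⁻¹ * h⁻¹) * (h * x * h⁻¹)⁻¹ * (x * b0 * x⁻¹) := by
          rw [hxh]; group
      _ = _ := by group
  rw [e]
  exact h3


/-! ### `Q1` and `Q2` in `Y` -/

theorem Q2_Q1 : S.Q2 ≤ S.Q1 := le_sup_right

theorem Q2_conj {g y : Y} (hg : g ∈ S.PL) (hy : y ∈ S.Q2) : g * y * g⁻¹ ∈ S.Q2 :=
  (Subgroup.mem_normalizer_iff.1 (S.Q2_norm hg) y).1 hy

theorem Q1_conj {g y : Y} (hg : g ∈ S.PL) (hy : y ∈ S.Q1) : g * y * g⁻¹ ∈ S.Q1 := by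
  rw [← S.centralizer_Q2, Subgroup.mem_centralizer_iff] at hy ⊢
  intro x hx
  have h1 := hy _ (Q2_conj (inv_mem hg) hx)
  calc x * (g * y * g⁻¹) = g * ((g⁻¹ * x * g⁻¹⁻¹) * y) * g⁻¹ := by group
    _ = g * y * g⁻¹ * x := by rw [h1]; group

theorem Z4_Q2 {z : Y} (hz : z ∈ S.Zc 2) : z ∈ S.Q2 := by
  obtain ⟨u, rfl⟩ := hz
  exact S.q2_3 u

theorem X4_Q1 (p u : F) : S.e 2 p u ∈ S.Q1 := Subgroup.mem_sup_left (S.mX4 p u)

/-- `C_{Q1}(X_4) = Q2` -/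
theorem mem_Q2 (P : Pos S i t) {y : Y} (hy : y ∈ S.Q1) (hc : ∀ p, y * S.e 2 p 0 = S.e 2 p 0 * y) : y ∈ S.Q2 := by
  have := P.finF
  obtain ⟨x, hx, q, hq, rfl⟩ := Cfsg.Agent.SplitTwo.ZS.mem_sup_of_norm (A := S.XZ 4) (B := S.Q2) (fun x hx q hq =>
    Q2_conj (mem_J hx (by norm_num) (by norm_num)) hq) hy
  obtain ⟨p, u, rfl⟩ := S.X4 hx
  have h1 : ∀ r, S.e 2 p u * S.e 2 r 0 = S.e 2 r 0 * S.e 2 p u := by
    intro r
    have h2 := hc r
    have h3 := S.Q1_comm (X4_Q1 r 0) hq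
    rw [mul_assoc, ← h3, ← mul_assoc, ← mul_assoc] at h2
    exact mul_right_cancel h2
  have h2 : ∀ r, p * σ r = r * σ p := by
    intro r
    have h3 := h1 r
    rw [S.e_mul, S.e_mul] at h3
    have h4 := (S.injE _ _ _ _ _ h3).2
    rw [add_zero, zero_add] at h4
    exact add_left_cancel h4
  have hp : p = 0 := by
    by_contra hp
    have h3 : ∀ r, σ r = r := by
      intro r
      have h4 := h2 1
      rw [map_one, mul_one, one_mul] at h4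
      have h5 := h2 r
      rw [← h4, mul_comm r p] at h5
      exact mul_left_cancel₀ hp h5
    have h4 : ∀ r : F, r = 0 ∨ r = 1 := by
      intro r
      have h5 := S.sq r
      rw [h3, h3, pow_two] at h5
      rcases eq_or_ne r 0 with h6 | h6
      · exact Or.inl h6
      · exact Or.inr (mul_left_cancel₀ h6 (by rw [mul_one]; exact h5.symm))
    have h5 : Nat.card F ≤ 2 := by
      classical
      have : Fintype F := Fintype.ofFinite F
      rw [Nat.card_eq_fintype_card, ← Finset.card_univ]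
      calc (Finset.univ : Finset F).card ≤ ({0, 1} : Finset F).card := Finset.card_le_card fun r _ => by
            rcases h4 r with h | h <;> simp [h]
        _ ≤ 2 := Finset.card_le_two
    have := P.big
    omega
  subst hp
  exact mul_mem (S.q2_3 u) hq

/-! ### The group `CE` -/

/-- the elements centralising `Q1` and `W_4`, with `[f, t] ∈ Q2` -/
def CE (P : Pos S i t) (W : ℤ → Subgroup G) : Subgroup G where
  carrier := {f | (∀ y ∈ S.Q1, f * i y = i y * f) ∧ (∀ w ∈ W 2, f * w = w * f) ∧ ∃ y ∈ S.Q2, t * f * t = f * i y}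
  one_mem' := ⟨fun y _ => by rw [one_mul, mul_one], fun w _ => by rw [one_mul, mul_one], 1, one_mem _, by
    rw [mul_one, P.tt, map_one, mul_one]⟩
  mul_mem' := by
    rintro a b ⟨ha1, ha2, y, hy, ha3⟩ ⟨hb1, hb2, y', hy', hb3⟩
    refine ⟨fun y hy => ?_, fun w hw => ?_, y * y', mul_mem hy hy', ?_⟩
    · rw [mul_assoc, hb1 y hy, ← mul_assoc, ha1 y hy, mul_assoc]
    · rw [mul_assoc, hb2 w hw, ← mul_assoc, ha2 w hw, mul_assoc]
    · rw [t_mul P, ha3, hb3, map_mul]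
      calc a * i y * (b * i y') = a * (i y * b) * i y' := by group
        _ = a * b * (i y * i y') := by rw [← hb1 y (Q2_Q1 hy)]; group
  inv_mem' := by
    rintro a ⟨ha1, ha2, y, hy, ha3⟩
    have key : ∀ x : G, a * x = x * a → a⁻¹ * x = x * a⁻¹ := fun x hx => by
      calc a⁻¹ * x = a⁻¹ * (x * a) * a⁻¹ := by group
        _ = x * a⁻¹ := by rw [← hx]; group
    refine ⟨fun y hy => key _ (ha1 y hy), fun w hw => key _ (ha2 w hw), y⁻¹, inv_mem hy, ?_⟩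
    rw [t_inv' P, ha3, mul_inv_rev, map_inv]
    exact (key _ (ha1 y (Q2_Q1 hy)) |> fun h => by
      calc (i y)⁻¹ * a⁻¹ = (i y)⁻¹ * (a⁻¹ * i y) * (i y)⁻¹ := by group
        _ = a⁻¹ * (i y)⁻¹ := by rw [h]; group)

theorem mem_CE (P : Pos S i t) {f : G} : f ∈ CE P W ↔ (∀ y ∈ S.Q1, f * i y = i y * f) ∧ (∀ w ∈ W 2, f * w = w * f) ∧
    ∃ y ∈ S.Q2, t * f * t = f * i y := Iff.rfl

/-- `PL` normalises `CE` -/
theorem CE_conj (P : Pos S i t) (D : WData S i t W) {g : Y} (hg : g ∈ S.PL) {f : G} (hf : f ∈ CE P W) :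
    i g * f * (i g)⁻¹ ∈ CE P W := by
  obtain ⟨h1, h2, y, hy, h3⟩ := hf
  refine ⟨fun x hx => ?_, fun w hw => ?_, g * y * g⁻¹, Q2_conj hg hy, ?_⟩
  · have h4 := h1 _ (Q1_conj (inv_mem hg) hx)
    rw [inv_inv, map_mul, map_mul, map_inv] at h4
    calc i g * f * (i g)⁻¹ * i x = i g * (f * ((i g)⁻¹ * i x * i g)) * (i g)⁻¹ := by group
      _ = i x * (i g * f * (i g)⁻¹) := by rw [h4]; group
  · have h4 := W2_J P D hw (y := g) hg
    have h5 : (i g)⁻¹ * w = w * (i g)⁻¹ := by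
      calc (i g)⁻¹ * w = (i g)⁻¹ * (w * i g) * (i g)⁻¹ := by group
        _ = w * (i g)⁻¹ := by rw [h4]; group
    calc i g * f * (i g)⁻¹ * w = i g * (f * ((i g)⁻¹ * w)) := by group
      _ = i g * (f * w) * (i g)⁻¹ := by rw [h5]; group
      _ = (i g * w) * f * (i g)⁻¹ := by rw [h2 w hw]; group
      _ = w * (i g * f * (i g)⁻¹) := by rw [← h4]; group
  · rw [t_conj P, h3, map_mul, map_mul, map_inv]; group

theorem CE_conj' (P : Pos S i t) (D : WData S i t W) {g : Y} (hg : g ∈ S.PL) {f : G} (hf : f ∈ CE P W) :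
    (i g)⁻¹ * f * i g ∈ CE P W := by
  have := CE_conj P D (inv_mem hg) hf
  rwa [map_inv, inv_inv] at this

/-- `W_4` is not centralised by `t` -/
theorem exists_W2 (P : Pos S i t) (D : WData S i t W) : ∃ w ∈ W 2, t * w ≠ w * t := by
  obtain ⟨w, hw, h⟩ := D.sur 2 (S.e 2 0 1) ⟨1, rfl⟩
  refine ⟨w, hw, fun h1 => ?_⟩
  rw [h1, mul_assoc, P.tt, mul_one] at h
  have h2 : i (S.e 2 0 1) = 1 := by
    have : w * 1 = w * i (S.e 2 0 1) := by rw [mul_one]; exact h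
    exact (mul_left_cancel this).symm
  have h3 : S.e 2 0 1 = 1 := P.inj (by rw [h2, map_one])
  exact one_ne_zero (S.e_eq_one h3).2

/-- `C(t) ∩ CE = i Q2` -/
theorem CE_ker (P : Pos S i t) (D : WData S i t W) {f : G} (hf : f ∈ CE P W) (h : t * f * t = f) :
    ∃ y ∈ S.Q2, f = i y := by
  obtain ⟨h1, h2, -⟩ := hf
  have hft : f * t = t * f := by
    calc f * t = (t * f * t) * t := by rw [h]
      _ = t * f * (t * t) := by group
      _ = t * f := by rw [P.tt, mul_one]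
  obtain ⟨y, hy, hfy⟩ := P.lift (A := (S.Q1 : Set Y)) (a := 2) (fun z hz => Q2_Q1 (Z4_Q2 (by simpa using hz))) hft h1
  rw [Subgroup.mem_centralizer_iff] at hy
  have hyQ1 : y ∈ S.Q1 := by
    rw [← S.centralizer_Q2, Subgroup.mem_centralizer_iff]
    exact fun x hx => hy x (Q2_Q1 hx)
  have hyQ2 : y ∈ S.Q2 := mem_Q2 P hyQ1 fun p => (hy _ (X4_Q1 p 0)).symm
  rcases hfy with h3 | h3
  · exact ⟨y, hyQ2, h3⟩
  · exfalso
    obtain ⟨w, hw, hw1⟩ := exists_W2 P D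
    apply hw1
    have h4 : w * i y = i y * w := W2_J P D hw (J_mono (by norm_num) (by norm_num) (S.Q1_le_J hyQ1))
    have h5 := h2 w hw
    rw [h3] at h5
    have h6 : (t * w) * i y = (w * t) * i y := by
      calc (t * w) * i y = t * (w * i y) := by group
        _ = (t * i y) * w := by rw [h4]; group
        _ = (w * t) * i y := by rw [h5]; group
    exact mul_right_cancel h6

theorem W1_CE (P : Pos S i t) (D : WData S i t W) {w : G} (hw : w ∈ W 1) : w ∈ CE P W := by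
  refine ⟨fun y hy => W1_J P D hw (J_mono (by norm_num) (by norm_num) (S.Q1_le_J hy)), fun w' hw' => ?_, ?_⟩
  · exact D.one 1 w hw w' hw'
  · obtain ⟨z, hz, h⟩ := D.comm hw
    obtain ⟨u, rfl⟩ := hz
    exact ⟨_, by simpa using S.q2_1 u, h⟩

theorem W2_CE (P : Pos S i t) (D : WData S i t W) {w : G} (hw : w ∈ W 2) : w ∈ CE P W := by
  refine ⟨fun y hy => W2_J P D hw (J_mono (by norm_num) (by norm_num) (S.Q1_le_J hy)), fun w' hw' => D.ab hw hw', ?_⟩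
  obtain ⟨z, hz, h⟩ := D.comm hw
  obtain ⟨u, rfl⟩ := hz
  exact ⟨_, by simpa using S.q2_3 u, h⟩

theorem W3_CE (P : Pos S i t) (D : WData S i t W) {w : G} (hw : w ∈ W 3) : w ∈ CE P W := by
  refine ⟨fun y hy => W3_J P D hw (J_mono (by norm_num) (by norm_num) (S.Q1_le_J hy)), fun w' hw' => ?_, ?_⟩
  · exact (D.one 2 w' hw' w hw).symm
  · obtain ⟨z, hz, h⟩ := D.comm hw
    obtain ⟨u, rfl⟩ := hz
    exact ⟨_, by simpa using S.q2_5 u, h⟩

/-- elements of `CE` with the same `[·, t]` modulo `Z_4` -/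
theorem CE_eq (P : Pos S i t) (D : WData S i t W) {f f' : G} (hf : f ∈ CE P W) (hf' : f' ∈ CE P W) {y : Y}
    (hy : y ∈ S.Q2) {v : F} (h : t * f * t = f * i y) (h' : t * f' * t = f' * i (y * S.e 2 0 v)) :
    ∃ y' ∈ S.Q2, ∃ w ∈ W 2, f' = f * i y' * w := by
  obtain ⟨w, hw, hwt⟩ := D.sur 2 (S.e 2 0 v) ⟨v, rfl⟩
  have hwC := W2_CE P D hw
  have c1 := hf.1 y (Q2_Q1 hy)
  have c2 := hf'.1 y (Q2_Q1 hy)
  have c3 := hf'.1 _ (Q2_Q1 (S.q2_3 v))
  have c4 := hwC.1 _ (Q2_Q1 (S.q2_3 v))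
  obtain ⟨y', hy', e⟩ := CE_ker P D (mul_mem (mul_mem (inv_mem hf) hf') (inv_mem hwC)) (by
    rw [t_mul P, t_mul P, t_inv' P, t_inv' P, h, h', hwt, map_mul, mul_inv_rev, mul_inv_rev]
    have d1 : (i y)⁻¹ * f⁻¹ = f⁻¹ * (i y)⁻¹ := by rw [← mul_inv_rev, ← mul_inv_rev, c1]
    have d4 : (i (S.e 2 0 v))⁻¹ * w⁻¹ = w⁻¹ * (i (S.e 2 0 v))⁻¹ := by rw [← mul_inv_rev, ← mul_inv_rev, c4]
    calc (i y)⁻¹ * f⁻¹ * (f' * (i y * i (S.e 2 0 v))) * ((i (S.e 2 0 v))⁻¹ * w⁻¹)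
        = (i y)⁻¹ * f⁻¹ * (f' * i y) * w⁻¹ := by group
      _ = f⁻¹ * (i y)⁻¹ * (i y * f') * w⁻¹ := by rw [d1, c2]
      _ = f⁻¹ * f' * w⁻¹ := by group)
  exact ⟨y', hy', w, hw, by rw [← e]; group⟩


/-! ### The elements of `CE` over `X_3` and `X_5` -/

theorem conj28a (S : Full σ Y) (u q : F) : (S.e 4 q 0)⁻¹ * S.e 1 0 u * S.e 4 q 0 =
    S.e 1 0 u * (S.o 1 (u * q) * S.e 2 0 (σ u * q * σ q) * S.e 3 0 (u * q * q * σ q)) := by
  have h := S.rel.r28 0 u q 0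
  simp only [map_zero, zero_mul, mul_zero, add_zero, zero_add, S.o_zero, mul_one] at h
  calc (S.e 4 q 0)⁻¹ * S.e 1 0 u * S.e 4 q 0 = (S.e 4 q 0)⁻¹ * (S.e 1 0 u * S.e 4 q 0) := by group
    _ = _ := by rw [h]; group

theorem conj28b (S : Full σ Y) (u v : F) : (S.e 4 0 v)⁻¹ * S.e 1 0 u * S.e 4 0 v =
    S.e 1 0 u * (S.e 2 0 (σ u * v) * S.o 2 (u * v) * S.e 3 0 (u * σ v)) := by
  have h := S.rel.r28 0 u 0 v
  simp only [map_zero, zero_mul, mul_zero, add_zero, zero_add, S.o_zero, mul_one] at h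
  calc (S.e 4 0 v)⁻¹ * S.e 1 0 u * S.e 4 0 v = (S.e 4 0 v)⁻¹ * (S.e 1 0 u * S.e 4 0 v) := by group
    _ = _ := by rw [h]; group

theorem two_zero (S : Full σ Y) (x : F) : x + x = 0 := by rw [← two_mul, S.two, zero_mul]

theorem zz (S : Full σ Y) (a : ZMod 8) (u : F) : S.e a 0 u * S.e a 0 u = 1 := by
  rw [S.e_mul, zero_mul, add_zero, add_zero, two_zero S]
  exact S.e_zero _

theorem X8_PL (q v : F) : S.e 4 q v ∈ S.PL := mem_J (S.mX8 q v) (by norm_num) (by norm_num)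

/-- a unit `≠ 1` -/
theorem exists_unit (P : Pos S i t) : ∃ ω : Fˣ, ω ≠ 1 := by
  have := P.finF
  by_contra hcon
  push Not at hcon
  have h4 : ∀ r : F, r = 0 ∨ r = 1 := by
    intro r
    rcases eq_or_ne r 0 with h6 | h6
    · exact Or.inl h6
    · exact Or.inr (congrArg Units.val (hcon (Units.mk0 r h6)))
  have h5 : Nat.card F ≤ 2 := by
    classical
    have : Fintype F := Fintype.ofFinite F
    rw [Nat.card_eq_fintype_card, ← Finset.card_univ]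
    calc (Finset.univ : Finset F).card ≤ ({0, 1} : Finset F).card := Finset.card_le_card fun r _ => by
          rcases h4 r with h | h <;> simp [h]
      _ ≤ 2 := Finset.card_le_two
  have := P.big
  omega

theorem mem_Tk {k : ℤ} {y : Y} (hy : y ∈ S.T) (h : ∀ x ∈ S.XZ k, y * x * y⁻¹ = x) : y ∈ S.Tk k :=
  ⟨hy, Subgroup.mem_centralizer_iff.2 fun x hx => by
    calc x * y = (y * x * y⁻¹) * y := by rw [h x hx]
      _ = y * x := by group⟩

/-- a torus element fixed point free on `X_{2a}` is fixed point free on `W a` -/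
theorem W_fpf (P : Pos S i t) (D : WData S i t W) {a : ℤ} {y : Y}
    (hf : ∀ x ∈ S.XZ (2 * a), y * x * y⁻¹ = x → x = 1) {w : G} (hw : w ∈ W a) (h : i y * w * (i y)⁻¹ = w) : w = 1 := by
  have key : ∀ z ∈ S.Zc (a : ZMod 8), i y * i z * (i y)⁻¹ = i z → z = 1 := by
    intro z hz h1
    refine hf z (S.Zc_le a hz) (P.inj ?_)
    rw [map_mul, map_mul, map_inv, h1]
  obtain ⟨z, hz, h1⟩ := D.comm hw
  have h2 := t_conj P y w
  rw [h, h1] at h2
  have h3 : w * i z = w * (i y * i z * (i y)⁻¹) := by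
    calc w * i z = i y * (w * i z) * (i y)⁻¹ := h2
      _ = (i y * w * (i y)⁻¹) * (i y * i z * (i y)⁻¹) := by group
      _ = _ := by rw [h]
  have hz1 := key z hz (mul_left_cancel h3).symm
  subst hz1
  rw [map_one, mul_one] at h1
  obtain ⟨z', hz', h4⟩ := W_fix P D hw h1
  rw [h4] at h
  rw [h4, key z' hz' h, map_one]

/-- the commutator `[W_2, W_6]` lies in `Z_4` -/
theorem comm_mem (P : Pos S i t) (D : WData S i t W) {w : G} (hw : w ∈ W 1) :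
    ∀ w' ∈ W 3, ∃ v, w' * w * w'⁻¹ * w⁻¹ = i (S.e 2 0 v) := by
  have := P.finG
  have := P.finF
  -- the commutator lies in `Z_2 Z_4 Z_6`
  have h0 : ∀ w ∈ W 1, ∀ w' ∈ W 3, ∃ a b c, w' * w * w'⁻¹ * w⁻¹ = i (S.e 1 0 a * S.e 2 0 b * S.e 3 0 c) := by
    intro w hw w' hw'
    obtain ⟨z, ⟨u, rfl⟩, hz⟩ := D.comm hw
    obtain ⟨z', ⟨u', rfl⟩, hz'⟩ := D.comm hw'
    have k1 : w * i (S.e 1 0 u) = i (S.e 1 0 u) * w := W1_J P D hw (mem_J (S.mX2 0 u) (by norm_num) (by norm_num))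
    have k2 : w' * i (S.e 1 0 u) = i (S.e 1 0 u) * w' := W3_J P D hw' (mem_J (S.mX2 0 u) (by norm_num) (by norm_num))
    have k3 : w * i (S.e 3 0 u') = i (S.e 3 0 u') * w := W1_J P D hw (mem_J (S.mX6 0 u') (by norm_num) (by norm_num))
    have k4 : w' * i (S.e 3 0 u') = i (S.e 3 0 u') * w' := W3_J P D hw' (mem_J (S.mX6 0 u') (by norm_num) (by norm_num))
    have hz1 : t * w * t = w * i (S.e 1 0 u) := by simpa using hz
    have hz2 : t * w' * t = w' * i (S.e 3 0 u') := by simpa using hz'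
    set a := i (S.e 1 0 u)
    set b := i (S.e 3 0 u')
    have hct : t * (w' * w * w'⁻¹ * w⁻¹) * t = w' * w * w'⁻¹ * w⁻¹ := by
      rw [t_mul P, t_mul P, t_mul P, t_inv' P, t_inv' P, hz1, hz2]
      have e1 : w' * b * (w * a) = (w' * w) * (b * a) := by
        calc w' * b * (w * a) = w' * (b * w) * a := by group
          _ = (w' * w) * (b * a) := by rw [← k3]; group
      have e2 : (w' * b)⁻¹ * (w * a)⁻¹ = (b * a)⁻¹ * (w'⁻¹ * w⁻¹) := by
        have k3' : Commute w b := k3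
        have k4' : Commute w' b := k4
        have k1' : Commute w a := k1
        have k2' : Commute w' a := k2
        have hab : Commute b a := by
          show i (S.e 3 0 u') * i (S.e 1 0 u) = i (S.e 1 0 u) * i (S.e 3 0 u')
          rw [← map_mul, ← map_mul, S.rel.r26]
        rw [← mul_inv_rev, ← mul_inv_rev, ← mul_inv_rev]
        congr 1
        calc w * a * (w' * b) = w * (a * w') * b := by group
          _ = w * w' * (a * b) := by rw [← k2]; group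
          _ = w * w' * (b * a) := by rw [hab.eq]
      calc w' * b * (w * a) * (w' * b)⁻¹ * (w * a)⁻¹ = (w' * b * (w * a)) * ((w' * b)⁻¹ * (w * a)⁻¹) := by group
        _ = _ := by rw [e1, e2]; group
    set c := w' * w * w'⁻¹ * w⁻¹ with hc
    have hct' : c * t = t * c := by
      calc c * t = (t * c * t) * t := by rw [hct]
        _ = t * c * (t * t) := by group
        _ = t * c := by rw [P.tt, mul_one]
    have hcJ : ∀ y ∈ J S.XZ 2 6, c * i y = i y * c := by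
      intro y hy
      have h1 : Commute w (i y) := W1_J P D hw (J_mono (by norm_num) (by norm_num) hy)
      have h2 : Commute w' (i y) := W3_J P D hw' (J_mono (by norm_num) (by norm_num) hy)
      exact ((((h2.mul_left h1).mul_left h2.inv_left).mul_left h1.inv_left)).eq
    obtain ⟨y, hy, hcy⟩ := P.lift (A := (J S.XZ 2 6 : Set Y)) (a := 2) (fun z hz => by
      have : z ∈ S.Zc 2 := by simpa using hz
      obtain ⟨u, rfl⟩ := this
      exact mem_J (S.mX4 0 u) (by norm_num) (by norm_num)) hct' hcJ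
    rw [Subgroup.mem_centralizer_iff] at hy
    obtain ⟨a', b', c', hy'⟩ := S.centralizer_J26.1 fun x hx => (hy x hx).symm
    rcases hcy with h3 | h3
    · exact ⟨a', b', c', by rw [h3, hy']⟩
    · exfalso
      obtain ⟨w4, hw4, hne⟩ := exists_W2 P D
      apply hne
      have h4 : w4 * i y = i y * w4 := W2_J P D hw4 (by
        rw [hy']
        exact mul_mem (mul_mem (mem_J (S.mX2 0 _) (by norm_num) (by norm_num))
          (mem_J (S.mX4 0 _) (by norm_num) (by norm_num))) (mem_J (S.mX6 0 _) (by norm_num) (by norm_num)))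
      have h5 : c * w4 = w4 * c := by
        have h1 : Commute w w4 := (W1_CE P D hw).2.1 w4 hw4
        have h2 : Commute w' w4 := (W3_CE P D hw').2.1 w4 hw4
        exact ((((h2.mul_left h1).mul_left h2.inv_left).mul_left h1.inv_left)).eq
      rw [h3] at h5
      have h6 : (t * w4) * i y = (w4 * t) * i y := by
        calc (t * w4) * i y = t * (w4 * i y) := by group
          _ = (t * i y) * w4 := by rw [h4]; group
          _ = (w4 * t) * i y := by rw [h5]; group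
      exact mul_right_cancel h6
  obtain ⟨ω, hω⟩ := exists_unit P
  obtain ⟨y2, hy2T, hy2c, hy2f⟩ := TorEx.exists_tt S hω 2
  obtain ⟨y6, hy6T, hy6c, hy6f⟩ := TorEx.exists_tt S hω 6
  have hy2 : y2 ∈ S.Tk (2 * 1) := mem_Tk hy2T (hy2c 2 (by norm_num))
  have hy6 : y6 ∈ S.Tk (2 * 3) := mem_Tk hy6T (hy6c 6 (by norm_num))
  -- step 1: the component in `Z_2`
  have h1 : ∀ w ∈ W 1, ∀ w' ∈ W 3, w' * w * w'⁻¹ * w⁻¹ ∈ S.W46.map i := by
    intro w hw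
    refine kprime (B := W 3) (R := S.W46.map i) (h := i y2) (x := w)
      (C := {g | ∃ a b c, g = i (S.e 1 0 a * S.e 2 0 b * S.e 3 0 c)}) ?_ ?_ ?_ ?_ ?_ ?_
    · exact fun b hb => W_T P D hb hy2T
    · intro b hb hbe
      exact W_fpf P D (fun x hx => hy2f _ (by norm_num) x hx) hb hbe
    · exact W_Tk P D hw hy2
    · rintro b hb _ ⟨r, hr, rfl⟩
      have h2 : b * i r = i r * b := W3_J P D hb (J_mono (by norm_num) (by norm_num) (S.W46_le hr))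
      refine ⟨r, hr, ?_⟩
      calc i r = b⁻¹ * (b * i r) := by group
        _ = b⁻¹ * i r * b := by rw [h2]; group
    · exact fun b hb => h0 w hw b hb
    · rintro _ ⟨a, b, c, rfl⟩
      have e1 : y2 * S.e 1 0 a * y2⁻¹ = S.e 1 0 a := hy2c 2 (by norm_num) _ (S.mX2 0 a)
      have hw46 : S.e 2 0 b * S.e 3 0 c ∈ S.W46 := ⟨b, c, rfl⟩
      have hw46' := S.T_conj_W46 hy2T hw46
      refine ⟨(y2 * (S.e 2 0 b * S.e 3 0 c) * y2⁻¹) * (S.e 2 0 b * S.e 3 0 c)⁻¹, mul_mem hw46' (inv_mem hw46), ?_⟩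
      rw [← map_mul, ← map_inv, ← map_inv, ← map_mul, ← map_mul]
      congr 1
      have hcm : S.e 1 0 a * ((y2 * (S.e 2 0 b * S.e 3 0 c) * y2⁻¹) * (S.e 2 0 b * S.e 3 0 c)⁻¹) =
          ((y2 * (S.e 2 0 b * S.e 3 0 c) * y2⁻¹) * (S.e 2 0 b * S.e 3 0 c)⁻¹) * S.e 1 0 a :=
        S.W46_comm (mem_J (S.mX2 0 a) (by norm_num) (by norm_num)) (mul_mem hw46' (inv_mem hw46))
      symm
      calc y2 * (S.e 1 0 a * S.e 2 0 b * S.e 3 0 c) * y2⁻¹ * (S.e 1 0 a * S.e 2 0 b * S.e 3 0 c)⁻¹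
          = (y2 * S.e 1 0 a * y2⁻¹) * ((y2 * (S.e 2 0 b * S.e 3 0 c) * y2⁻¹) * (S.e 2 0 b * S.e 3 0 c)⁻¹) *
              (S.e 1 0 a)⁻¹ := by group
        _ = _ := by rw [e1, hcm]; group
  -- step 2: the component in `Z_6`
  have h2 : ∀ w' ∈ W 3, ∀ w ∈ W 1, w * w' * w⁻¹ * w'⁻¹ ∈ (S.Zc 2).map i := by
    intro w' hw'
    refine kprime (B := W 1) (R := (S.Zc 2).map i) (h := i y6) (x := w')
      (C := {g | ∃ r ∈ S.W46, g = i r}) ?_ ?_ ?_ ?_ ?_ ?_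
    · exact fun b hb => W_T P D hb hy6T
    · intro b hb hbe
      exact W_fpf P D (fun x hx => hy6f _ (by norm_num) x hx) hb hbe
    · exact W_Tk P D hw' hy6
    · rintro b hb _ ⟨_, ⟨u, rfl⟩, rfl⟩
      have h2 : b * i (S.e 2 0 u) = i (S.e 2 0 u) * b := W1_J P D hb (mem_J (S.mX4 0 u) (by norm_num) (by norm_num))
      refine ⟨_, ⟨u, rfl⟩, ?_⟩
      calc i (S.e 2 0 u) = b⁻¹ * (b * i (S.e 2 0 u)) := by group
        _ = b⁻¹ * i (S.e 2 0 u) * b := by rw [h2]; group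
    · intro b hb
      obtain ⟨r, hr, h3⟩ := h1 b hb w' hw'
      refine ⟨r⁻¹, inv_mem hr, ?_⟩
      rw [map_inv, h3]; group
    · rintro _ ⟨_, ⟨b, c, rfl⟩, rfl⟩
      have e1 : y6 * S.e 3 0 c * y6⁻¹ = S.e 3 0 c := hy6c 6 (by norm_num) _ (S.mX6 0 c)
      have hz : S.e 2 0 b ∈ S.Zc 2 := ⟨b, rfl⟩
      have hz' := S.T_conj_Zc hy6T hz
      refine ⟨(y6 * S.e 2 0 b * y6⁻¹) * (S.e 2 0 b)⁻¹, mul_mem hz' (inv_mem hz), ?_⟩
      rw [← map_mul, ← map_inv, ← map_inv, ← map_mul, ← map_mul]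
      congr 1
      symm
      calc y6 * (S.e 2 0 b * S.e 3 0 c) * y6⁻¹ * (S.e 2 0 b * S.e 3 0 c)⁻¹
          = (y6 * S.e 2 0 b * y6⁻¹) * (y6 * S.e 3 0 c * y6⁻¹) * (S.e 3 0 c)⁻¹ * (S.e 2 0 b)⁻¹ := by group
        _ = _ := by rw [e1]; group
  intro w' hw'
  obtain ⟨_, ⟨u, rfl⟩, h3⟩ := h2 w' hw' w hw
  refine ⟨u, ?_⟩
  have h4 : (i (S.e 2 0 u))⁻¹ = i (S.e 2 0 u) := by
    rw [← map_inv]
    congr 1
    exact inv_eq_of_mul_eq_one_left (zz S 2 u)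
  rw [← h4, h3]; group


/-! ### The commutator form -/

theorem w_inv (D : WData S i t W) {a : ℤ} {w : G} (hw : w ∈ W a) : w⁻¹ = w := inv_eq_of_mul_eq_one_left (D.sq hw)

/-- `Z_4` commutes with `CE` -/
theorem CE_Z (P : Pos S i t) {f : G} (hf : f ∈ CE P W) (v : F) : f * i (S.e 2 0 v) = i (S.e 2 0 v) * f :=
  hf.1 _ (Q2_Q1 (S.q2_3 v))

theorem iz_sq (S : Full σ Y) (i : Y →* G) (a : ZMod 8) (v : F) : i (S.e a 0 v) * i (S.e a 0 v) = 1 := by
  rw [← map_mul, zz S a v, map_one]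

/-- `A A^x` commutes with `W_6`, `x ∈ X_8` -/
theorem AB_comm (P : Pos S i t) (D : WData S i t W) {A : G} (hA : A ∈ W 1) (q v : F) {w : G} (hw : w ∈ W 3) :
    (A * ((i (S.e 4 q v))⁻¹ * A * i (S.e 4 q v))) * w = w * (A * ((i (S.e 4 q v))⁻¹ * A * i (S.e 4 q v))) := by
  obtain ⟨b, hb⟩ := comm_mem P D hA w hw
  set x := i (S.e 4 q v) with hx
  set z := i (S.e 2 0 b) with hz
  have h1 : w * A = z * (A * w) := by
    rw [← hb]; group
  have hwx : Commute w x := W3_J P D hw (mem_J (S.mX8 q v) (by norm_num) (by norm_num))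
  have hxz : Commute x z := by
    show i (S.e 4 q v) * i (S.e 2 0 b) = i (S.e 2 0 b) * i (S.e 4 q v)
    rw [← map_mul, ← map_mul, S.comm_PL (X8_PL q v) ⟨b, rfl⟩]
  have hzz : z * z = 1 := iz_sq S i 2 b
  have hAz : Commute A z := CE_Z P (W1_CE P D hA) b
  have hwz : Commute w z := CE_Z P (W3_CE P D hw) b
  have h2 : w * (x⁻¹ * A * x) = z * ((x⁻¹ * A * x) * w) := by
    calc w * (x⁻¹ * A * x) = (w * x⁻¹) * A * x := by group
      _ = x⁻¹ * (w * A) * x := by rw [hwx.inv_right.eq]; group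
      _ = (x⁻¹ * z) * A * (w * x) := by rw [h1]; group
      _ = z * ((x⁻¹ * A * x) * w) := by rw [hxz.inv_left.eq, hwx.eq]; group
  calc A * (x⁻¹ * A * x) * w = A * (z * z) * (x⁻¹ * A * x) * w := by rw [hzz]; group
    _ = (A * z) * (z * ((x⁻¹ * A * x) * w)) := by group
    _ = (A * z) * w * (x⁻¹ * A * x) := by rw [← h2]; group
    _ = z * (A * w) * (x⁻¹ * A * x) := by rw [hAz.eq]; group
    _ = w * (A * (x⁻¹ * A * x)) := by rw [← h1]; group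

/-- `[·, t]` of a product in `CE` -/
theorem tau_mul (P : Pos S i t) {f g : G} (hg : g ∈ CE P W) {y y' : Y} (hy : y ∈ S.Q2)
    (h : t * f * t = f * i y) (h' : t * g * t = g * i y') : t * (f * g) * t = f * g * i (y * y') := by
  rw [t_mul P, h, h', map_mul]
  calc f * i y * (g * i y') = f * (i y * g) * i y' := by group
    _ = _ := by rw [← hg.1 y (Q2_Q1 hy)]; group

/-- `[·, t]` of a conjugate -/
theorem tau_conj (P : Pos S i t) {f : G} {x y : Y} (h : t * f * t = f * i y) :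
    t * ((i x)⁻¹ * f * i x) * t = (i x)⁻¹ * f * i x * i (x⁻¹ * y * x) := by
  have h1 := t_conj P x⁻¹ f
  rw [map_inv, inv_inv] at h1
  rw [h1, h, map_mul, map_mul, map_inv]; group

theorem tau_one (D : WData S i t W) (u : F) : ∃ A ∈ W 1, t * A * t = A * i (S.e 1 0 u) := by
  obtain ⟨A, hA, h⟩ := D.sur 1 (S.e 1 0 u) (by rw [Int.cast_one]; exact ⟨u, rfl⟩)
  exact ⟨A, hA, h⟩

theorem tau_three (D : WData S i t W) (u : F) : ∃ A ∈ W 3, t * A * t = A * i (S.e 3 0 u) := by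
  obtain ⟨A, hA, h⟩ := D.sur 3 (S.e 3 0 u) (by
    have : ((3 : ℤ) : ZMod 8) = 3 := by norm_num
    rw [this]; exact ⟨u, rfl⟩)
  exact ⟨A, hA, h⟩

/-- an element of `CE` over `X_5` commuting with `W_6` -/
theorem exists_five (P : Pos S i t) (D : WData S i t W) (b : F) : ∃ g ∈ CE P W,
    (∃ c, t * g * t = g * i (S.e 2 0 c * S.o 2 b)) ∧ ∀ w ∈ W 3, g * w = w * g := by
  obtain ⟨A, hA, htA⟩ := tau_one D (1 : F)
  obtain ⟨w6, hw6, htw⟩ := tau_three D (σ b)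
  have hAC := W1_CE P D hA
  have hBC := CE_conj' P D (X8_PL 0 b) hAC
  have hwC := W3_CE P D hw6
  have htB := tau_conj P (x := S.e 4 0 b) htA
  rw [conj28b S, map_one, one_mul, one_mul] at htB
  have h1 := tau_mul P hBC (S.q2_1 1) htA htB
  have hy : S.e 1 0 1 * (S.e 1 0 1 * (S.e 2 0 b * S.o 2 b * S.e 3 0 (σ b))) = S.e 2 0 b * S.o 2 b * S.e 3 0 (σ b) := by
    rw [← mul_assoc, zz S 1 1, one_mul]
  rw [hy] at h1
  have h2 := tau_mul P hwC (mul_mem (mul_mem (S.q2_3 _) (S.q2_4 _)) (S.q2_5 _)) h1 htw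
  have hy2 : S.e 2 0 b * S.o 2 b * S.e 3 0 (σ b) * S.e 3 0 (σ b) = S.e 2 0 b * S.o 2 b := by
    rw [mul_assoc, zz S 3 (σ b), mul_one]
  rw [hy2] at h2
  refine ⟨_, mul_mem (mul_mem hAC hBC) hwC, ⟨b, h2⟩, fun w hw => ?_⟩
  have h3 := AB_comm P D hA 0 b hw
  have h4 := D.ab hw6 hw
  rw [mul_assoc, h4, ← mul_assoc, h3, mul_assoc]

/-- an element of `CE` over `X_3` commuting with `W_2` -/
theorem exists_three (P : Pos S i t) (D : WData S i t W) (b : F) : ∃ g ∈ CE P W,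
    (∃ c, t * g * t = g * i (S.e 2 0 c * S.o 1 b)) ∧ ∀ w ∈ W 1, g * w = w * g := by
  obtain ⟨g, hg, ⟨c, hc⟩, hgw⟩ := exists_five P D b
  refine ⟨i S.n2 * g * (i S.n2)⁻¹, CE_conj P D S.n2_mem hg, ⟨c, ?_⟩, fun w hw => ?_⟩
  · rw [t_conj P, hc]
    have e : S.n2 * (S.e 2 0 c * S.o 2 b) * S.n2⁻¹ = S.e 2 0 c * S.o 1 b := by
      calc S.n2 * (S.e 2 0 c * S.o 2 b) * S.n2⁻¹ = (S.n2 * S.e 2 0 c * S.n2⁻¹) * (S.n2 * S.o 2 b * S.n2⁻¹) := by group
        _ = _ := by rw [S.n2_e, S.n2_o]; rfl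
    rw [← e]
    simp only [map_mul, map_inv]
    group
  · have hw' : (i S.n2)⁻¹ * w * i S.n2 ∈ W 3 := by
      have h1 : i S.n2⁻¹ * w * (i S.n2⁻¹)⁻¹ ∈ W 3 := by
        refine D.conj P.ti (a := 1) (b := 3) (fun z => ?_) hw
        have h3 : ((3 : ℤ) : ZMod 8) = 3 := by norm_num
        rw [h3, Int.cast_one]
        have e1 : ∀ u, S.n2⁻¹ * S.e 1 0 u * S.n2 = S.e 3 0 u := by
          intro u
          have h4 := S.n2_e 3 0 u
          have h5 : (4 : ZMod 8) - 3 = 1 := by decide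
          rw [h5] at h4
          rw [← h4]; group
        constructor
        · rintro ⟨u, rfl⟩
          exact ⟨u, by rw [inv_inv, e1]⟩
        · rintro ⟨u, hu⟩
          refine ⟨u, ?_⟩
          rw [inv_inv, ← e1] at hu
          calc S.e 1 0 u = S.n2 * (S.n2⁻¹ * S.e 1 0 u * S.n2) * S.n2⁻¹ := by group
            _ = z := by rw [hu]; group
      rwa [map_inv, inv_inv] at h1
    have h2 := hgw _ hw'
    calc i S.n2 * g * (i S.n2)⁻¹ * w = i S.n2 * (g * ((i S.n2)⁻¹ * w * i S.n2)) * (i S.n2)⁻¹ := by group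
      _ = _ := by rw [h2]; group

/-- an element of `CE` over `X_3 Z_4` commutes with `W_2` -/
theorem comm_three (P : Pos S i t) (D : WData S i t W) {f : G} (hf : f ∈ CE P W) {b c : F}
    (h : t * f * t = f * i (S.e 2 0 c * S.o 1 b)) {w : G} (hw : w ∈ W 1) : f * w = w * f := by
  obtain ⟨g, hg, ⟨c', hc'⟩, hgw⟩ := exists_three P D b
  have hoz : S.e 2 0 c * S.o 1 b = S.e 2 0 c' * S.o 1 b * S.e 2 0 (c + c') := by
    have h1 : S.o 1 b * S.e 2 0 (c + c') = S.e 2 0 (c + c') * S.o 1 b := S.rel.r34 b 0 (c + c')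
    rw [mul_assoc, h1, ← mul_assoc, S.e_mul, zero_mul, add_zero, add_zero]
    congr 2
    have := two_zero S c'
    calc c = c + (c' + c') := by rw [this, add_zero]
      _ = c' + (c + c') := by ring
  rw [hoz] at h
  obtain ⟨y, hy, w4, hw4, rfl⟩ := CE_eq P D hg hf (mul_mem (S.q2_3 c') (S.q2_2 b)) hc' h
  have h1 : Commute g w := hgw w hw
  have h2 : Commute (i y) w := ((W1_CE P D hw).1 y (Q2_Q1 hy)).symm
  have h3 : Commute w4 w := ((W1_CE P D hw).2.1 w4 hw4).symm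
  exact ((h1.mul_left h2).mul_left h3).eq

/-- the square of an element over `X_3 Z_4` depends only on the `X_3`-part -/
theorem sq_three (P : Pos S i t) (D : WData S i t W) {f f' : G} (hf : f ∈ CE P W) (hf' : f' ∈ CE P W) {b c c' : F}
    (h : t * f * t = f * i (S.e 2 0 c * S.o 1 b)) (h' : t * f' * t = f' * i (S.e 2 0 c' * S.o 1 b)) :
    f' * f' = f * f := by
  have hoz : S.e 2 0 c' * S.o 1 b = S.e 2 0 c * S.o 1 b * S.e 2 0 (c' + c) := by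
    have h1 : S.o 1 b * S.e 2 0 (c' + c) = S.e 2 0 (c' + c) * S.o 1 b := S.rel.r34 b 0 (c' + c)
    rw [mul_assoc, h1, ← mul_assoc, S.e_mul, zero_mul, add_zero, add_zero]
    congr 2
    have := two_zero S c
    calc c' = c' + (c + c) := by rw [this, add_zero]
      _ = c + (c' + c) := by ring
  rw [hoz] at h'
  obtain ⟨y, hy, w4, hw4, rfl⟩ := CE_eq P D hf hf' (mul_mem (S.q2_3 c) (S.q2_2 b)) h h'
  have h1 : Commute f (i y) := hf.1 y (Q2_Q1 hy)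
  have h2 : Commute f w4 := hf.2.1 w4 hw4
  have h3 : Commute w4 (i y) := (W2_CE P D hw4).1 y (Q2_Q1 hy)
  have h4 : i y * i y = 1 := by
    rw [← map_mul]
    have : S.Q2 ≤ ({ carrier := {y | y ∈ S.Q2 ∧ y * y = 1}
                     one_mem' := ⟨one_mem _, one_mul _⟩
                     mul_mem' := by
                       rintro a b ⟨ha, ha'⟩ ⟨hb, hb'⟩
                       refine ⟨mul_mem ha hb, ?_⟩
                       have h5 := S.Q1_comm (Q2_Q1 hb) ha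
                       calc a * b * (a * b) = a * (b * a) * b := by group
                         _ = (a * a) * (b * b) := by rw [h5]; group
                         _ = 1 := by rw [ha', hb', one_mul]
                     inv_mem' := by
                       rintro a ⟨ha, ha'⟩
                       exact ⟨inv_mem ha, by rw [← mul_inv_rev, ha', inv_one]⟩ } : Subgroup Y) := by
      have hoo : ∀ (a : ZMod 8) (t : F), S.o a t * S.o a t = 1 := fun a t => by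
        rw [S.o_add, two_zero S, S.o_zero]
      exact S.Q2_le (fun u => ⟨S.q2_1 u, zz S 1 u⟩) (fun u => ⟨S.q2_2 u, hoo 1 u⟩) (fun u => ⟨S.q2_3 u, zz S 2 u⟩)
        (fun u => ⟨S.q2_4 u, hoo 2 u⟩) (fun u => ⟨S.q2_5 u, zz S 3 u⟩)
    rw [(this hy).2, map_one]
  have h5 : w4 * w4 = 1 := D.sq hw4
  calc f * i y * w4 * (f * i y * w4) = f * i y * (w4 * f) * (i y * w4) := by group
    _ = f * i y * (f * w4) * (i y * w4) := by rw [h2.eq]
    _ = f * (i y * f) * (w4 * i y) * w4 := by group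
    _ = f * (f * i y) * (i y * w4) * w4 := by rw [h1.eq, h3.eq]
    _ = f * f * (i y * i y) * (w4 * w4) := by group
    _ = f * f := by rw [h4, h5, mul_one, mul_one]


/-- **the value of the form**: `[A, w] = g²`, `g` over `X_3` -/
theorem val (P : Pos S i t) (D : WData S i t W) {A w : G} (hA : A ∈ W 1) (hw : w ∈ W 3) {u q : F}
    (htA : t * A * t = A * i (S.e 1 0 u)) (htw : t * w * t = w * i (S.e 3 0 (u * q * q * σ q))) :
    ∃ g ∈ CE P W, (∃ c, t * g * t = g * i (S.e 2 0 c * S.o 1 (u * q))) ∧ g * g = w * A * w⁻¹ * A⁻¹ := by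
  have hAC := W1_CE P D hA
  have hBC := CE_conj' P D (X8_PL q 0) hAC
  have hwC := W3_CE P D hw
  have htB := tau_conj P (x := S.e 4 q 0) htA
  rw [conj28a S] at htB
  have h1 := tau_mul P hBC (S.q2_1 u) htA htB
  have hy : S.e 1 0 u * (S.e 1 0 u * (S.o 1 (u * q) * S.e 2 0 (σ u * q * σ q) * S.e 3 0 (u * q * q * σ q))) =
      S.o 1 (u * q) * S.e 2 0 (σ u * q * σ q) * S.e 3 0 (u * q * q * σ q) := by
    rw [← mul_assoc, zz S 1 u, one_mul]
  rw [hy] at h1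
  have h2 := tau_mul P hwC (mul_mem (mul_mem (S.q2_2 _) (S.q2_3 _)) (S.q2_5 _)) h1 htw
  have hy2 : S.o 1 (u * q) * S.e 2 0 (σ u * q * σ q) * S.e 3 0 (u * q * q * σ q) * S.e 3 0 (u * q * q * σ q) =
      S.e 2 0 (σ u * q * σ q) * S.o 1 (u * q) := by
    rw [mul_assoc, zz S 3, mul_one]
    exact S.rel.r34 _ _ _
  rw [hy2] at h2
  set B := (i (S.e 4 q 0))⁻¹ * A * i (S.e 4 q 0) with hB
  have hgC := mul_mem (mul_mem hAC hBC) hwC
  have h3 := AB_comm P D hA q 0 hw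
  rw [← hB] at h3
  have hBB : B * B = 1 := by
    rw [hB]
    calc (i (S.e 4 q 0))⁻¹ * A * i (S.e 4 q 0) * ((i (S.e 4 q 0))⁻¹ * A * i (S.e 4 q 0)) =
        (i (S.e 4 q 0))⁻¹ * (A * A) * i (S.e 4 q 0) := by group
      _ = 1 := by rw [D.sq hA]; group
  have hAA := D.sq hA
  have hww := D.sq hw
  have hAi := w_inv D hA
  have hwi := w_inv D hw
  obtain ⟨b, hb⟩ := comm_mem P D hA w hw
  have hzz : i (S.e 2 0 b) * i (S.e 2 0 b) = 1 := iz_sq S i 2 b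
  have hzA : Commute A (i (S.e 2 0 b)) := CE_Z P hAC b
  have hzB : Commute B (i (S.e 2 0 b)) := CE_Z P hBC b
  refine ⟨_, hgC, ⟨_, h2⟩, ?_⟩
  -- `g` commutes with `A`
  have h4 : (A * B * w) * A = A * (A * B * w) := comm_three P D hgC h2 hA
  -- `[A, B] = [A, w]`
  set z := i (S.e 2 0 b) with hz
  have h5 : w * A = z * (A * w) := by rw [← hb]; group
  have h6 : A * B * A = B * z := by
    have h7 : A * B * z * A * w = B * w := by
      calc A * B * z * A * w = A * B * (z * (A * w)) := by group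
        _ = (A * B * w) * A := by rw [← h5]; group
        _ = (A * A) * (B * w) := by rw [h4]; group
        _ = B * w := by rw [hAA, one_mul]
    have h8 : A * B * z * A = B := mul_right_cancel h7
    calc A * B * A = A * B * (z * z) * A := by rw [hzz, mul_one]
      _ = A * B * z * (z * A) := by group
      _ = (A * B * z * A) * z := by rw [← hzA.eq]; group
      _ = B * z := by rw [h8]
  calc A * B * w * (A * B * w) = A * B * w * (A * B) * w := by group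
    _ = (A * B) * (w * (A * B)) * w := by group
    _ = (A * B) * ((A * B) * w) * w := by rw [h3]
    _ = (A * B * A) * B * (w * w) := by group
    _ = (B * z) * B := by rw [h6, hww, mul_one]
    _ = (B * B) * z := by rw [mul_assoc B z B, ← hzB.eq, ← mul_assoc]
    _ = z := by rw [hBB, one_mul]
    _ = w * A * w⁻¹ * A⁻¹ := hb.symm

/-- `σ` is onto -/
theorem σ_surj (P : Pos S i t) (v : F) : ∃ x, σ x = v := by
  have := P.finF
  exact Finite.surjective_of_injective σ.injective v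

/-- **`[W_2, W_6] = 1`** -/
theorem comm_13 (P : Pos S i t) (D : WData S i t W) {A w : G} (hA : A ∈ W 1) (hw : w ∈ W 3) : A * w = w * A := by
  have := P.finF
  -- the value depends only on the `[·, t]`
  have indep : ∀ {A A' w w' : G}, A ∈ W 1 → A' ∈ W 1 → w ∈ W 3 → w' ∈ W 3 → ∀ {u v : F},
      t * A * t = A * i (S.e 1 0 u) → t * A' * t = A' * i (S.e 1 0 u) → t * w * t = w * i (S.e 3 0 v) →
      t * w' * t = w' * i (S.e 3 0 v) → w' * A' * w'⁻¹ * A'⁻¹ = w * A * w⁻¹ * A⁻¹ := by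
    intro A A' w w' hA hA' hw hw' u v h1 h2 h3 h4
    obtain ⟨z, ⟨a, rfl⟩, rfl⟩ := W_eq P D hA hA' (by rw [Int.cast_one]; exact ⟨u, rfl⟩) h1 h2
    have h33 : ((3 : ℤ) : ZMod 8) = 3 := by norm_num
    obtain ⟨z, ⟨b, rfl⟩, rfl⟩ := W_eq P D hw hw' (by rw [h33]; exact ⟨v, rfl⟩) h3 h4
    rw [Int.cast_one, h33]
    have k1 : Commute A (i (S.e 1 0 a)) := W1_J P D hA (mem_J (S.mX2 0 a) (by norm_num) (by norm_num))
    have k2 : Commute w (i (S.e 1 0 a)) := W3_J P D hw (mem_J (S.mX2 0 a) (by norm_num) (by norm_num))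
    have k3 : Commute A (i (S.e 3 0 b)) := W1_J P D hA (mem_J (S.mX6 0 b) (by norm_num) (by norm_num))
    have k4 : Commute w (i (S.e 3 0 b)) := W3_J P D hw (mem_J (S.mX6 0 b) (by norm_num) (by norm_num))
    have k5 : Commute (i (S.e 1 0 a)) (i (S.e 3 0 b)) := by
      show _ * _ = _ * _
      rw [← map_mul, ← map_mul, S.rel.r26]
    set x := i (S.e 1 0 a)
    set y := i (S.e 3 0 b)
    have e1 : w * y * (A * x) = w * A * (x * y) := by
      calc w * y * (A * x) = w * (y * A) * x := by group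
        _ = w * A * (y * x) := by rw [← k3.eq]; group
        _ = w * A * (x * y) := by rw [k5.eq]
    have e2 : (A * x) * (w * y) = A * w * (x * y) := by
      calc (A * x) * (w * y) = A * (x * w) * y := by group
        _ = A * w * (x * y) := by rw [← k2.eq]; group
    calc w * y * (A * x) * (w * y)⁻¹ * (A * x)⁻¹ = (w * y * (A * x)) * ((A * x) * (w * y))⁻¹ := by group
      _ = _ := by rw [e1, e2]; group
  -- the form
  have hex : ∀ u v : F, ∃ c, ∀ A ∈ W 1, ∀ w ∈ W 3, t * A * t = A * i (S.e 1 0 u) → t * w * t = w * i (S.e 3 0 v) →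
      w * A * w⁻¹ * A⁻¹ = i (S.e 2 0 c) := by
    intro u v
    obtain ⟨A, hA, h1⟩ := tau_one D u
    obtain ⟨w, hw, h2⟩ := tau_three D v
    obtain ⟨c, hc⟩ := comm_mem P D hA w hw
    exact ⟨c, fun A' hA' w' hw' h3 h4 => (indep hA hA' hw hw' h1 h3 h2 h4).trans hc⟩
  choose β hβ using hex
  -- additive in the second variable
  have hadd : ∀ u v v', β u (v + v') = β u v + β u v' := by
    intro u v v'
    obtain ⟨A, hA, h1⟩ := tau_one D u
    obtain ⟨w, hw, h2⟩ := tau_three D v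
    obtain ⟨w', hw', h3⟩ := tau_three D v'
    have h4 := tau_mul P (W3_CE P D hw') (S.q2_5 v) h2 h3
    rw [S.e_mul, zero_mul, add_zero, add_zero] at h4
    have e1 := hβ u v A hA w hw h1 h2
    have e2 := hβ u v' A hA w' hw' h1 h3
    have e3 := hβ u (v + v') A hA (w * w') (mul_mem hw hw') h1 h4
    have h5 : w * w' * A * (w * w')⁻¹ * A⁻¹ = i (S.e 2 0 (β u v)) * i (S.e 2 0 (β u v')) := by
      have h6 : Commute w (i (S.e 2 0 (β u v'))) := CE_Z P (W3_CE P D hw) _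
      have h7 : Commute (i (S.e 2 0 (β u v))) (i (S.e 2 0 (β u v'))) := by
        show _ * _ = _ * _
        rw [← map_mul, ← map_mul, S.e_mul, S.e_mul]
        simp only [zero_mul, add_zero, add_comm]
      calc w * w' * A * (w * w')⁻¹ * A⁻¹ = w * (w' * A * w'⁻¹ * A⁻¹) * A * w⁻¹ * A⁻¹ := by group
        _ = (w * i (S.e 2 0 (β u v'))) * A * w⁻¹ * A⁻¹ := by rw [e2]
        _ = i (S.e 2 0 (β u v')) * (w * A * w⁻¹ * A⁻¹) := by rw [h6.eq]; group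
        _ = _ := by rw [e1, h7.eq]
    rw [e3, ← map_mul, S.e_mul, zero_mul, add_zero, add_zero] at h5
    exact (S.injE _ _ _ _ _ (P.inj h5)).2
  -- invariance under the torus
  have htor : ∀ (n : Fˣ) (u v : F), β ((n : F) * σ n * u) (((n : F) * σ n)⁻¹ * v) = β u v := by
    intro n u v
    obtain ⟨A, hA, h1⟩ := tau_one D u
    obtain ⟨w, hw, h2⟩ := tau_three D v
    set y := S.h (Units.map (σ : F →* F) n) n with hy
    have hyT : y ∈ S.T := S.mem_T.2 ⟨_, _, rfl⟩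
    have c1 : chE σ 1 (Units.map (σ : F →* F) n) n = n := rfl
    have c2 : chE σ 2 (Units.map (σ : F →* F) n) n = 1 := by rw [chE_two, div_self']
    have c3 : chE σ 3 (Units.map (σ : F →* F) n) n = n⁻¹ := by
      rw [chE_three, map_map σ S.sq, pow_two]
      rw [div_mul_eq_div_div, div_self', one_div]
    have f1 : y * S.e 1 0 u * y⁻¹ = S.e 1 0 ((n : F) * σ n * u) := by
      rw [hy, S.h_e, c1, mul_zero]
    have f2 : ∀ c, y * S.e 2 0 c * y⁻¹ = S.e 2 0 c := by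
      intro c
      rw [hy, S.h_e, c2, mul_zero]
      simp
    have f3 : y * S.e 3 0 v * y⁻¹ = S.e 3 0 (((n : F) * σ n)⁻¹ * v) := by
      rw [hy, S.h_e, c3, mul_zero, Units.val_inv_eq_inv_val, map_inv₀, mul_inv]
    have h3 : t * (i y * A * (i y)⁻¹) * t = i y * A * (i y)⁻¹ * i (S.e 1 0 ((n : F) * σ n * u)) := by
      rw [t_conj P, h1, ← f1, map_mul, map_mul, map_inv]; group
    have h4 : t * (i y * w * (i y)⁻¹) * t = i y * w * (i y)⁻¹ * i (S.e 3 0 (((n : F) * σ n)⁻¹ * v)) := by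
      rw [t_conj P, h2, ← f3, map_mul, map_mul, map_inv]; group
    have h5 := hβ _ _ _ (W_T P D hA hyT) _ (W_T P D hw hyT) h3 h4
    have h6 := hβ u v A hA w hw h1 h2
    have h7 : i y * w * (i y)⁻¹ * (i y * A * (i y)⁻¹) * (i y * w * (i y)⁻¹)⁻¹ * (i y * A * (i y)⁻¹)⁻¹ =
        i y * (w * A * w⁻¹ * A⁻¹) * (i y)⁻¹ := by group
    rw [h7, h6, ← map_inv, ← map_mul, ← map_mul, f2] at h5
    exact (S.injE _ _ _ _ _ (P.inj h5)).2.symm
  -- the values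
  have hval : ∀ u q u' q' : F, u * q = u' * q' → β u (u * q * q * σ q) = β u' (u' * q' * q' * σ q') := by
    intro u q u' q' huq
    obtain ⟨A, hA, h1⟩ := tau_one D u
    obtain ⟨w, hw, h2⟩ := tau_three D (u * q * q * σ q)
    obtain ⟨A', hA', h1'⟩ := tau_one D u'
    obtain ⟨w', hw', h2'⟩ := tau_three D (u' * q' * q' * σ q')
    obtain ⟨g, hg, ⟨c, hc⟩, hgg⟩ := val P D hA hw h1 h2
    obtain ⟨g', hg', ⟨c', hc'⟩, hgg'⟩ := val P D hA' hw' h1' h2'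
    rw [← huq] at hc'
    have h3 := sq_three P D hg hg' hc hc'
    rw [hgg, hgg', hβ _ _ _ hA _ hw h1 h2, hβ _ _ _ hA' _ hw' h1' h2'] at h3
    exact (S.injE _ _ _ _ _ (P.inj h3)).2.symm
  -- `β 1` is constant on the units
  have hconst : ∀ n : Fˣ, β 1 ((σ n)⁻¹ : F) = β 1 1 := by
    intro n
    obtain ⟨m, hm⟩ := Arc.s1_surj S n
    have hm' : (m : F) * σ m = n := congrArg Units.val hm
    have h1 := htor m 1 ((σ n)⁻¹)
    rw [hm', mul_one] at h1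
    rw [← h1]
    have h2 := hval (n : F) ((n : F)⁻¹) 1 1 (by rw [mul_inv_cancel₀ n.ne_zero, mul_one])
    rw [map_one] at h2
    simp only [mul_one] at h2
    rw [mul_inv_cancel₀ n.ne_zero, one_mul, map_inv₀] at h2
    exact h2
  have hc : ∀ x : F, x ≠ 0 → β 1 x = β 1 1 := by
    intro x hx
    obtain ⟨y, hy⟩ := σ_surj P x⁻¹
    have hy0 : y ≠ 0 := by
      rintro rfl
      rw [map_zero] at hy
      exact hx (inv_eq_zero.1 hy.symm)
    have := hconst (Units.mk0 y hy0)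
    rw [Units.val_mk0, hy, inv_inv] at this
    exact this
  have hzero : β 1 1 = 0 := by
    obtain ⟨ω, hω⟩ := exists_unit P
    have h1 : (ω : F) + 1 ≠ 0 := by
      intro h
      apply hω
      apply Units.ext
      have h2 := two_zero S (1 : F)
      rw [Units.val_one]
      exact add_right_cancel (h.trans h2.symm)
    have h2 := hadd 1 (ω : F) 1
    rw [hc _ h1, hc _ ω.ne_zero, two_zero S] at h2
    exact h2
  have h1v : ∀ v, β 1 v = 0 := by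
    intro v
    rcases eq_or_ne v 0 with rfl | hv
    · have := hadd 1 0 0
      rw [add_zero] at this
      exact (add_eq_left.1 this.symm)
    · rw [hc v hv, hzero]
  have hall : ∀ u v, u ≠ 0 → β u v = 0 := by
    intro u v hu
    obtain ⟨m, hm⟩ := Arc.s1_surj S (Units.mk0 u hu)
    have hm' : (m : F) * σ m = u := congrArg Units.val hm
    have h2 := htor m 1 (u * v)
    rw [hm', mul_one, inv_mul_cancel_left₀ hu, h1v] at h2
    exact h2
  -- conclusion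
  obtain ⟨z, ⟨u, rfl⟩, h1⟩ := D.comm hA
  obtain ⟨z, ⟨v, rfl⟩, h2⟩ := D.comm hw
  have h33 : ((3 : ℤ) : ZMod 8) = 3 := by norm_num
  rw [Int.cast_one] at h1
  rw [h33] at h2
  rcases eq_or_ne u 0 with rfl | hu
  · rw [S.e_zero, map_one, mul_one] at h1
    obtain ⟨z, ⟨a, rfl⟩, rfl⟩ := W_fix P D hA h1
    rw [Int.cast_one]
    exact (W3_J P D hw (mem_J (S.mX2 0 a) (by norm_num) (by norm_num))).symm
  · have h3 := hβ u v A hA w hw h1 h2
    rw [hall u v hu, S.e_zero, map_one] at h3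
    have h4 : w * A = A * w := by
      calc w * A = (w * A * w⁻¹ * A⁻¹) * (A * w) := by group
        _ = A * w := by rw [h3, one_mul]
    exact h4.symm


/-- elements of `Y` moving the centres along -/
theorem Zc_rot (S : Full σ Y) (k a : ℤ) (z : Y) : z ∈ S.Zc (a : ZMod 8) ↔
    S.rot ^ k * z * (S.rot ^ k)⁻¹ ∈ S.Zc ((a + k : ℤ) : ZMod 8) := by
  have h := S.map_Zc k a
  have e : ((a + k : ℤ) : ZMod 8) = (a : ZMod 8) + k := by push_cast; ring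
  rw [e, ← h]
  constructor
  · exact fun hz => ⟨z, hz, rfl⟩
  · rintro ⟨z', hz', h1⟩
    have h2 : S.rot ^ k * z' * (S.rot ^ k)⁻¹ = S.rot ^ k * z * (S.rot ^ k)⁻¹ := h1
    rw [← mul_left_cancel (mul_right_cancel h2)]
    exact hz'

/-- the rotations move `W a` to `W (a + k)` -/
theorem W_rot (P : Pos S i t) (D : WData S i t W) {a : ℤ} (k : ℤ) {w : G} (hw : w ∈ W a) :
    i (S.rot ^ k) * w * (i (S.rot ^ k))⁻¹ ∈ W (a + k) := D.conj P.ti (Zc_rot S k a) hw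

theorem W_rot' (P : Pos S i t) (D : WData S i t W) {a : ℤ} (k : ℤ) {w : G} (hw : w ∈ W (a + k)) :
    (i (S.rot ^ k))⁻¹ * w * i (S.rot ^ k) ∈ W a := by
  have h := W_rot P D (-k) hw
  rw [add_neg_cancel_right, zpow_neg, map_inv, inv_inv] at h
  exact h

/-- **Section 2a**: `[W_{2a}, W_{2a+4}] = 1`. -/
theorem comm_two (P : Pos S i t) (D : WData S i t W) (a : ℤ) : ∀ w ∈ W a, ∀ w' ∈ W (a + 2), w * w' = w' * w := by
  intro w hw w' hw'
  have h1 := W_rot' P D (a := 1) (a - 1) (w := w) (by rwa [show 1 + (a - 1) = a by ring])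
  have h2 := W_rot' P D (a := 3) (a - 1) (w := w') (by rwa [show 3 + (a - 1) = a + 2 by ring])
  have h3 := comm_13 P D h1 h2
  set g := i (S.rot ^ (a - 1))
  calc w * w' = g * ((g⁻¹ * w * g) * (g⁻¹ * w' * g)) * g⁻¹ := by group
    _ = w' * w := by rw [h3]; group

end Cfsg.Agent.OddHalf.D7TwF4.Fab

end

-- merged: Cfsg.Agent.OddHalf.D7TwF4.Fab2Defs
section

/-!
# ODD D7, `K = ²F₄(q)`, `q ≥ 8`: output of section 2 (helper297; text: bb ODD 13028)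

* `Zk S k` : the centre of `X_k` (`X_k` for `k` odd);
* `VData S i t W V` : the double `V k` of `Zk S k`, for all `k`, with the relations inside `V 2 … V 6`.
-/

set_option autoImplicit false
set_option linter.unusedSectionVars false

namespace Cfsg.Agent.OddHalf.D7TwF4.Fab2

open Cfsg.Agent.KFacts.TwF4 Cfsg.Agent.SplitTwo.ZS Cfsg.Agent.OddHalf.D7TwF4.Defs

universe u v w

variable {F : Type w} [Field F] {σ : F →+* F} {Y : Type u} [Group Y] {G : Type v} [Group G]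

/-- `Z_k` for `k` even, `X_k` for `k` odd -/
def Zk (S : Full σ Y) (k : ℤ) : Subgroup Y := if (2 : ℤ) ∣ k then S.Zc ((k / 2 : ℤ) : ZMod 8) else S.XZ k

theorem Zk_even (S : Full σ Y) (a : ℤ) : Zk S (2 * a) = S.Zc (a : ZMod 8) := by
  unfold Zk
  rw [if_pos (Dvd.intro _ rfl), Int.mul_ediv_cancel_left _ (by norm_num)]

theorem Zk_odd (S : Full σ Y) (a : ℤ) : Zk S (2 * a + 1) = S.XZ (2 * a + 1) := by
  unfold Zk
  rw [if_neg (by omega)]

theorem Zk_le (S : Full σ Y) (k : ℤ) : Zk S k ≤ S.XZ k := by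
  obtain ⟨a, h | h⟩ := Int.even_or_odd' k
  · rw [h, Zk_even]; exact S.Zc_le a
  · rw [h, Zk_odd]

/-- **Output of section 2.** `V k` is the double of `Zk S k`; `W a = V (2 a)`. -/
structure VData (S : Full σ Y) (i : Y →* G) (t : G) (W : ℤ → Subgroup G) (V : ℤ → Subgroup G) : Prop where
  even : ∀ a : ℤ, V (2 * a) = W a
  ab : ∀ k, ∀ v ∈ V k, ∀ v' ∈ V k, v * v' = v' * v
  sq : ∀ k, ∀ v ∈ V k, v * v = 1
  tinv : ∀ k, ∀ v ∈ V k, t * v * t ∈ V k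
  /-- `C_{V k}(t) = Zk` -/
  fix : ∀ k, ∀ v ∈ V k, t * v * t = v → ∃ y ∈ Zk S k, v = i y
  le : ∀ k, ∀ y ∈ Zk S k, i y ∈ V k
  /-- `[V k, t] = Zk` -/
  comm : ∀ k, ∀ v ∈ V k, ∃ y ∈ Zk S k, t * v * t = v * i y
  sur : ∀ k, ∀ y ∈ Zk S k, ∃ v ∈ V k, t * v * t = v * i y
  /-- the torus -/
  tor : ∀ k, ∀ h ∈ S.T, ∀ v ∈ V k, i h * v * (i h)⁻¹ ∈ V k
  torc : ∀ k, ∀ h ∈ S.Tk k, ∀ v ∈ V k, i h * v = v * i h
  /-- naturality -/
  rot : ∀ m k : ℤ, ∀ v, v ∈ V k ↔ i (S.rot ^ m) * v * (i (S.rot ^ m))⁻¹ ∈ V (k + 2 * m)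
  n1 : ∀ k, ∀ v, v ∈ V k ↔ i S.n1 * v * (i S.n1)⁻¹ ∈ V (10 - k)
  n2 : ∀ k, ∀ v, v ∈ V k ↔ i S.n2 * v * (i S.n2)⁻¹ ∈ V (8 - k)
  /-- `V 2 V 3 V 4 V 5 V 6` is abelian -/
  cm : ∀ j k : ℤ, 2 ≤ j → j ≤ 6 → 2 ≤ k → k ≤ 6 → ∀ v ∈ V j, ∀ v' ∈ V k, v * v' = v' * v
  /-- and centralised by `X_4` -/
  x4 : ∀ j : ℤ, 2 ≤ j → j ≤ 6 → ∀ v ∈ V j, ∀ x ∈ S.XZ 4, v * i x = i x * v
  /-- `V 4` is centralised by `X_0, …, X_8` -/
  v4 : ∀ v ∈ V 4, ∀ k : ℤ, 0 ≤ k → k ≤ 8 → ∀ x ∈ S.XZ k, v * i x = i x * v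
  /-- `[V j, X_k] ≤ V 4` -/
  cl : ∀ j k : ℤ, 2 ≤ j → j ≤ 6 → 1 ≤ k → k ≤ 7 → ∀ v ∈ V j, ∀ x ∈ S.XZ k, v * i x * v⁻¹ * (i x)⁻¹ ∈ V 4
  /-- `X_0, X_8` normalise `V 2 V 3 V 4 V 5 V 6` -/
  x8 : ∀ k : ℤ, 0 ≤ k → k ≤ 8 → ∀ x ∈ S.XZ k, ∀ v ∈ V 2 ⊔ V 3 ⊔ V 4 ⊔ V 5 ⊔ V 6,
    i x * v * (i x)⁻¹ ∈ V 2 ⊔ V 3 ⊔ V 4 ⊔ V 5 ⊔ V 6

end Cfsg.Agent.OddHalf.D7TwF4.Fab2

end

-- merged: Cfsg.Agent.OddHalf.D7TwF4.PairAbs
section

/-!
# ODD D7, `K = ²F₄(q)`: the commutator of two doubles at 135 degrees, abstract part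

`W2, W8` : the doubles of the long root groups `Z2 = X_2', Z8 = X_8'`, `I = W_4 W_5 W_6`.
-/

set_option autoImplicit false

namespace Cfsg.Agent.OddHalf.D7TwF4.PairAbs

variable {G : Type*} [Group G]

/-- The situation of `abs`. -/
structure Hyp (t : G) (W2 W8 Z2 Z8 I : Subgroup G) (X : Set G) : Prop where
  tt : t * t = 1
  I_comm : ∀ x ∈ I, ∀ y ∈ I, x * y = y * x
  W2I : ∀ a ∈ W2, ∀ i ∈ I, a * i = i * a
  W8I : ∀ b ∈ W8, ∀ i ∈ I, b * i = i * b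
  Z2_le : Z2 ≤ W2
  Z8_le : Z8 ≤ W8
  W2c : ∀ a ∈ W2, ∀ b ∈ W2, a * b = b * a
  W8c : ∀ a ∈ W8, ∀ b ∈ W8, a * b = b * a
  W2t : ∀ a ∈ W2, ∃ z ∈ Z2, t * a * t⁻¹ = a * z
  W8t : ∀ b ∈ W8, ∃ z ∈ Z8, t * b * t⁻¹ = b * z
  It : ∀ i ∈ I, t * i * t⁻¹ ∈ I
  Isq : ∀ i ∈ I, i * i = 1
  Ifix : ∀ i ∈ I, t * i * t⁻¹ = i → ∃ m ∈ I, t * m * t⁻¹ = m * i
  hZ2 : ∀ z ∈ Z2, ∀ b ∈ W8, z * b * z⁻¹ * b⁻¹ ∈ I
  hZ8 : ∀ a ∈ W2, ∀ z ∈ Z8, a * z * a⁻¹ * z⁻¹ ∈ I
  XW2 : ∀ x ∈ X, ∀ a ∈ W2, x * a = a * x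
  XW8 : ∀ x ∈ X, ∀ a ∈ W8, x * a = a * x
  XI : ∀ x ∈ X, ∀ a ∈ I, x * a = a * x
  hk : ∀ k, k * t = t * k → (∀ i ∈ I, k * i = i * k) → (∀ x ∈ X, x * k = k * x) →
    ∃ z2 ∈ Z2, ∃ z8 ∈ Z8, ∃ i ∈ I, k = z2 * z8 * i
  uniq : ∀ z2 ∈ Z2, ∀ z8 ∈ Z8, z2 * z8 ∈ I → z2 ∈ I

section
variable {t : G} {W2 W8 Z2 Z8 I : Subgroup G} {X : Set G} (H : Hyp t W2 W8 Z2 Z8 I X)
include H

/-- the commutator commutes with `I` -/
theorem c_comm {a b : G} (ha : a ∈ W2) (hb : b ∈ W8) {i : G} (hi : i ∈ I) :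
    (a * b * a⁻¹ * b⁻¹) * i = i * (a * b * a⁻¹ * b⁻¹) := by
  have h1 := H.W2I a ha i hi
  have h2 := H.W8I b hb i hi
  have h3 := H.W2I a⁻¹ (inv_mem ha) i hi
  have h4 := H.W8I b⁻¹ (inv_mem hb) i hi
  calc (a * b * a⁻¹ * b⁻¹) * i = a * b * a⁻¹ * (b⁻¹ * i) := by group
    _ = a * b * (a⁻¹ * i) * b⁻¹ := by rw [h4]; group
    _ = a * (b * i) * a⁻¹ * b⁻¹ := by rw [h3]; group
    _ = (a * i) * b * a⁻¹ * b⁻¹ := by rw [h2]; group
    _ = i * (a * b * a⁻¹ * b⁻¹) := by rw [h1]; group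

/-- `[a, b]` is unchanged when `b` is multiplied by an element of `I` -/
theorem c_mul_right {a : G} (b : G) (ha : a ∈ W2) {i : G} (hi : i ∈ I) :
    a * (b * i) * a⁻¹ * (b * i)⁻¹ = a * b * a⁻¹ * b⁻¹ := by
  have h3 := H.W2I a⁻¹ (inv_mem ha) i hi
  calc a * (b * i) * a⁻¹ * (b * i)⁻¹ = a * b * (i * a⁻¹) * i⁻¹ * b⁻¹ := by group
    _ = a * b * a⁻¹ * b⁻¹ := by rw [← h3]; group

theorem c_mul_left (a : G) {b : G} (hb : b ∈ W8) {i : G} (hi : i ∈ I) :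
    (a * i) * b * (a * i)⁻¹ * b⁻¹ = a * b * a⁻¹ * b⁻¹ := by
  have h3 := H.W8I b hb i hi
  calc (a * i) * b * (a * i)⁻¹ * b⁻¹ = a * (i * b) * i⁻¹ * a⁻¹ * b⁻¹ := by group
    _ = a * b * a⁻¹ * b⁻¹ := by rw [← h3]; group

/-- conjugation by elements of `Z2` -/
theorem c_conj_Z2 {a b z : G} (ha : a ∈ W2) (hb : b ∈ W8) (hz : z ∈ Z2) :
    z * (a * b * a⁻¹ * b⁻¹) * z⁻¹ = a * b * a⁻¹ * b⁻¹ := by
  have h1 : z * a = a * z := H.W2c z (H.Z2_le hz) a ha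
  have h2 := H.hZ2 z hz b hb
  set i := z * b * z⁻¹ * b⁻¹ with hi
  have h3 : z * b * z⁻¹ = b * i := by
    have e : z * b * z⁻¹ = i * b := by rw [hi]; group
    rw [e]; exact (H.W8I b hb i h2).symm
  calc z * (a * b * a⁻¹ * b⁻¹) * z⁻¹ = (z * a * z⁻¹) * (z * b * z⁻¹) * (z * a * z⁻¹)⁻¹ * (z * b * z⁻¹)⁻¹ := by group
    _ = a * (b * i) * a⁻¹ * (b * i)⁻¹ := by rw [h3, h1]; group
    _ = _ := c_mul_right H b ha h2

theorem c_conj_Z8 {a b z : G} (ha : a ∈ W2) (hb : b ∈ W8) (hz : z ∈ Z8) :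
    z * (a * b * a⁻¹ * b⁻¹) * z⁻¹ = a * b * a⁻¹ * b⁻¹ := by
  have h1 : z * b = b * z := H.W8c z (H.Z8_le hz) b hb
  have h2 := H.hZ8 a ha z hz
  have h3 : z * a * z⁻¹ = a * (a * z * a⁻¹ * z⁻¹)⁻¹ := by
    have e : z * a * z⁻¹ = (a * z * a⁻¹ * z⁻¹)⁻¹ * a := by group
    rw [e]; exact (H.W2I a ha _ (inv_mem h2)).symm
  calc z * (a * b * a⁻¹ * b⁻¹) * z⁻¹ = (z * a * z⁻¹) * (z * b * z⁻¹) * (z * a * z⁻¹)⁻¹ * (z * b * z⁻¹)⁻¹ := by group
    _ = (a * (a * z * a⁻¹ * z⁻¹)⁻¹) * b * (a * (a * z * a⁻¹ * z⁻¹)⁻¹)⁻¹ * b⁻¹ := by rw [h3, h1]; group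
    _ = _ := c_mul_left H a hb (inv_mem h2)

/-- the commutator of `Z2` and `Z8` lies in `I` -/
theorem z_comm {z w : G} (hz : z ∈ Z2) (hw : w ∈ Z8) : z * w * z⁻¹ * w⁻¹ ∈ I := H.hZ2 z hz w (H.Z8_le hw)

/-- `t` moves the commutator by an element of `I` -/
theorem c_t {a b : G} (ha : a ∈ W2) (hb : b ∈ W8) :
    ∃ i ∈ I, t * (a * b * a⁻¹ * b⁻¹) * t⁻¹ = (a * b * a⁻¹ * b⁻¹) * i := by
  obtain ⟨z, hz, ez⟩ := H.W2t a ha
  obtain ⟨w, hw, ew⟩ := H.W8t b hb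
  have e1 : t * (a * b * a⁻¹ * b⁻¹) * t⁻¹ = (a * z) * (b * w) * (a * z)⁻¹ * (b * w)⁻¹ := by
    rw [← ez, ← ew]; group
  -- `z w = w z i1`
  have i1 := z_comm H hz hw
  have i2 := H.hZ2 z hz b hb
  have i3 := H.hZ8 a ha w hw
  have hza : z * a = a * z := H.W2c z (H.Z2_le hz) a ha
  have hwb : w * b = b * w := H.W8c w (H.Z8_le hw) b hb
  -- expand
  have e2 : (a * z) * (b * w) * (a * z)⁻¹ * (b * w)⁻¹ =
      (a * (z * b * z⁻¹ * b⁻¹) * a⁻¹) * (a * b * a⁻¹ * b⁻¹) *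
        (b * (a * (z * w * z⁻¹ * w⁻¹) * a⁻¹) * (a * w * a⁻¹ * w⁻¹) * b⁻¹) := by
    group
  have e4 : a * (z * b * z⁻¹ * b⁻¹) * a⁻¹ = z * b * z⁻¹ * b⁻¹ := by
    rw [H.W2I a ha _ i2]; group
  have e5 : a * (z * w * z⁻¹ * w⁻¹) * a⁻¹ = z * w * z⁻¹ * w⁻¹ := by
    rw [H.W2I a ha _ i1]; group
  have e6 : b * ((z * w * z⁻¹ * w⁻¹) * (a * w * a⁻¹ * w⁻¹)) * b⁻¹ =
      (z * w * z⁻¹ * w⁻¹) * (a * w * a⁻¹ * w⁻¹) := by
    rw [H.W8I b hb _ (mul_mem i1 i3)]; group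
  refine ⟨(z * b * z⁻¹ * b⁻¹) * ((z * w * z⁻¹ * w⁻¹) * (a * w * a⁻¹ * w⁻¹)), mul_mem i2 (mul_mem i1 i3), ?_⟩
  rw [e1, e2, e4, e5]
  have e7 : b * (z * w * z⁻¹ * w⁻¹) * (a * w * a⁻¹ * w⁻¹) * b⁻¹ =
      (z * w * z⁻¹ * w⁻¹) * (a * w * a⁻¹ * w⁻¹) := by rw [← e6]; group
  rw [e7, ← c_comm H ha hb i2, mul_assoc]

/-- `[a, b] ∈ Z2 Z8 I` -/
theorem c_form {a b : G} (ha : a ∈ W2) (hb : b ∈ W8) :
    ∃ z2 ∈ Z2, ∃ z8 ∈ Z8, ∃ i ∈ I, a * b * a⁻¹ * b⁻¹ = z2 * z8 * i := by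
  obtain ⟨i, hi, e⟩ := c_t H ha hb
  set c := a * b * a⁻¹ * b⁻¹ with hc
  have tinv : t⁻¹ = t := inv_eq_of_mul_eq_one_left H.tt
  have e1 : t * i * t⁻¹ = i := by
    have e2 : t * (t * c * t⁻¹) * t⁻¹ = c := by
      calc t * (t * c * t⁻¹) * t⁻¹ = (t * t) * c * (t * t)⁻¹ := by group
        _ = c := by rw [H.tt]; group
    have e3 : t * (c * i) * t⁻¹ = (c * i) * (t * i * t⁻¹) := by
      calc t * (c * i) * t⁻¹ = (t * c * t⁻¹) * (t * i * t⁻¹) := by group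
        _ = _ := by rw [e]
    rw [e, e3, mul_assoc] at e2
    have e4 : i * (t * i * t⁻¹) = 1 := mul_eq_left.1 e2
    have e5 := H.Isq i hi
    exact mul_left_cancel (e4.trans e5.symm)
  obtain ⟨m, hm, em⟩ := H.Ifix i hi e1
  have k1 : (c * m) * t = t * (c * m) := by
    have : t * (c * m) * t⁻¹ = c * m := by
      calc t * (c * m) * t⁻¹ = (t * c * t⁻¹) * (t * m * t⁻¹) := by group
        _ = (c * i) * (m * i) := by rw [e, em]
        _ = c * (i * m) * i := by group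
        _ = c * (m * i) * i := by rw [H.I_comm i hi m hm]
        _ = c * m * (i * i) := by group
        _ = c * m := by rw [H.Isq i hi, mul_one]
    exact (mul_inv_eq_iff_eq_mul.1 this).symm
  have k2 : ∀ j ∈ I, (c * m) * j = j * (c * m) := fun j hj => by
    calc (c * m) * j = c * (m * j) := by group
      _ = (c * j) * m := by rw [H.I_comm m hm j hj]; group
      _ = j * (c * m) := by rw [hc, c_comm H ha hb hj]; group
  have k3 : ∀ x ∈ X, x * (c * m) = (c * m) * x := fun x hx => by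
    have x1 := H.XW2 x hx a ha
    have x2 := H.XW8 x hx b hb
    have x3 := H.XW2 x hx a⁻¹ (inv_mem ha)
    have x4 := H.XW8 x hx b⁻¹ (inv_mem hb)
    have x5 := H.XI x hx m hm
    calc x * (c * m) = (x * a) * b * a⁻¹ * b⁻¹ * m := by rw [hc]; group
      _ = a * (x * b) * a⁻¹ * b⁻¹ * m := by rw [x1]; group
      _ = a * b * (x * a⁻¹) * b⁻¹ * m := by rw [x2]; group
      _ = a * b * a⁻¹ * (x * b⁻¹) * m := by rw [x3]; group
      _ = a * b * a⁻¹ * b⁻¹ * (x * m) := by rw [x4]; group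
      _ = (c * m) * x := by rw [x5, hc]; group
  obtain ⟨z2, h2, z8, h8, j, hj, ek⟩ := H.hk _ k1 k2 k3
  refine ⟨z2, h2, z8, h8, j * m⁻¹, mul_mem hj (inv_mem hm), ?_⟩
  calc c = (c * m) * m⁻¹ := by group
    _ = _ := by rw [ek]; group

/-- **(g4), abstract**: if an element `h2` commuting with `W2` acts on `W8` without fixed points and an element `h8`
commuting with `W8` acts on `W2` without fixed points then `[W2, W8] ≤ I`. -/
theorem comm_mem {h2 h8 : G} (h2W : ∀ a ∈ W2, h2 * a = a * h2)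
    (h2s : ∀ b ∈ W8, ∃ b0 ∈ W8, h2 * b0 * h2⁻¹ ∈ W8 ∧ b = b0⁻¹ * (h2 * b0 * h2⁻¹))
    (h2Z : ∀ z ∈ Z8, h2 * z * h2⁻¹ ∈ Z8) (h2I : ∀ i ∈ I, h2 * i * h2⁻¹ ∈ I)
    (h8W : ∀ a ∈ W8, h8 * a = a * h8)
    (h8s : ∀ b ∈ W2, ∃ b0 ∈ W2, h8 * b0 * h8⁻¹ ∈ W2 ∧ b = b0⁻¹ * (h8 * b0 * h8⁻¹))
    (h8Z : ∀ z ∈ Z2, h8 * z * h8⁻¹ ∈ Z2) (h8I : ∀ i ∈ I, h8 * i * h8⁻¹ ∈ I)
    {a b : G} (ha : a ∈ W2) (hb : b ∈ W8) : a * b * a⁻¹ * b⁻¹ ∈ I := by
  -- `[a, b] ∈ Z8 I`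
  have A : ∃ z ∈ Z8, ∃ i ∈ I, a * b * a⁻¹ * b⁻¹ = z * i := by
    obtain ⟨b0, hb0, hb1, eb⟩ := h2s b hb
    obtain ⟨z2, m2, z8, m8, i, mi, e⟩ := c_form H ha hb0
    set b1 := h2 * b0 * h2⁻¹ with hb1'
    have e1 : a * b1 * a⁻¹ * b1⁻¹ = z2 * (h2 * z8 * h2⁻¹) * (h2 * i * h2⁻¹) := by
      have f1 : a * b1 * a⁻¹ * b1⁻¹ = h2 * (a * b0 * a⁻¹ * b0⁻¹) * h2⁻¹ := by
        have g1 : h2 * a * h2⁻¹ = a := by rw [h2W a ha]; group
        calc a * b1 * a⁻¹ * b1⁻¹ = (h2 * a * h2⁻¹) * b1 * (h2 * a * h2⁻¹)⁻¹ * b1⁻¹ := by rw [g1]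
          _ = _ := by rw [hb1']; group
      rw [f1, e]
      have g2 : h2 * z2 * h2⁻¹ = z2 := by rw [h2W z2 (H.Z2_le m2)]; group
      calc h2 * (z2 * z8 * i) * h2⁻¹ = (h2 * z2 * h2⁻¹) * (h2 * z8 * h2⁻¹) * (h2 * i * h2⁻¹) := by group
        _ = _ := by rw [g2]
    have e2 : a * b * a⁻¹ * b⁻¹ = b0⁻¹ * ((a * b0 * a⁻¹ * b0⁻¹)⁻¹ * (a * b1 * a⁻¹ * b1⁻¹)) * b0 := by
      rw [eb]; group
    set z8' := h2 * z8 * h2⁻¹ with hz8'
    set i' := h2 * i * h2⁻¹ with hi'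
    have mz : z8' ∈ Z8 := h2Z z8 m8
    have mi' : i' ∈ I := h2I i mi
    have e4 : (a * b0 * a⁻¹ * b0⁻¹)⁻¹ * (a * b1 * a⁻¹ * b1⁻¹) = (z8⁻¹ * z8') * (i⁻¹ * i') := by
      rw [e, e1]
      have c1 : i⁻¹ * (z8⁻¹ * z8') = (z8⁻¹ * z8') * i⁻¹ :=
        (H.W8I _ (mul_mem (inv_mem (H.Z8_le m8)) (H.Z8_le mz)) _ (inv_mem mi)).symm
      calc (z2 * z8 * i)⁻¹ * (z2 * z8' * i') = i⁻¹ * (z8⁻¹ * z8') * i' := by group
        _ = _ := by rw [c1]; group
    refine ⟨z8⁻¹ * z8', mul_mem (inv_mem m8) mz, i⁻¹ * i', mul_mem (inv_mem mi) mi', ?_⟩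
    rw [e2, e4]
    have c2 : b0⁻¹ * (z8⁻¹ * z8') = (z8⁻¹ * z8') * b0⁻¹ :=
      H.W8c _ (inv_mem hb0) _ (mul_mem (inv_mem (H.Z8_le m8)) (H.Z8_le mz))
    have c3 : b0⁻¹ * (i⁻¹ * i') = (i⁻¹ * i') * b0⁻¹ := H.W8I _ (inv_mem hb0) _ (mul_mem (inv_mem mi) mi')
    calc b0⁻¹ * ((z8⁻¹ * z8') * (i⁻¹ * i')) * b0 = (b0⁻¹ * (z8⁻¹ * z8')) * (i⁻¹ * i') * b0 := by group
      _ = (z8⁻¹ * z8') * (b0⁻¹ * (i⁻¹ * i')) * b0 := by rw [c2]; group
      _ = _ := by rw [c3]; group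
  have B : ∃ z ∈ Z2, ∃ i ∈ I, a * b * a⁻¹ * b⁻¹ = z * i := by
    obtain ⟨b0, hb0, hb1, eb⟩ := h8s a ha
    obtain ⟨z2, m2, z8, m8, i, mi, e⟩ := c_form H hb0 hb
    set b1 := h8 * b0 * h8⁻¹ with hb1'
    -- `[b1, b] = h8 [b0, b] h8⁻¹`
    have e1 : b1 * b * b1⁻¹ * b⁻¹ = (h8 * z2 * h8⁻¹) * z8 * (h8 * i * h8⁻¹) := by
      have f1 : b1 * b * b1⁻¹ * b⁻¹ = h8 * (b0 * b * b0⁻¹ * b⁻¹) * h8⁻¹ := by
        have g1 : h8 * b * h8⁻¹ = b := by rw [h8W b hb]; group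
        calc b1 * b * b1⁻¹ * b⁻¹ = b1 * (h8 * b * h8⁻¹) * b1⁻¹ * (h8 * b * h8⁻¹)⁻¹ := by rw [g1]
          _ = _ := by rw [hb1']; group
      rw [f1, e]
      have g2 : h8 * z8 * h8⁻¹ = z8 := by rw [h8W z8 (H.Z8_le m8)]; group
      calc h8 * (z2 * z8 * i) * h8⁻¹ = (h8 * z2 * h8⁻¹) * (h8 * z8 * h8⁻¹) * (h8 * i * h8⁻¹) := by group
        _ = _ := by rw [g2]
    have hcm : b1 * b0⁻¹ = b0⁻¹ * b1 := (H.W2c _ (inv_mem hb0) _ hb1).symm
    -- `a = b1 b0⁻¹`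
    have e2 : a * b * a⁻¹ * b⁻¹ = b1 * (b0⁻¹ * (b0 * b * b0⁻¹ * b⁻¹)⁻¹ * b0) * b1⁻¹ * (b1 * b * b1⁻¹ * b⁻¹) := by
      rw [eb, ← hcm]; group
    set z2' := h8 * z2 * h8⁻¹ with hz2'
    set i' := h8 * i * h8⁻¹ with hi'
    have mz : z2' ∈ Z2 := h8Z z2 m2
    have mi' : i' ∈ I := h8I i mi
    -- conjugation of `(z2 z8 i)⁻¹` by `g := b1 b0⁻¹ ∈ W2`
    have hg : b1 * b0⁻¹ ∈ W2 := mul_mem hb1 (inv_mem hb0)
    set g := b1 * b0⁻¹ with hg'
    have e3 : b1 * (b0⁻¹ * (b0 * b * b0⁻¹ * b⁻¹)⁻¹ * b0) * b1⁻¹ = g * (z2 * z8 * i)⁻¹ * g⁻¹ := by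
      rw [hg', e]; group
    have i3 := H.hZ8 g hg z8⁻¹ (inv_mem m8)
    set j := g * z8⁻¹ * g⁻¹ * (z8⁻¹)⁻¹ with hj
    have e4 : g * (z2 * z8 * i)⁻¹ * g⁻¹ = i⁻¹ * (j * z8⁻¹) * z2⁻¹ := by
      have c1 : g * i⁻¹ * g⁻¹ = i⁻¹ := by rw [H.W2I g hg _ (inv_mem mi)]; group
      have c2 : g * z2⁻¹ * g⁻¹ = z2⁻¹ := by rw [H.W2c g hg _ (inv_mem (H.Z2_le m2))]; group
      calc g * (z2 * z8 * i)⁻¹ * g⁻¹ = (g * i⁻¹ * g⁻¹) * (g * z8⁻¹ * g⁻¹) * (g * z2⁻¹ * g⁻¹) := by group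
        _ = i⁻¹ * (g * z8⁻¹ * g⁻¹) * z2⁻¹ := by rw [c1, c2]
        _ = _ := by rw [hj]; group
    -- total
    have tot : a * b * a⁻¹ * b⁻¹ = i⁻¹ * (j * z8⁻¹) * z2⁻¹ * (z2' * z8 * i') := by
      rw [e2, e3, e4, e1]
    -- move everything
    have hz : z2⁻¹ * z2' ∈ Z2 := mul_mem (inv_mem m2) mz
    have i4 := z_comm H hz (inv_mem m8)
    set y := z2⁻¹ * z2' with hy
    -- `z8⁻¹ y z8 = y * (y⁻¹ z8⁻¹ y z8)`
    have i5 : y⁻¹ * z8⁻¹ * y * z8 ∈ I := by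
      have h := z_comm H (inv_mem hz) (inv_mem m8)
      have e : y⁻¹ * z8⁻¹ * y * z8 = y⁻¹ * z8⁻¹ * (y⁻¹)⁻¹ * (z8⁻¹)⁻¹ := by group
      rw [e]; exact h
    refine ⟨y, hz, (i⁻¹ * j) * ((y⁻¹ * z8⁻¹ * y * z8) * i'),
      mul_mem (mul_mem (inv_mem mi) i3) (mul_mem i5 mi'), ?_⟩
    have c5 : (i⁻¹ * j) * y = y * (i⁻¹ * j) := (H.W2I y (H.Z2_le hz) _ (mul_mem (inv_mem mi) i3)).symm
    calc a * b * a⁻¹ * b⁻¹ = i⁻¹ * (j * z8⁻¹) * z2⁻¹ * (z2' * z8 * i') := tot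
      _ = (i⁻¹ * j) * y * (y⁻¹ * z8⁻¹ * y * z8) * i' := by rw [hy]; group
      _ = y * (i⁻¹ * j) * (y⁻¹ * z8⁻¹ * y * z8) * i' := by rw [c5]
      _ = _ := by group
  obtain ⟨z8, m8, i, mi, e8⟩ := A
  obtain ⟨z2, m2, j, mj, e2⟩ := B
  have h : z2 * z8⁻¹ ∈ I := by
    have e : z2 * j = z8 * i := e2.symm.trans e8
    -- `z2 = z8 i j⁻¹`, so `z2 z8⁻¹ = z8 (i j⁻¹) z8⁻¹ = i j⁻¹`
    have e' : z2 = z8 * (i * j⁻¹) := by
      calc z2 = (z2 * j) * j⁻¹ := by group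
        _ = _ := by rw [e]; group
    have c1 := H.W8I z8 (H.Z8_le m8) _ (mul_mem mi (inv_mem mj))
    rw [e', c1]
    have : i * j⁻¹ * z8 * z8⁻¹ = i * j⁻¹ := by group
    rw [this]
    exact mul_mem mi (inv_mem mj)
  have h' := H.uniq z2 m2 z8⁻¹ (inv_mem m8) h
  rw [e2]
  exact mul_mem h' mj

end

end Cfsg.Agent.OddHalf.D7TwF4.PairAbs

end

-- merged: Cfsg.Agent.OddHalf.D7TwF4.PairK
section

/-!
# ODD D7, `K = ²F₄(q)`: the facts on `Y` for the commutator `[W_2, W_8]` (helper625; text: bb ODD 13028)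

* `v5_one` : `Z_4 X_5 Z_6` is direct;
* `kill78` : an element of `Z_4 X_5 Z_6 X_7 Z_8` commuting with an element of `Z_2` lies in `Z_4 X_5 Z_6`;
* `form_NO` : the elements commuting with `X_4`, `X_5`, `X_6` inside `X_2 ⋯ X_8` form `Z_2 Z_8 Z_4 X_5 Z_6`.
-/

set_option autoImplicit false
set_option linter.unusedSectionVars false

namespace Cfsg.Agent.OddHalf.D7TwF4.PairK

open Cfsg.Agent.KFacts.TwF4 Cfsg.Agent.SplitTwo.ZS Cfsg.Agent.OddHalf.D7TwF4.Defs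

universe u w

variable {F : Type w} [Field F] {σ : F →+* F} {Y : Type u} [Group Y] (S : Full σ Y)

/-- the centre `Z_{2a}` is centralised by `X_{2a-4}, …, X_{2a+4}` -/
theorem comm_Zc [Finite F] {a : ℤ} {x z : Y} (hx : x ∈ J S.XZ (2 * a - 4) (2 * a + 4)) (hz : z ∈ S.Zc (a : ZMod 8)) :
    x * z = z * x := by
  by_cases hz1 : z = 1
  · subst hz1; rw [mul_one, one_mul]
  · rw [← S.centralizer_Zc a hz hz1] at hx
    exact Subgroup.mem_centralizer_singleton_iff.1 hx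

theorem comm_2 [Finite F] {x : Y} (hx : x ∈ J S.XZ (-2) 6) (u : F) : x * S.e 1 0 u = S.e 1 0 u * x := by
  have := comm_Zc S (a := 1) (x := x) (z := S.e 1 0 u) (by norm_num; exact hx) ⟨u, by norm_num⟩
  exact this

theorem comm_8 [Finite F] {x : Y} (hx : x ∈ J S.XZ 4 12) (u : F) : x * S.e 4 0 u = S.e 4 0 u * x := by
  have := comm_Zc S (a := 4) (x := x) (z := S.e 4 0 u) (by norm_num; exact hx) ⟨u, by norm_num⟩
  exact this

theorem comm_4 [Finite F] {x : Y} (hx : x ∈ J S.XZ 0 8) (u : F) : x * S.e 2 0 u = S.e 2 0 u * x := by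
  have := comm_Zc S (a := 2) (x := x) (z := S.e 2 0 u) (by norm_num; exact hx) ⟨u, by norm_num⟩
  exact this

theorem comm_6 [Finite F] {x : Y} (hx : x ∈ J S.XZ 2 10) (u : F) : x * S.e 3 0 u = S.e 3 0 u * x := by
  have := comm_Zc S (a := 3) (x := x) (z := S.e 3 0 u) (by norm_num; exact hx) ⟨u, by norm_num⟩
  exact this

/-- `X_5` is centralised by `X_3, …, X_7` -/
theorem comm_5 {x : Y} (hx : x ∈ J S.XZ 3 7) (s : F) : x * S.o 2 s = S.o 2 s * x :=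
  S.mem_centralizer_X5.1 ((J_le fun _ h1 h2 => S.X_cent h1 h2 : J S.XZ 3 7 ≤ _) hx) s

theorem V5_le_J : S.V5 ≤ J S.XZ 4 6 := by
  intro y hy
  obtain ⟨u, s, v, rfl⟩ := S.mem_V5.1 hy
  exact mul_mem (mul_mem (mem_J (S.mX4 0 u) (by norm_num) (by norm_num)) (mem_J (S.mX5 s) (by norm_num) (by norm_num)))
    (mem_J (S.mX6 0 v) (by norm_num) (by norm_num))

/-- `Z_4 X_5 Z_6` is direct -/
theorem v5_one {x y z : F} (h : S.e 2 0 x * S.o 2 y * S.e 3 0 z = 1) : x = 0 ∧ y = 0 ∧ z = 0 := by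
  have Z8 := S.zsys8
  have h1 : S.e 2 0 x = 1 := by
    refine Z8.inter_one 4 (a := 4) (b := 4) (c := 5) (d := 6) (mem_J (S.mX4 0 x) (by norm_num) (by norm_num)) ?_
      (by norm_num) (by norm_num) (by norm_num) (by norm_num) (Or.inl (by norm_num))
    have e : S.e 2 0 x = (S.o 2 y * S.e 3 0 z)⁻¹ := eq_inv_of_mul_eq_one_left (by rw [← mul_assoc]; exact h)
    rw [e]
    exact inv_mem (mul_mem (mem_J (S.mX5 y) (by norm_num) (by norm_num)) (mem_J (S.mX6 0 z) (by norm_num) (by norm_num)))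
  rw [h1, one_mul] at h
  have h2 : S.o 2 y = 1 := by
    refine Z8.inter_one 4 (a := 5) (b := 5) (c := 6) (d := 6) (mem_J (S.mX5 y) (by norm_num) (by norm_num)) ?_
      (by norm_num) (by norm_num) (by norm_num) (by norm_num) (Or.inl (by norm_num))
    rw [eq_inv_of_mul_eq_one_left h]
    exact inv_mem (mem_J (S.mX6 0 z) (by norm_num) (by norm_num))
  rw [h2, one_mul] at h
  exact ⟨(S.e_eq_one h1).2, S.o_eq_one h2, (S.e_eq_one h).2⟩

/-- `x_2'(u) x_7(s) = x_7(s) x_2'(u) x_4'(u s)` -/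
theorem r27' (u s : F) : S.e 1 0 u * S.o 3 s = S.o 3 s * S.e 1 0 u * S.e 2 0 (u * s) := by
  have h : S.e 1 0 u * S.o 3 s = S.o 3 s * S.e 1 0 u * S.e 2 0 (0 * σ 0 * s + u * s) * S.o 2 (σ 0 * s) *
    S.e 3 0 (0 * σ s) := S.e_o2 1 0 u s
  simp only [map_zero, zero_mul, mul_zero, zero_add, S.o_zero, S.e_zero, mul_one] at h
  exact h

theorem r28' (u v : F) : S.e 1 0 u * S.e 4 0 v = S.e 4 0 v * S.e 1 0 u *
    (S.e 2 0 (σ u * v) * S.o 2 (u * v) * S.e 3 0 (u * σ v)) := by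
  have h := S.rel.r28 0 u 0 v
  simp only [map_zero, zero_mul, mul_zero, add_zero, zero_add, S.o_zero, mul_one] at h
  rw [h]; group

/-- an element of `Z_4 X_5 Z_6 X_7 Z_8` commuting with an element of `Z_2` -/
theorem kill78 [Finite F] {u : F} (hu : u ≠ 0) {y : Y} (hy : y ∈ S.V5) {s v : F}
    (h : (y * (S.o 3 s * S.e 4 0 v)) * S.e 1 0 u = S.e 1 0 u * (y * (S.o 3 s * S.e 4 0 v))) : s = 0 ∧ v = 0 := by
  have hyJ := V5_le_J S hy
  have h1 : y * S.e 1 0 u = S.e 1 0 u * y := comm_2 S (J_mono (by norm_num) (by norm_num) hyJ) u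
  have h2 : S.o 3 s * S.e 4 0 v * S.e 1 0 u = S.e 1 0 u * (S.o 3 s * S.e 4 0 v) := by
    have : y * (S.o 3 s * S.e 4 0 v * S.e 1 0 u) = y * (S.e 1 0 u * (S.o 3 s * S.e 4 0 v)) := by
      calc y * (S.o 3 s * S.e 4 0 v * S.e 1 0 u) = (y * (S.o 3 s * S.e 4 0 v)) * S.e 1 0 u := by group
        _ = (S.e 1 0 u * y) * (S.o 3 s * S.e 4 0 v) := by rw [h]; group
        _ = y * (S.e 1 0 u * (S.o 3 s * S.e 4 0 v)) := by rw [← h1]; group
    exact mul_left_cancel this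
  have h3 : S.e 1 0 u * (S.o 3 s * S.e 4 0 v) = S.o 3 s * S.e 4 0 v * S.e 1 0 u *
      ((S.e 2 0 (σ u * v) * S.o 2 (u * v) * S.e 3 0 (u * σ v)) * S.e 2 0 (u * s)) := by
    have c4 : S.e 2 0 (u * s) * S.e 4 0 v = S.e 4 0 v * S.e 2 0 (u * s) :=
      (comm_4 S (mem_J (S.mX8 0 v) (by norm_num) (by norm_num)) _).symm
    calc S.e 1 0 u * (S.o 3 s * S.e 4 0 v) = (S.e 1 0 u * S.o 3 s) * S.e 4 0 v := by group
      _ = S.o 3 s * S.e 1 0 u * (S.e 2 0 (u * s) * S.e 4 0 v) := by rw [r27' S]; group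
      _ = S.o 3 s * (S.e 1 0 u * S.e 4 0 v) * S.e 2 0 (u * s) := by rw [c4]; group
      _ = _ := by rw [r28' S]; group
  rw [h3] at h2
  have h4 : (S.e 2 0 (σ u * v) * S.o 2 (u * v) * S.e 3 0 (u * σ v)) * S.e 2 0 (u * s) = 1 := by
    exact (mul_eq_left.1 h2.symm)
  have h5 : S.e 2 0 (σ u * v + u * s) * S.o 2 (u * v) * S.e 3 0 (u * σ v) = 1 := by
    have m : S.o 2 (u * v) * S.e 3 0 (u * σ v) ∈ J S.XZ 0 8 :=
      mul_mem (mem_J (S.mX5 _) (by norm_num) (by norm_num)) (mem_J (S.mX6 0 _) (by norm_num) (by norm_num))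
    have c := comm_4 S m (u * s)
    rw [← S.e_mul_Zc]
    calc S.e 2 0 (σ u * v) * S.e 2 0 (u * s) * S.o 2 (u * v) * S.e 3 0 (u * σ v) =
        S.e 2 0 (σ u * v) * (S.e 2 0 (u * s) * (S.o 2 (u * v) * S.e 3 0 (u * σ v))) := by group
      _ = (S.e 2 0 (σ u * v) * S.o 2 (u * v) * S.e 3 0 (u * σ v)) * S.e 2 0 (u * s) := by rw [← c]; group
      _ = 1 := h4
  obtain ⟨h6, h7, -⟩ := v5_one S h5
  have hv : v = 0 := (mul_eq_zero.1 h7).resolve_left hu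
  subst hv
  rw [mul_zero, zero_add] at h6
  exact ⟨(mul_eq_zero.1 h6).resolve_left hu, rfl⟩

include S in
/-- `σ` is not the identity -/
theorem exists_moved [Finite F] (hF : 8 ≤ Nat.card F) : ∃ x, σ x ≠ x := by
  by_contra hcon
  push Not at hcon
  have h4 : ∀ r : F, r = 0 ∨ r = 1 := by
    intro r
    have h5 := S.sq r
    rw [hcon, hcon, pow_two] at h5
    rcases eq_or_ne r 0 with h6 | h6
    · exact Or.inl h6
    · exact Or.inr (mul_left_cancel₀ h6 (by rw [mul_one]; exact h5.symm))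
  have h5 : Nat.card F ≤ 2 := by
    classical
    have : Fintype F := Fintype.ofFinite F
    rw [Nat.card_eq_fintype_card, ← Finset.card_univ]
    calc (Finset.univ : Finset F).card ≤ ({0, 1} : Finset F).card := Finset.card_le_card fun r _ => by
          rcases h4 r with h | h <;> simp [h]
      _ ≤ 2 := Finset.card_le_two
  omega

theorem step {x y E d d' : Y} (h1 : x * E = E * x * d) (h2 : y * E = E * y * d') (h3 : d * y = y * d) :
    (x * y) * E = E * (x * y) * (d * d') := by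
  calc (x * y) * E = x * (y * E) := by group
    _ = (x * E) * y * d' := by rw [h2]; group
    _ = E * x * (d * y) * d' := by rw [h1]; group
    _ = _ := by rw [h3]; group

/-- `r ∈ X_3 ⋯ X_7` commuting with `X_4` and `X_6` lies in `Z_4 X_5 Z_6` -/
theorem mem_V5_of_comm [Finite F] (hF : 8 ≤ Nat.card F) {r : Y} (hr : r ∈ J S.XZ 3 7)
    (h4 : ∀ p, r * S.e 2 p 0 = S.e 2 p 0 * r) (h6 : ∀ p, r * S.e 3 p 0 = S.e 3 p 0 * r) : r ∈ S.V5 := by
  have Z8 := S.zsys8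
  have c2 : ∀ x : F, x + x = 0 := S.add_self
  obtain ⟨_, hx3, r1, hr1, rfl⟩ := Z8.split_ll (a := 3) (b := 7) (by norm_num) (by norm_num) hr
  obtain ⟨_, hx4, r2, hr2, rfl⟩ := Z8.split_ll (a := 3 + 1) (b := 7) (by norm_num) (by norm_num) hr1
  obtain ⟨_, hx5, r3, hr3, rfl⟩ := Z8.split_ll (a := 3 + 1 + 1) (b := 7) (by norm_num) (by norm_num) hr2
  obtain ⟨_, hx6, r4, hr4, rfl⟩ := Z8.split_ll (a := 3 + 1 + 1 + 1) (b := 7) (by norm_num) (by norm_num) hr3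
  have hx7 := mem_of_J_self hr4 (by norm_num)
  norm_num at hx4 hx5 hx6 hx7
  obtain ⟨a, rfl⟩ := S.X3 hx3
  obtain ⟨p, u, rfl⟩ := S.X4 hx4
  obtain ⟨b, rfl⟩ := S.X5 hx5
  obtain ⟨q, v, rfl⟩ := S.X6 hx6
  obtain ⟨c, rfl⟩ := S.X7 hx7
  -- commuting with `X_6`
  have key6 : ∀ q', a * q' = 0 ∧ p * q' = 0 ∧ q * σ q' + q' * σ q = 0 := by
    intro q'
    have e1 : S.o 3 c * S.e 3 q' 0 = S.e 3 q' 0 * S.o 3 c * 1 := by rw [mul_one]; exact (S.e_o0 3 q' 0 c).symm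
    have e2 : S.e 3 q v * S.e 3 q' 0 = S.e 3 q' 0 * S.e 3 q v * S.e 3 0 (q * σ q' + q' * σ q) := by
      rw [S.e_mul, S.e_mul, S.e_mul, map_zero, mul_zero]
      congr 1
      · ring
      · linear_combination (-1 : F) * c2 (q' * σ q)
    have e3 : S.o 2 b * S.e 3 q' 0 = S.e 3 q' 0 * S.o 2 b * 1 := by rw [mul_one]; exact S.o_e1 2 b q' 0
    have e4 : S.e 2 p u * S.e 3 q' 0 = S.e 3 q' 0 * S.e 2 p u * S.o 2 (p * q') := S.e_e1 2 p u q' 0
    have e5 : S.o 1 a * S.e 3 q' 0 = S.e 3 q' 0 * S.o 1 a * S.e 2 0 (a * q') := S.o_e2 1 a q' 0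
    have m7 : S.o 3 c ∈ S.XZ 7 := S.mX7 c
    have s1 := step e2 e1 (comm_6 S (mem_J m7 (by norm_num) (by norm_num)) _).symm
    have s2 := step e3 s1 (by rw [one_mul, mul_one])
    have s3 := step e4 s2 (comm_5 S (mul_mem (mem_J (S.mX5 b) (by norm_num) (by norm_num))
      (mul_mem (mem_J (S.mX6 q v) (by norm_num) (by norm_num)) (mem_J m7 (by norm_num) (by norm_num)))) _).symm
    have s4 := step e5 s3 (comm_4 S (mul_mem (mem_J (S.mX4 p u) (by norm_num) (by norm_num))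
      (mul_mem (mem_J (S.mX5 b) (by norm_num) (by norm_num))
      (mul_mem (mem_J (S.mX6 q v) (by norm_num) (by norm_num)) (mem_J m7 (by norm_num) (by norm_num))))) _).symm
    rw [h6 q'] at s4
    have s5 := mul_eq_left.1 s4.symm
    rw [one_mul, mul_one] at s5
    exact v5_one S (by rw [mul_assoc]; exact s5)
  obtain ⟨ha, hp, hq⟩ := key6 1
  rw [mul_one] at ha hp
  rw [map_one, mul_one, one_mul] at hq
  have hq0 : q = 0 := by
    by_contra hq0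
    obtain ⟨x, hx⟩ := exists_moved S hF
    apply hx
    obtain ⟨-, -, h⟩ := key6 x
    have h7 : σ q = q := by linear_combination hq - c2 q
    rw [h7] at h
    have h8 : q * σ x = q * x := by linear_combination h - c2 (q * x)
    exact mul_left_cancel₀ hq0 h8
  subst ha hp hq0
  rw [S.o_zero, one_mul] at h4 ⊢
  -- commuting with `X_4`
  have hc : c = 0 := by
    have e1 : S.o 3 c * S.e 2 1 0 = S.e 2 1 0 * S.o 3 c * S.e 3 0 c := by
      have h : S.e 2 1 0 * S.o 3 c = S.o 3 c * S.e 2 1 0 * S.e 3 0 (1 * c) := S.e_o1 2 1 0 c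
      rw [h, one_mul]
      have h1 : S.e 3 0 c * S.e 3 0 c = 1 := by rw [S.e_mul_Zc, c2, S.e_zero]
      calc S.o 3 c * S.e 2 1 0 = S.o 3 c * S.e 2 1 0 * (S.e 3 0 c * S.e 3 0 c) := by rw [h1, mul_one]
        _ = _ := by group
    have e2 : S.e 3 0 v * S.e 2 1 0 = S.e 2 1 0 * S.e 3 0 v * 1 := by
      rw [mul_one]
      exact (comm_6 S (mem_J (S.mX4 1 0) (by norm_num) (by norm_num)) v).symm
    have e3 : S.o 2 b * S.e 2 1 0 = S.e 2 1 0 * S.o 2 b * 1 := by rw [mul_one]; exact (S.e_o0 2 1 0 b).symm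
    have e4 : S.e 2 0 u * S.e 2 1 0 = S.e 2 1 0 * S.e 2 0 u * 1 := by
      rw [mul_one]
      exact (comm_4 S (mem_J (S.mX4 1 0) (by norm_num) (by norm_num)) u).symm
    have s1 := step e2 e1 (by rw [one_mul, mul_one])
    have s2 := step e3 s1 (by rw [one_mul, mul_one])
    have s3 := step e4 s2 (by rw [one_mul, mul_one])
    rw [h4 1] at s3
    have s5 := mul_eq_left.1 s3.symm
    rw [one_mul, one_mul, one_mul] at s5
    exact (S.e_eq_one s5).2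
  subst hc
  rw [S.o_zero, mul_one]
  exact S.mem_V5.2 ⟨u, b, v, by rw [mul_assoc]⟩

/-- an element of `NO` commuting with `X_4` and `X_6` -/
theorem form_NO [Finite F] (hF : 8 ≤ Nat.card F) {y : Y} (hy : y ∈ S.NO)
    (h4 : ∀ x ∈ S.XZ 4, y * x = x * y) (h6 : ∀ x ∈ S.XZ 6, y * x = x * y) :
    ∃ u v, ∃ j ∈ S.V5, y = S.e 1 0 u * S.e 4 0 v * j := by
  obtain ⟨u, v, r, hr, rfl⟩ := S.mem_NO_iff.1 hy
  have key : ∀ x, x ∈ J S.XZ 4 6 → (S.e 1 0 u * r * S.e 4 0 v) * x = x * (S.e 1 0 u * r * S.e 4 0 v) → r * x = x * r := by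
    intro x hx h
    have h1 := comm_2 S (J_mono (by norm_num) (by norm_num) hx) u
    have h2 := comm_8 S (J_mono (by norm_num) (by norm_num) hx) v
    have h3 : S.e 1 0 u * (r * x) * S.e 4 0 v = S.e 1 0 u * (x * r) * S.e 4 0 v := by
      calc S.e 1 0 u * (r * x) * S.e 4 0 v = S.e 1 0 u * r * (x * S.e 4 0 v) := by group
        _ = (S.e 1 0 u * r * S.e 4 0 v) * x := by rw [h2]; group
        _ = (x * S.e 1 0 u) * r * S.e 4 0 v := by rw [h]; group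
        _ = _ := by rw [h1]; group
    exact mul_left_cancel (mul_right_cancel h3)
  have hrV : r ∈ S.V5 := mem_V5_of_comm S hF hr
    (fun p => key _ (mem_J (S.mX4 p 0) (by norm_num) (by norm_num)) (h4 _ (S.mX4 p 0)))
    (fun p => key _ (mem_J (S.mX6 p 0) (by norm_num) (by norm_num)) (h6 _ (S.mX6 p 0)))
  refine ⟨u, v, r, hrV, ?_⟩
  have := comm_8 S (J_mono (by norm_num) (by norm_num) (V5_le_J S hrV)) v
  rw [mul_assoc, this, ← mul_assoc]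

/-- `Z_2 Z_8 ∩ Z_4 X_5 Z_6 = 1` -/
theorem uniq {u v : F} (h : S.e 1 0 u * S.e 4 0 v ∈ S.V5) : u = 0 := by
  have Z8 := S.zsys8
  have h1 := V5_le_J S h
  have h2 : S.e 1 0 u = 1 := by
    refine Z8.inter_one 2 (a := 2) (b := 2) (c := 4) (d := 8) (mem_J (S.mX2 0 u) (by norm_num) (by norm_num)) ?_
      (by norm_num) (by norm_num) (by norm_num) (by norm_num) (Or.inl (by norm_num))
    have e : S.e 1 0 u = (S.e 1 0 u * S.e 4 0 v) * (S.e 4 0 v)⁻¹ := by group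
    rw [e]
    exact mul_mem (J_mono (by norm_num) (by norm_num) h1) (inv_mem (mem_J (S.mX8 0 v) (by norm_num) (by norm_num)))
  exact (S.e_eq_one h2).2

end Cfsg.Agent.OddHalf.D7TwF4.PairK

end

-- merged: Cfsg.Agent.OddHalf.D7TwF4.Pair
section

/-!
# ODD D7, `K = ²F₄(q)`, `q ≥ 8`: `[W_2, W_8] ≤ W_4 W_5 W_6` and the triangle relation (helper625; text: bb ODD 13028, (g4), (g5))

* `w28`, `w24` : the commutator at 135 degrees (all frames);
* `tri18`, `tri` : for `1 ≠ g ∈ X_1` there is `h ∈ X_9` with `W_8 ^ (g h) = W_2` (all frames).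
-/

set_option autoImplicit false
set_option linter.unusedSectionVars false

namespace Cfsg.Agent.OddHalf.D7TwF4.Pair

open Cfsg.Agent.KFacts.TwF4 Cfsg.Agent.SplitTwo.ZS Cfsg.Agent.OddHalf.D7TwF4.Defs Cfsg.Agent.OddHalf.D7TwF4.Fab2
open Cfsg.Agent.OddHalf.D7TwF4.Growth.Defs (Cm Cl Nz EK)
open Cfsg.Agent.OddHalf.D7TwF4.Growth.Tools (Dbl dbl_W)

universe u v w

/-! ### elementary abelian groups -/

section ea

variable {G : Type v} [Group G]

/-- elementary abelian of exponent 2 -/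
def EA (A : Subgroup G) : Prop := Cm A A ∧ ∀ x ∈ A, x * x = 1

theorem EA.sup {A B : Subgroup G} (hA : EA A) (hB : EA B) (h : Cm A B) : EA (A ⊔ B) := by
  refine ⟨Cm.sup (Cm.sup' hA.1 h) (Cm.sup' h.symm hB.1), ?_⟩
  intro x hx
  obtain ⟨a, ha, b, hb, rfl⟩ := Growth.Defs.mem_sup (h.symm.nz) hx
  have h1 := h a ha b hb
  calc a * b * (a * b) = a * (b * a) * b := by group
    _ = (a * a) * (b * b) := by rw [← h1]; group
    _ = 1 := by rw [hA.2 a ha, hB.2 b hb, mul_one]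

theorem map_eq_of {V : ℤ → Subgroup G} {g : G} {j k : ℤ} (h : ∀ v, v ∈ V j ↔ g * v * g⁻¹ ∈ V k) :
    (V j).map (MulAut.conj g).toMonoidHom = V k := by
  ext x
  constructor
  · rintro ⟨y, hy, rfl⟩
    exact (h y).1 hy
  · intro hx
    refine ⟨g⁻¹ * x * g, ?_, ?_⟩
    · show g⁻¹ * x * g ∈ V j
      rw [h]
      have e : g * (g⁻¹ * x * g) * g⁻¹ = x := by group
      rwa [e]
    · show g * (g⁻¹ * x * g) * g⁻¹ = x
      group

theorem mem_map_conj {A : Subgroup G} {g x : G} : g * x * g⁻¹ ∈ A.map (MulAut.conj g).toMonoidHom ↔ x ∈ A := by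
  constructor
  · rintro ⟨y, hy, h⟩
    have h1 : g * y * g⁻¹ = g * x * g⁻¹ := h
    rwa [← mul_left_cancel (mul_right_cancel h1)]
  · exact fun hx => ⟨x, hx, rfl⟩

end ea

variable {F : Type w} [Field F] {σ : F →+* F} {Y : Type u} [Group Y] {G : Type v} [Group G]
variable {S : Full σ Y} {i : Y →* G} {t : G} {W V : ℤ → Subgroup G}

/-! ### conjugation by `t` -/

/-- conjugation by `t` -/
def tau (t : G) : G →* G := (MulAut.conj t).toMonoidHom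

theorem tau_eq (P : Pos S i t) (x : G) : tau t x = t * x * t := by
  show t * x * t⁻¹ = _
  rw [P.t_inv]

theorem tau_tau (P : Pos S i t) (x : G) : tau t (tau t x) = x := by
  rw [tau_eq P, tau_eq P]
  calc t * (t * x * t) * t = (t * t) * x * (t * t) := by group
    _ = x := by rw [P.tt, one_mul, mul_one]

theorem tau_i (P : Pos S i t) (y : Y) : tau t (i y) = i y := by
  rw [tau_eq P, P.ti, mul_assoc, P.tt, mul_one]

/-! ### the doubles -/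

section dbl

variable (P : Pos S i t) (E : VData S i t W V)
include P E

theorem inv_V {k : ℤ} {v : G} (hv : v ∈ V k) : v⁻¹ = v := inv_eq_of_mul_eq_one_left (E.sq k v hv)

theorem dblV (k : ℤ) : Dbl (tau t) (V k) ((Zk S k).map i) := by
  refine dbl_W (tau_tau P) (E.ab k) (E.sq k) (fun w hw => ?_) ?_ ?_ (fun w hw h => ?_) ?_
  · rw [tau_eq P]; exact E.tinv k w hw
  · rintro _ ⟨y, -, rfl⟩
    exact tau_i P y
  · rintro _ ⟨y, hy, rfl⟩
    exact E.le k y hy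
  · rw [tau_eq P] at h
    obtain ⟨y, hy, rfl⟩ := E.fix k w hw h
    exact ⟨y, hy, rfl⟩
  · rintro _ ⟨y, hy, rfl⟩
    obtain ⟨v, hv, h⟩ := E.sur k y hy
    exact ⟨v, hv, by rw [tau_eq P, h, inv_mul_cancel_left]⟩

theorem dbl_step {R : Subgroup G} {M : Subgroup Y} {k : ℤ} (h : Dbl (tau t) R (M.map i)) (hM : M ≤ J S.XZ 4 (k - 1))
    (h5 : 5 ≤ k) (hk : k ≤ 11) (hn : Cm (V k) R) : Dbl (tau t) (R ⊔ V k) ((M ⊔ Zk S k).map i) := by
  rw [Subgroup.map_sup]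
  refine h.sup_W (tau_tau P) (E.ab k) (E.sq k) (fun w hw => ?_) ?_ ?_ (fun w hw h => ?_) ?_ ?_ hn.nz
  · rw [tau_eq P]; exact E.tinv k w hw
  · rintro _ ⟨y, -, rfl⟩
    exact tau_i P y
  · rintro _ ⟨y, hy, rfl⟩
    exact E.le k y hy
  · rw [tau_eq P] at h
    obtain ⟨y, hy, rfl⟩ := E.fix k w hw h
    exact ⟨y, hy, rfl⟩
  · rintro _ ⟨y, hy, rfl⟩
    obtain ⟨v, hv, h⟩ := E.sur k y hy
    exact ⟨v, hv, by rw [tau_eq P, h, inv_mul_cancel_left]⟩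
  · rw [eq_bot_iff]
    rintro x ⟨⟨a, ha, rfl⟩, b, hb, hab⟩
    have h1 : b = a := P.inj hab
    subst h1
    have h2 : b = 1 := S.zsys8.inter_one 4 (a := 4) (b := k - 1) (c := k) (d := k) (hM ha)
      (mem_J (Zk_le S k hb) le_rfl le_rfl) (by omega) (by omega) (by omega) (by omega) (Or.inl (by omega))
    rw [h2, map_one]
    exact one_mem _

/-- `V 4, …, V 8` commute -/
theorem cm48 {j k : ℤ} (h1 : 4 ≤ j) (h2 : j ≤ 8) (h3 : 4 ≤ k) (h4 : k ≤ 8) : Cm (V j) (V k) := by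
  intro a ha b hb
  have e1 := (E.rot (-1) j a).1 ha
  have e2 := (E.rot (-1) k b).1 hb
  have h := E.cm _ _ (by omega) (by omega) (by omega) (by omega) _ e1 _ e2
  set g := i (S.rot ^ (-1 : ℤ)) with hg
  calc a * b = g⁻¹ * ((g * a * g⁻¹) * (g * b * g⁻¹)) * g := by group
    _ = b * a := by rw [h]; group

theorem ea_V (k : ℤ) : EA (V k) := ⟨E.ab k, E.sq k⟩

theorem ea_45 : EA (V 4 ⊔ V 5) := (ea_V P E 4).sup (ea_V P E 5) (E.cm 4 5 (by norm_num) (by norm_num) (by norm_num) (by norm_num))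

theorem ea_I : EA (V 4 ⊔ V 5 ⊔ V 6) := (ea_45 P E).sup (ea_V P E 6)
  (Cm.sup (cm48 P E (by norm_num) (by norm_num) (by norm_num) (by norm_num))
    (cm48 P E (by norm_num) (by norm_num) (by norm_num) (by norm_num)))

/-- `V 4, …, V 8` commute with `V 4 V 5 V 6` -/
theorem cm_I {k : ℤ} (h1 : 4 ≤ k) (h2 : k ≤ 8) : Cm (V k) (V 4 ⊔ V 5 ⊔ V 6) :=
  Cm.sup' (Cm.sup' (cm48 P E h1 h2 (by norm_num) (by norm_num)) (cm48 P E h1 h2 (by norm_num) (by norm_num)))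
    (cm48 P E h1 h2 (by norm_num) (by norm_num))

/-- `V 2, …, V 6` commute with `V 4 V 5 V 6` -/
theorem cm_I' {k : ℤ} (h1 : 2 ≤ k) (h2 : k ≤ 6) : Cm (V k) (V 4 ⊔ V 5 ⊔ V 6) :=
  Cm.sup' (Cm.sup' (E.cm _ _ h1 h2 (by norm_num) (by norm_num)) (E.cm _ _ h1 h2 (by norm_num) (by norm_num)))
    (E.cm _ _ h1 h2 (by norm_num) (by norm_num))

theorem cm_I7 {k : ℤ} (h1 : 4 ≤ k) (h2 : k ≤ 8) : Cm (V k) (V 4 ⊔ V 5 ⊔ V 6 ⊔ V 7) :=
  Cm.sup' (cm_I P E h1 h2) (cm48 P E h1 h2 (by norm_num) (by norm_num))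

theorem ea_A : EA (V 4 ⊔ V 5 ⊔ V 6 ⊔ V 7 ⊔ V 8) :=
  ((ea_I P E).sup (ea_V P E 7) (cm_I P E (by norm_num) (by norm_num)).symm).sup (ea_V P E 8)
    (cm_I7 P E (by norm_num) (by norm_num)).symm

end dbl

/-! ### the fixed points -/

theorem zk456 (S : Full σ Y) : Zk S 4 ⊔ Zk S 5 ⊔ Zk S 6 = S.V5 := by
  have h4 : Zk S 4 = S.Zc 2 := by have := Zk_even S 2; norm_num at this; exact this
  have h6 : Zk S 6 = S.Zc 3 := by have := Zk_even S 3; norm_num at this; exact this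
  have h5 : Zk S 5 = S.XZ 5 := by have := Zk_odd S 2; norm_num at this; exact this
  rw [h4, h5, h6]
  apply le_antisymm
  · refine sup_le (sup_le ?_ ?_) ?_
    · rintro _ ⟨u, rfl⟩
      exact S.mem_V5.2 ⟨u, 0, 0, by rw [S.o_zero, S.e_zero, mul_one, mul_one]⟩
    · intro y hy
      obtain ⟨s, rfl⟩ := S.X5 hy
      exact S.mem_V5.2 ⟨0, s, 0, by rw [S.e_zero, S.e_zero, mul_one, one_mul]⟩
    · rintro _ ⟨v, rfl⟩
      exact S.mem_V5.2 ⟨0, 0, v, by rw [S.o_zero, S.e_zero, one_mul, one_mul]⟩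
  · intro y hy
    obtain ⟨u, s, v, rfl⟩ := S.mem_V5.1 hy
    exact mul_mem (mul_mem (Subgroup.mem_sup_left (Subgroup.mem_sup_left ⟨u, rfl⟩))
      (Subgroup.mem_sup_left (Subgroup.mem_sup_right (S.mX5 s)))) (Subgroup.mem_sup_right ⟨v, rfl⟩)

theorem mem_48 [Finite F] {y : Y} (hy : y ∈ S.V5 ⊔ Zk S 7 ⊔ Zk S 8) : ∃ j ∈ S.V5, ∃ s v, y = j * (S.o 3 s * S.e 4 0 v) := by
  have h8 : Zk S 8 = S.Zc 4 := by have := Zk_even S 4; norm_num at this; exact this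
  have h7 : Zk S 7 = S.XZ 7 := by have := Zk_odd S 3; norm_num at this; exact this
  rw [h7, h8] at hy
  have c7 : Cm (S.XZ 7) S.V5 := by
    intro x hx j hj
    obtain ⟨u, s, v, rfl⟩ := S.mem_V5.1 hj
    have e1 := PairK.comm_4 S (mem_J hx (by norm_num) (by norm_num)) u
    have e2 := PairK.comm_5 S (mem_J hx (by norm_num) (by norm_num)) s
    have e3 := PairK.comm_6 S (mem_J hx (by norm_num) (by norm_num)) v
    calc x * (S.e 2 0 u * S.o 2 s * S.e 3 0 v) = (x * S.e 2 0 u) * S.o 2 s * S.e 3 0 v := by group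
      _ = S.e 2 0 u * (x * S.o 2 s) * S.e 3 0 v := by rw [e1]; group
      _ = S.e 2 0 u * S.o 2 s * (x * S.e 3 0 v) := by rw [e2]; group
      _ = _ := by rw [e3]; group
  have c8 : Cm (S.Zc 4) (S.V5 ⊔ S.XZ 7) := by
    rintro _ ⟨v, rfl⟩ x hx
    have hx' : x ∈ J S.XZ 4 12 := (sup_le (le_trans (PairK.V5_le_J S) (J_mono (by norm_num) (by norm_num)))
      (X_le_J (by norm_num) (by norm_num))) hx
    exact (PairK.comm_8 S hx' v).symm
  obtain ⟨a, ha, _, ⟨v, rfl⟩, rfl⟩ := Growth.Defs.mem_sup c8.nz hy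
  obtain ⟨j, hj, b, hb, rfl⟩ := Growth.Defs.mem_sup c7.nz ha
  obtain ⟨s, rfl⟩ := S.X7 hb
  exact ⟨j, hj, s, v, by rw [mul_assoc]⟩

section main

variable (P : Pos S i t) (D : WData S i t W) (E : VData S i t W V)
include P D E

theorem dbl_I : Dbl (tau t) (V 4 ⊔ V 5 ⊔ V 6) (S.V5.map i) := by
  rw [← zk456 S]
  refine dbl_step P E (dbl_step P E (dblV P E 4) ?_ (by norm_num) (by norm_num) ?_) ?_ (by norm_num) (by norm_num) ?_
  · exact le_trans (Zk_le S 4) (X_le_J (by norm_num) (by norm_num))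
  · exact cm48 P E (by norm_num) (by norm_num) (by norm_num) (by norm_num)
  · exact sup_le (le_trans (Zk_le S 4) (X_le_J (by norm_num) (by norm_num)))
      (le_trans (Zk_le S 5) (X_le_J (by norm_num) (by norm_num)))
  · exact Cm.sup' (cm48 P E (by norm_num) (by norm_num) (by norm_num) (by norm_num))
      (cm48 P E (by norm_num) (by norm_num) (by norm_num) (by norm_num))

theorem dbl_A : Dbl (tau t) (V 4 ⊔ V 5 ⊔ V 6 ⊔ V 7 ⊔ V 8) ((S.V5 ⊔ Zk S 7 ⊔ Zk S 8).map i) := by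
  refine dbl_step P E (dbl_step P E (dbl_I P D E) ?_ (by norm_num) (by norm_num) ?_) ?_ (by norm_num) (by norm_num) ?_
  · exact le_trans (PairK.V5_le_J S) (J_mono (by norm_num) (by norm_num))
  · exact cm_I P E (by norm_num) (by norm_num)
  · exact sup_le (le_trans (PairK.V5_le_J S) (J_mono (by norm_num) (by norm_num)))
      (le_trans (Zk_le S 7) (X_le_J (by norm_num) (by norm_num)))
  · exact cm_I7 P E (by norm_num) (by norm_num)

/-- `i (rot)` moves `V 2 … V 6` to `V 4 … V 8` -/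
theorem map_rot : (V 2 ⊔ V 3 ⊔ V 4 ⊔ V 5 ⊔ V 6).map (MulAut.conj (i (S.rot ^ (1 : ℤ)))).toMonoidHom =
    V 4 ⊔ V 5 ⊔ V 6 ⊔ V 7 ⊔ V 8 := by
  have h : ∀ k : ℤ, (V k).map (MulAut.conj (i (S.rot ^ (1 : ℤ)))).toMonoidHom = V (k + 2 * 1) :=
    fun k => map_eq_of fun v => E.rot 1 k v
  simp only [Subgroup.map_sup, h]
  norm_num

theorem map_n1 : (V 4 ⊔ V 5 ⊔ V 6).map (MulAut.conj (i S.n1)).toMonoidHom = V 4 ⊔ V 5 ⊔ V 6 := by
  have h : ∀ k : ℤ, (V k).map (MulAut.conj (i S.n1)).toMonoidHom = V (10 - k) :=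
    fun k => map_eq_of fun v => E.n1 k v
  simp only [Subgroup.map_sup, h]
  norm_num
  rw [sup_comm (V 6) (V 5), sup_assoc, sup_comm (V 5) (V 6 ⊔ V 4), sup_comm (V 6) (V 4), sup_assoc, sup_comm (V 6) (V 5),
    ← sup_assoc]

/-- `X_2, …, X_10` normalise `V 4 … V 8` -/
theorem x2_A {k : ℤ} (h1 : 2 ≤ k) (h2 : k ≤ 10) {x : Y} (hx : x ∈ S.XZ k) {a : G}
    (ha : a ∈ V 4 ⊔ V 5 ⊔ V 6 ⊔ V 7 ⊔ V 8) : i x * a * (i x)⁻¹ ∈ V 4 ⊔ V 5 ⊔ V 6 ⊔ V 7 ⊔ V 8 := by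
  rw [← map_rot P D E] at ha ⊢
  obtain ⟨b, hb, rfl⟩ := ha
  have h3 := S.rotk_X' (-1) k hx
  have h4 := E.x8 _ (by omega) (by omega) _ h3 b hb
  refine ⟨_, h4, ?_⟩
  have e1 : i (S.rot ^ (-1 : ℤ) * x * (S.rot ^ (-1 : ℤ))⁻¹) = (i (S.rot ^ (1 : ℤ)))⁻¹ * i x * i (S.rot ^ (1 : ℤ)) := by
    rw [zpow_neg, inv_inv, map_mul, map_mul, map_inv]
  rw [e1]
  show i (S.rot ^ (1 : ℤ)) * (_) * (i (S.rot ^ (1 : ℤ)))⁻¹ = i x * (i (S.rot ^ (1 : ℤ)) * b * (i (S.rot ^ (1 : ℤ)))⁻¹) * (i x)⁻¹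
  group

/-- **`[Z_2, W_8] ≤ W_4 W_5 W_6`** -/
theorem z2_v8 (u : F) {b : G} (hb : b ∈ V 8) : i (S.e 1 0 u) * b * (i (S.e 1 0 u))⁻¹ * b⁻¹ ∈ V 4 ⊔ V 5 ⊔ V 6 := by
  have := P.finF
  by_cases hu : u = 0
  · subst hu
    rw [S.e_zero, map_one, one_mul, inv_one, mul_one, mul_inv_cancel]
    exact one_mem _
  set z := i (S.e 1 0 u) with hz
  have hzz : z * z = 1 := by
    rw [hz, ← map_mul, S.e_mul_Zc, S.add_self, S.e_zero, map_one]
  have hzi : z⁻¹ = z := inv_eq_of_mul_eq_one_left hzz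
  have hbA : b ∈ V 4 ⊔ V 5 ⊔ V 6 ⊔ V 7 ⊔ V 8 := Subgroup.mem_sup_right hb
  have hc : z * b * z⁻¹ * b⁻¹ ∈ V 4 ⊔ V 5 ⊔ V 6 ⊔ V 7 ⊔ V 8 :=
    mul_mem (x2_A P D E (k := 2) (by norm_num) (by norm_num) (S.mX2 0 u) hbA) (inv_mem hbA)
  set c := z * b * z⁻¹ * b⁻¹ with hcd
  -- the commutator with `t`
  obtain ⟨y, hy, hyb⟩ := E.comm 8 b hb
  have h8 : Zk S 8 = S.Zc 4 := by have := Zk_even S 4; norm_num at this; exact this
  rw [h8] at hy
  obtain ⟨v, rfl⟩ := hy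
  have hI : z * i (S.e 4 0 v) * z⁻¹ * (i (S.e 4 0 v))⁻¹ ∈ S.V5.map i := by
    refine ⟨S.e 1 0 u * S.e 4 0 v * (S.e 1 0 u)⁻¹ * (S.e 4 0 v)⁻¹, ?_, by rw [map_mul, map_mul, map_mul, map_inv, map_inv]⟩
    rw [PairK.r28' S u v]
    have hm : S.e 2 0 (σ u * v) * S.o 2 (u * v) * S.e 3 0 (u * σ v) ∈ S.V5 := S.mem_V5.2 ⟨_, _, _, rfl⟩
    have hmJ := PairK.V5_le_J S hm
    have e1 := PairK.comm_2 S (J_mono (by norm_num) (by norm_num) hmJ) u
    have e2 := PairK.comm_8 S (J_mono (by norm_num) (by norm_num) hmJ) v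
    set m := S.e 2 0 (σ u * v) * S.o 2 (u * v) * S.e 3 0 (u * σ v)
    have e3 : S.e 4 0 v * S.e 1 0 u * m * (S.e 1 0 u)⁻¹ * (S.e 4 0 v)⁻¹ = m := by
      calc S.e 4 0 v * S.e 1 0 u * m * (S.e 1 0 u)⁻¹ * (S.e 4 0 v)⁻¹ =
          S.e 4 0 v * (S.e 1 0 u * m) * (S.e 1 0 u)⁻¹ * (S.e 4 0 v)⁻¹ := by group
        _ = (S.e 4 0 v * m) * (S.e 4 0 v)⁻¹ := by rw [← e1]; group
        _ = m := by rw [← e2]; group
    rw [e3]
    exact hm
  set d := z * i (S.e 4 0 v) * z⁻¹ * (i (S.e 4 0 v))⁻¹ with hd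
  have DI := dbl_I P D E
  have hdI : d ∈ V 4 ⊔ V 5 ⊔ V 6 := DI.le hI
  have hbi : b * i (S.e 4 0 v) = i (S.e 4 0 v) * b := E.ab 8 b hb _ (E.le 8 _ (by rw [h8]; exact ⟨v, rfl⟩))
  have hdb : d * b = b * d := (cm_I P E (by norm_num) (by norm_num) b hb d hdI).symm
  have e1 : tau t c = c * d := by
    have f1 : tau t z = z := tau_i P _
    have f2 : tau t b = b * i (S.e 4 0 v) := by rw [tau_eq P, hyb]
    rw [hcd, map_mul, map_mul, map_mul, map_inv, map_inv, f1, f2]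
    calc z * (b * i (S.e 4 0 v)) * z⁻¹ * (b * i (S.e 4 0 v))⁻¹ =
        z * b * z⁻¹ * (z * i (S.e 4 0 v) * z⁻¹ * (i (S.e 4 0 v))⁻¹) * b⁻¹ := by group
      _ = z * b * z⁻¹ * (d * b) * b⁻¹ * b⁻¹ := by rw [← hd]; group
      _ = z * b * z⁻¹ * b⁻¹ * (b * b * d * b⁻¹ * b⁻¹) := by rw [hdb]; group
      _ = z * b * z⁻¹ * b⁻¹ * d := by
          have q : b * d * b⁻¹ = d := by rw [← hdb]; group
          have e : b * b * d * b⁻¹ * b⁻¹ = d := by
            calc b * b * d * b⁻¹ * b⁻¹ = b * (b * d * b⁻¹) * b⁻¹ := by group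
              _ = d := by rw [q, q]
          rw [e]
  obtain ⟨m, hm, hm1⟩ := DI.exists_fix (tau_tau P) (c := c) (by rw [e1, inv_mul_cancel_left]; exact hdI)
  -- `c m ∈ i (Z_4 X_5 Z_6 X_7 Z_8)`
  have hmA : m ∈ V 4 ⊔ V 5 ⊔ V 6 ⊔ V 7 ⊔ V 8 := Subgroup.mem_sup_left (Subgroup.mem_sup_left hm)
  obtain ⟨y, hy, hyc⟩ := (dbl_A P D E).fix _ (mul_mem hc hmA) hm1
  obtain ⟨j, hj, s, w, rfl⟩ := mem_48 hy
  have hcz : c * z = z * c := by
    have f1 : c⁻¹ = c := inv_eq_of_mul_eq_one_left ((ea_A P E).2 c hc)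
    have f2 : z * c * z⁻¹ = c⁻¹ := by
      rw [hcd, hzi]
      calc z * (z * b * z * b⁻¹) * z = (z * z) * b * z * b⁻¹ * z := by group
        _ = b * z * b⁻¹ * z := by rw [hzz, one_mul]
        _ = b * z⁻¹ * b⁻¹ * z⁻¹ := by rw [hzi]
        _ = (z * b * z * b⁻¹)⁻¹ := by group
    rw [f1] at f2
    calc c * z = (z * c * z⁻¹) * z := by rw [f2]
      _ = z * c := by group
  have h2 : V 2 = W 1 := by have := E.even 1; norm_num at this; exact this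
  have hz2 : z ∈ V 2 := by
    refine E.le 2 _ ?_
    have : Zk S 2 = S.Zc 1 := by have := Zk_even S 1; norm_num at this; exact this
    rw [this]
    exact ⟨u, rfl⟩
  have hmz : m * z = z * m := (cm_I' P E (k := 2) (by norm_num) (by norm_num) z hz2 m hm).symm
  have hcm : (c * m) * z = z * (c * m) := by
    calc (c * m) * z = c * (m * z) := by group
      _ = (c * z) * m := by rw [hmz]; group
      _ = z * (c * m) := by rw [hcz]; group
  rw [← hyc, hz, ← map_mul, ← map_mul] at hcm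
  obtain ⟨rfl, rfl⟩ := PairK.kill78 S hu hj (P.inj hcm)
  rw [S.o_zero, S.e_zero, mul_one, mul_one] at hyc
  have e2 : c = i j * m⁻¹ := by rw [hyc]; group
  rw [e2]
  exact mul_mem (DI.le ⟨j, hj, rfl⟩) (inv_mem hm)

/-- `[W_2, Z_8] ≤ W_4 W_5 W_6` -/
theorem v2_z8 {a : G} (ha : a ∈ V 2) (v : F) : a * i (S.e 4 0 v) * a⁻¹ * (i (S.e 4 0 v))⁻¹ ∈ V 4 ⊔ V 5 ⊔ V 6 := by
  have h1 : i S.n1 * a * (i S.n1)⁻¹ ∈ V 8 := by have := (E.n1 2 a).1 ha; norm_num at this; exact this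
  have h2 : i S.n1 * i (S.e 4 0 v) * (i S.n1)⁻¹ = i (S.e 1 0 v) := by
    have : S.n1 * S.e 4 0 v * S.n1⁻¹ = S.e 1 0 v := S.n1_e 4 0 v
    rw [← map_inv, ← map_mul, ← map_mul, this]
  have h3 := inv_mem (z2_v8 P D E v h1)
  rw [← mem_map_conj (g := i S.n1), map_n1 P D E]
  have e : i S.n1 * (a * i (S.e 4 0 v) * a⁻¹ * (i (S.e 4 0 v))⁻¹) * (i S.n1)⁻¹ =
      (i (S.e 1 0 v) * (i S.n1 * a * (i S.n1)⁻¹) * (i (S.e 1 0 v))⁻¹ * (i S.n1 * a * (i S.n1)⁻¹)⁻¹)⁻¹ := by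
    rw [← h2]; group
  rw [e]
  exact h3

/-- a torus element centralising `X_k`, without fixed points on the other root groups -/
theorem exists_tor (k : ℤ) : ∃ h ∈ S.Tk k, ∀ j, ¬ (8 : ℤ) ∣ j - k → ∀ x ∈ S.XZ j, h * x * h⁻¹ = x → x = 1 := by
  have := P.finF
  obtain ⟨w, hw⟩ := Fab.exists_unit P
  obtain ⟨h, hT, h1, h2⟩ := TorEx.exists_tt S hw k
  exact ⟨h, Fab.mem_Tk hT (h1 k (by simp)), h2⟩

theorem fpf_V {k : ℤ} {h : Y} (hf : ∀ x ∈ S.XZ k, h * x * h⁻¹ = x → x = 1) {v : G} (hv : v ∈ V k)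
    (e : i h * v * (i h)⁻¹ = v) : v = 1 := by
  have key : ∀ z ∈ Zk S k, i h * i z * (i h)⁻¹ = i z → z = 1 := by
    intro z hz h1
    refine hf z (Zk_le S k hz) (P.inj ?_)
    rw [map_mul, map_mul, map_inv, h1]
  obtain ⟨z, hz, h1⟩ := E.comm k v hv
  have h2 := Fab.t_conj P h v
  rw [e, h1] at h2
  have h3 : v * i z = v * (i h * i z * (i h)⁻¹) := by
    calc v * i z = i h * (v * i z) * (i h)⁻¹ := h2
      _ = (i h * v * (i h)⁻¹) * (i h * i z * (i h)⁻¹) := by group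
      _ = _ := by rw [e]
  have hz1 := key z hz (mul_left_cancel h3).symm
  subst hz1
  rw [map_one, mul_one] at h1
  obtain ⟨z', hz', h4⟩ := E.fix k v hv h1
  rw [h4] at e
  rw [h4, key z' hz' e, map_one]

theorem surj_V {k : ℤ} {h : Y} (hT : h ∈ S.T) (hf : ∀ x ∈ S.XZ k, h * x * h⁻¹ = x → x = 1) :
    ∀ b ∈ V k, ∃ b0 ∈ V k, i h * b0 * (i h)⁻¹ ∈ V k ∧ b = b0⁻¹ * (i h * b0 * (i h)⁻¹) := by
  have := P.finG
  let f : V k → V k := fun b => ⟨(b : G)⁻¹ * (i h * b * (i h)⁻¹), mul_mem (inv_mem b.2) (E.tor k h hT b b.2)⟩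
  have hinj : Function.Injective f := by
    rintro ⟨a, ha⟩ ⟨b, hb⟩ hab
    have h1 : a⁻¹ * (i h * a * (i h)⁻¹) = b⁻¹ * (i h * b * (i h)⁻¹) := congrArg Subtype.val hab
    have h2 := fpf_V P D E hf (v := b * a⁻¹) (mul_mem hb (inv_mem ha)) (by
      calc i h * (b * a⁻¹) * (i h)⁻¹ = b * (b⁻¹ * (i h * b * (i h)⁻¹)) * (i h * a * (i h)⁻¹)⁻¹ := by group
        _ = b * (a⁻¹ * (i h * a * (i h)⁻¹)) * (i h * a * (i h)⁻¹)⁻¹ := by rw [h1]
        _ = b * a⁻¹ := by group)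
    exact Subtype.ext (mul_inv_eq_one.1 h2).symm
  intro b hb
  obtain ⟨⟨b0, hb0⟩, hb1⟩ := Finite.surjective_of_injective hinj ⟨b, hb⟩
  exact ⟨b0, hb0, E.tor k h hT b0 hb0, (congrArg Subtype.val hb1).symm⟩

theorem tor_I {h : Y} (hT : h ∈ S.T) : ∀ x ∈ V 4 ⊔ V 5 ⊔ V 6, i h * x * (i h)⁻¹ ∈ V 4 ⊔ V 5 ⊔ V 6 := by
  intro x hx
  have : V 4 ⊔ V 5 ⊔ V 6 ≤ (V 4 ⊔ V 5 ⊔ V 6).comap (MulAut.conj (i h)).toMonoidHom :=
    sup_le (sup_le (fun v hv => Subgroup.mem_sup_left (Subgroup.mem_sup_left (E.tor 4 h hT v hv)))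
      (fun v hv => Subgroup.mem_sup_left (Subgroup.mem_sup_right (E.tor 5 h hT v hv))))
      (fun v hv => Subgroup.mem_sup_right (E.tor 6 h hT v hv))
  exact this hx

theorem W_X {k a : ℤ} (h1 : 2 * a - 4 ≤ k) (h2 : k ≤ 2 * a + 4) {x : Y} (hx : x ∈ S.XZ k) {w : G} (hw : w ∈ W a) :
    i x * w = w * i x := (Fab.W_J P D hw (mem_J hx h1 h2)).symm

/-- `X_4`, `X_6` commute with `V 4 V 5 V 6` -/
theorem x46_I {x : Y} (hx : x ∈ S.XZ 4 ∨ x ∈ S.XZ 6) : ∀ a ∈ V 4 ⊔ V 5 ⊔ V 6, i x * a = a * i x := by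
  have key : ∀ k : ℤ, 4 ≤ k → k ≤ 6 → ∀ a ∈ V k, i x * a = a * i x := by
    intro k h1 h2 a ha
    rcases hx with hx | hx
    · exact (E.x4 k (by omega) h2 a ha x hx).symm
    · have e1 := (E.rot (-1) k a).1 ha
      have e2 := S.rotk_X' (-1) 6 hx
      norm_num at e2
      have h := E.x4 _ (by omega) (by omega) _ e1 _ e2
      rw [map_mul, map_mul, map_inv] at h
      set g := i (S.rot ^ (-1 : ℤ)) with hg
      have hg' : i (S.rot⁻¹) = g := by rw [hg, zpow_neg, zpow_one]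
      rw [show i S.rot = g⁻¹ by rw [← hg', map_inv, inv_inv]] at h
      calc i x * a = g⁻¹ * ((g * i x * g⁻¹) * (g * a * g⁻¹)) * g := by group
        _ = g⁻¹ * ((g * a * g⁻¹) * (g * i x * g⁻¹)) * g := by
            have h' : (g * a * g⁻¹) * (g * i x * g⁻¹) = (g * i x * g⁻¹) * (g * a * g⁻¹) := by
              calc (g * a * g⁻¹) * (g * i x * g⁻¹) = _ := by simpa [hg', mul_assoc] using h
                _ = _ := rfl
            rw [h']
        _ = a * i x := by group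
  have hle : V 4 ⊔ V 5 ⊔ V 6 ≤ Subgroup.centralizer {i x} :=
    sup_le (sup_le (fun a ha => Subgroup.mem_centralizer_singleton_iff.2 (key 4 (by norm_num) (by norm_num) a ha).symm)
      (fun a ha => Subgroup.mem_centralizer_singleton_iff.2 (key 5 (by norm_num) (by norm_num) a ha).symm))
      (fun a ha => Subgroup.mem_centralizer_singleton_iff.2 (key 6 (by norm_num) (by norm_num) a ha).symm)
  intro a ha
  exact (Subgroup.mem_centralizer_singleton_iff.1 (hle ha)).symm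

/-- the situation of `PairAbs` -/
theorem hyp : PairAbs.Hyp t (V 2) (V 8) ((S.Zc 1).map i) ((S.Zc 4).map i) (V 4 ⊔ V 5 ⊔ V 6)
    {x | ∃ y : Y, (y ∈ S.XZ 4 ∨ y ∈ S.XZ 6) ∧ i y = x} := by
  have := P.finF
  have z1 : Zk S 2 = S.Zc 1 := by have := Zk_even S 1; norm_num at this; exact this
  have z8 : Zk S 8 = S.Zc 4 := by have := Zk_even S 4; norm_num at this; exact this
  have w2 : V 2 = W 1 := by have := E.even 1; norm_num at this; exact this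
  have w8 : V 8 = W 4 := by have := E.even 4; norm_num at this; exact this
  have w4 : V 4 = W 2 := by have := E.even 2; norm_num at this; exact this
  have DI := dbl_I P D E
  refine ⟨P.tt, (ea_I P E).1, cm_I' P E (by norm_num) (by norm_num), cm_I P E (by norm_num) (by norm_num), ?_, ?_,
    E.ab 2, E.ab 8, ?_, ?_, fun x hx => DI.inv x hx, (ea_I P E).2, ?_, ?_, ?_, ?_, ?_, ?_, ?_, ?_⟩
  · rintro _ ⟨z, hz, rfl⟩; exact E.le 2 z (by rw [z1]; exact hz)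
  · rintro _ ⟨z, hz, rfl⟩; exact E.le 8 z (by rw [z8]; exact hz)
  · intro a ha
    obtain ⟨y, hy, h⟩ := E.comm 2 a ha
    rw [z1] at hy
    exact ⟨i y, ⟨y, hy, rfl⟩, by rw [P.t_inv]; exact h⟩
  · intro a ha
    obtain ⟨y, hy, h⟩ := E.comm 8 a ha
    rw [z8] at hy
    exact ⟨i y, ⟨y, hy, rfl⟩, by rw [P.t_inv]; exact h⟩
  · -- Ifix
    intro x hx h
    have h1 : tau t x = x := h
    have h2 : x * tau t x = 1 := by rw [h1]; exact (ea_I P E).2 x hx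
    obtain ⟨m, hm, hm1⟩ := DI.free x hx h2
    refine ⟨m, hm, ?_⟩
    show tau t m = m * x
    have e1 := (ea_I P E).2 _ (DI.inv m hm)
    have e2 := (ea_I P E).2 m hm
    have e3 : (tau t m)⁻¹ = tau t m := inv_eq_of_mul_eq_one_left e1
    rw [hm1, e3, ← mul_assoc, e2, one_mul]
  · rintro _ ⟨_, ⟨u, rfl⟩, rfl⟩ b hb
    exact z2_v8 P D E u hb
  · rintro a ha _ ⟨_, ⟨v, rfl⟩, rfl⟩
    exact v2_z8 P D E ha v
  · rintro _ ⟨y, hy | hy, rfl⟩ a ha
    · rw [w2] at ha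
      exact W_X P D E (by norm_num) (by norm_num) hy ha
    · rw [w2] at ha
      exact W_X P D E (by norm_num) (by norm_num) hy ha
  · rintro _ ⟨y, hy | hy, rfl⟩ a ha
    · rw [w8] at ha
      exact W_X P D E (by norm_num) (by norm_num) hy ha
    · rw [w8] at ha
      exact W_X P D E (by norm_num) (by norm_num) hy ha
  · rintro _ ⟨y, hy, rfl⟩ a ha
    exact x46_I P D E hy a ha
  · -- hk
    intro k hkt hkI hkX
    obtain ⟨y, hy, hky⟩ := P.lift (A := (S.V5 : Set Y)) (a := 2) (fun z hz => by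
      obtain ⟨u, rfl⟩ := hz
      have : S.e ((2 : ℤ) : ZMod 8) 0 u = S.e 2 0 u := by norm_num
      rw [this]
      exact S.mem_V5.2 ⟨u, 0, 0, by rw [S.o_zero, S.e_zero, mul_one, mul_one]⟩) hkt
      (fun z hz => hkI _ (DI.le ⟨z, hz, rfl⟩))
    rw [S.centralizer_V5] at hy
    have hyJ : y ∈ J S.XZ 0 8 := J_mono (by norm_num) (by norm_num) hy.1
    have hk1 : k = i y := by
      rcases hky with h | h
      · exact h
      · exfalso
        obtain ⟨w, hw, hw1⟩ := Fab.exists_W2 P D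
        apply hw1
        have h4 : w * i y = i y * w := Fab.W2_J P D hw hyJ
        have h5 := hkI w (by rw [w4]; exact Subgroup.mem_sup_left (Subgroup.mem_sup_left hw))
        rw [h] at h5
        have h6 : (t * w) * i y = (w * t) * i y := by
          calc (t * w) * i y = t * (w * i y) := by group
            _ = (t * i y) * w := by rw [h4]; group
            _ = w * (t * i y) := h5
            _ = (w * t) * i y := by group
        exact mul_right_cancel h6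
    subst hk1
    have c4 : ∀ x ∈ S.XZ 4, y * x = x * y := fun x hx => P.inj (by
      rw [map_mul, map_mul]; exact (hkX _ ⟨x, Or.inl hx, rfl⟩).symm)
    have c6 : ∀ x ∈ S.XZ 6, y * x = x * y := fun x hx => P.inj (by
      rw [map_mul, map_mul]; exact (hkX _ ⟨x, Or.inr hx, rfl⟩).symm)
    obtain ⟨u, v, j, hj, rfl⟩ := PairK.form_NO S P.big hy c4 c6
    exact ⟨_, ⟨_, ⟨u, rfl⟩, rfl⟩, _, ⟨_, ⟨v, rfl⟩, rfl⟩, i j, DI.le ⟨j, hj, rfl⟩, by rw [map_mul, map_mul]⟩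
  · -- uniq
    rintro _ ⟨_, ⟨u, rfl⟩, rfl⟩ _ ⟨_, ⟨v, rfl⟩, rfl⟩ h
    rw [← map_mul] at h
    obtain ⟨j, hj, h1⟩ := DI.fix _ h (tau_i P _)
    have h2 := P.inj h1
    rw [h2] at hj
    rw [PairK.uniq S hj, S.e_zero, map_one]
    exact one_mem _

/-- **`[W_2, W_8] ≤ W_4 W_5 W_6`** -/
theorem w28 : Cl (V 2) (V 8) (V 4 ⊔ V 5 ⊔ V 6) := by
  intro a ha b hb
  obtain ⟨h2, hh2, hf2⟩ := exists_tor P D E 2
  obtain ⟨h8, hh8, hf8⟩ := exists_tor P D E 8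
  have T2 := S.Tk_le 2 hh2
  have T8 := S.Tk_le 8 hh8
  refine PairAbs.comm_mem (hyp P D E) (h2 := i h2) (h8 := i h8) (fun a ha => (E.torc 2 h2 hh2 a ha))
    (surj_V P D E T2 (hf2 8 (by norm_num))) ?_ (tor_I P D E T2) (fun a ha => (E.torc 8 h8 hh8 a ha))
    (surj_V P D E T8 (hf8 2 (by norm_num))) ?_ (tor_I P D E T8) ha hb
  · rintro _ ⟨z, hz, rfl⟩
    exact ⟨_, S.T_conj_Zc T2 hz, by rw [map_mul, map_mul, map_inv]⟩
  · rintro _ ⟨z, hz, rfl⟩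
    exact ⟨_, S.T_conj_Zc T8 hz, by rw [map_mul, map_mul, map_inv]⟩

/-! ### the triangle relation -/

/-- **(g5)**, standard position -/
theorem tri18 {g : Y} (hg : g ∈ S.XZ 1) (hg1 : g ≠ 1) :
    ∃ h ∈ S.XZ 9, ∀ w, w ∈ V 8 ↔ (i h)⁻¹ * (i g * w * (i g)⁻¹) * i h ∈ V 2 := by
  have := P.finF
  obtain ⟨s, rfl⟩ := S.X1 hg
  have hs : s ≠ 0 := fun h => hg1 (by rw [h, S.o_zero])
  set τ := S.h (Units.mk0 s hs) 1 with hτ
  have hτT : τ ∈ S.T := S.mem_T.2 ⟨_, _, rfl⟩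
  have e0 : τ * S.o 0 1 * τ⁻¹ = S.o 0 s := by
    rw [hτ, S.h_o]
    have : (chO σ 0 (Units.mk0 s hs) 1 : F) = s := by
      show ((chE σ 0 (Units.mk0 s hs) 1 * chE σ (0 + 1) (Units.mk0 s hs) 1 : Fˣ) : F) = s
      rw [zero_add, chE_zero, chE_one, mul_one, Units.val_mk0]
    rw [this, mul_one]
  obtain ⟨s', e4⟩ : ∃ s', τ * S.o 4 1 * τ⁻¹ = S.o 4 s' := ⟨_, S.h_o _ _ 4 1⟩
  set n := τ * S.n1 * τ⁻¹ with hn
  have hnw : n = S.o 4 s' * S.o 0 s * S.o 4 s' := by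
    rw [hn, Inv.n1_word' S, ← e0, ← e4]; group
  have hh : S.o 4 s' * S.o 4 s' = 1 := by rw [S.o_add, S.add_self, S.o_zero]
  have hhi : (S.o 4 s')⁻¹ = S.o 4 s' := inv_eq_of_mul_eq_one_left hh
  have hgn : S.o 0 s = S.o 4 s' * n * S.o 4 s' := by
    rw [hnw]
    calc S.o 0 s = (S.o 4 s' * S.o 4 s') * S.o 0 s * (S.o 4 s' * S.o 4 s') := by rw [hh, one_mul, mul_one]
      _ = _ := by group
  -- `n` moves `V k` to `V (10 - k)`
  have hT : ∀ k : ℤ, ∀ h ∈ S.T, ∀ v, v ∈ V k ↔ i h * v * (i h)⁻¹ ∈ V k := by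
    intro k h hh v
    refine ⟨E.tor k h hh v, fun hv => ?_⟩
    have := E.tor k h⁻¹ (inv_mem hh) _ hv
    rw [map_inv] at this
    have e : (i h)⁻¹ * (i h * v * (i h)⁻¹) * (i h)⁻¹⁻¹ = v := by group
    rwa [e] at this
  have hV : ∀ v, v ∈ V 8 ↔ i n * v * (i n)⁻¹ ∈ V 2 := by
    intro v
    have a1 := hT 8 τ⁻¹ (inv_mem hτT) v
    have a2 := E.n1 8 (i τ⁻¹ * v * (i τ⁻¹)⁻¹)
    have a3 := hT 2 τ hτT (i S.n1 * (i τ⁻¹ * v * (i τ⁻¹)⁻¹) * (i S.n1)⁻¹)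
    have e5 : i τ * (i S.n1 * (i τ⁻¹ * v * (i τ⁻¹)⁻¹) * (i S.n1)⁻¹) * (i τ)⁻¹ = i n * v * (i n)⁻¹ := by
      rw [hn, map_mul, map_mul, map_inv]; group
    rw [e5] at a3
    norm_num at a2
    rw [a1]
    simp only [map_inv, inv_inv] at a2 a3 ⊢
    rw [a2, a3]
  refine ⟨S.o 4 s', S.mX9 s', fun w => ?_⟩
  have w8 : V 8 = W 4 := by have := E.even 4; norm_num at this; exact this
  -- `h` centralises `V 8`
  have hc : ∀ w ∈ V 8, i (S.o 4 s') * w * (i (S.o 4 s'))⁻¹ = w := by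
    intro w hw
    rw [w8] at hw
    rw [W_X P D E (k := 9) (by norm_num) (by norm_num) (S.mX9 s') hw]
    group
  have hcc : ∀ w, w ∈ V 8 ↔ i (S.o 4 s') * w * (i (S.o 4 s'))⁻¹ ∈ V 8 := by
    intro w
    refine ⟨fun hw => by rw [hc w hw]; exact hw, fun hw => ?_⟩
    have h1 := hc _ hw
    have h2 : i (S.o 4 s') * w * (i (S.o 4 s'))⁻¹ = w := mul_left_cancel (mul_right_cancel h1)
    rwa [h2] at hw
  rw [hcc w, hV]
  have e6 : (i (S.o 4 s'))⁻¹ * (i (S.o 0 s) * w * (i (S.o 0 s))⁻¹) * i (S.o 4 s') =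
      i n * (i (S.o 4 s') * w * (i (S.o 4 s'))⁻¹) * (i n)⁻¹ := by
    rw [hgn, map_mul, map_mul]
    group
  rw [e6]

/-! ### all frames -/

/-- conjugation by `rot ^ m` -/
theorem mem_rot (m k : ℤ) (v : G) : i (S.rot ^ m) * v * (i (S.rot ^ m))⁻¹ ∈ V (k + 2 * m) ↔ v ∈ V k := (E.rot m k v).symm

theorem map_rot' (m k : ℤ) : (V k).map (MulAut.conj (i (S.rot ^ m))).toMonoidHom = V (k + 2 * m) :=
  map_eq_of fun v => E.rot m k v

/-- the commutator, both orientations, shifted -/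
theorem w28_shift (m : ℤ) : Cl (V (2 + 2 * m)) (V (8 + 2 * m)) (V (4 + 2 * m) ⊔ V (5 + 2 * m) ⊔ V (6 + 2 * m)) := by
  intro a ha b hb
  rw [← map_rot' P D E m] at ha hb
  obtain ⟨a, ha, rfl⟩ := ha
  obtain ⟨b, hb, rfl⟩ := hb
  have h := w28 P D E a ha b hb
  rw [← map_rot' P D E m, ← map_rot' P D E m, ← map_rot' P D E m, ← Subgroup.map_sup, ← Subgroup.map_sup]
  refine ⟨_, h, ?_⟩
  rw [map_mul, map_mul, map_mul, map_inv, map_inv]

/-- **(g4)**, all frames (the field `w24` of `Growth.Defs.Base`) -/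
theorem w24 (c e : ℤ) (he : e = 1 ∨ e = -1) : Cl (V (2 * c + e * (-2))) (V (2 * c + e * 4)) (EK fun k => V (2 * c + e * k)) := by
  unfold EK
  rcases he with rfl | rfl
  · have h := w28_shift P D E (c - 2)
    have a2 : 2 + 2 * (c - 2) = 2 * c + 1 * (-2) := by ring
    have a8 : 8 + 2 * (c - 2) = 2 * c + 1 * 4 := by ring
    have a4 : 4 + 2 * (c - 2) = 2 * c + 1 * 0 := by ring
    have a5 : 5 + 2 * (c - 2) = 2 * c + 1 * 1 := by ring
    have a6 : 6 + 2 * (c - 2) = 2 * c + 1 * 2 := by ring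
    rw [a2, a8, a4, a5, a6] at h
    exact h
  · have h := (w28_shift P D E (c - 3)).symm
    have a2 : 2 + 2 * (c - 3) = 2 * c + -1 * 4 := by ring
    have a8 : 8 + 2 * (c - 3) = 2 * c + -1 * (-2) := by ring
    have a4 : 4 + 2 * (c - 3) = 2 * c + -1 * 2 := by ring
    have a5 : 5 + 2 * (c - 3) = 2 * c + -1 * 1 := by ring
    have a6 : 6 + 2 * (c - 3) = 2 * c + -1 * 0 := by ring
    rw [a2, a8, a4, a5, a6, sup_comm (V (2 * c + -1 * 2)), sup_assoc, sup_comm (V (2 * c + -1 * 2)), ← sup_assoc,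
      sup_comm (V (2 * c + -1 * 1))] at h
    exact h

/-- the triangle relation, shifted -/
theorem tri_shift (m : ℤ) {g : Y} (hg : g ∈ S.XZ (1 + 2 * m)) (hg1 : g ≠ 1) :
    ∃ h ∈ S.XZ (9 + 2 * m), ∀ w, w ∈ V (8 + 2 * m) ↔ (i h)⁻¹ * (i g * w * (i g)⁻¹) * i h ∈ V (2 + 2 * m) := by
  have hg' : (S.rot ^ m)⁻¹ * g * S.rot ^ m ∈ S.XZ 1 := by
    have := S.rotk_X m 1 (x := (S.rot ^ m)⁻¹ * g * S.rot ^ m)
    have e : S.rot ^ m * ((S.rot ^ m)⁻¹ * g * S.rot ^ m) * (S.rot ^ m)⁻¹ = g := by group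
    rw [e] at this
    exact this.1 hg
  have hg2 : (S.rot ^ m)⁻¹ * g * S.rot ^ m ≠ 1 := by
    intro h
    apply hg1
    calc g = S.rot ^ m * ((S.rot ^ m)⁻¹ * g * S.rot ^ m) * (S.rot ^ m)⁻¹ := by group
      _ = 1 := by rw [h]; group
  obtain ⟨h, hh, hw⟩ := tri18 P D E hg' hg2
  refine ⟨S.rot ^ m * h * (S.rot ^ m)⁻¹, S.rotk_X' m 9 hh, fun w => ?_⟩
  have e1 : w = i (S.rot ^ m) * ((i (S.rot ^ m))⁻¹ * w * i (S.rot ^ m)) * (i (S.rot ^ m))⁻¹ := by group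
  have e2 := mem_rot P D E m 8 ((i (S.rot ^ m))⁻¹ * w * i (S.rot ^ m))
  rw [← e1] at e2
  rw [e2, hw, ← mem_rot P D E m 2]
  have e3 : i (S.rot ^ m) * ((i h)⁻¹ * (i ((S.rot ^ m)⁻¹ * g * S.rot ^ m) * ((i (S.rot ^ m))⁻¹ * w * i (S.rot ^ m)) *
      (i ((S.rot ^ m)⁻¹ * g * S.rot ^ m))⁻¹) * i h) * (i (S.rot ^ m))⁻¹ =
      (i (S.rot ^ m * h * (S.rot ^ m)⁻¹))⁻¹ * (i g * w * (i g)⁻¹) * i (S.rot ^ m * h * (S.rot ^ m)⁻¹) := by
    simp only [map_mul, map_inv]; group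
  rw [e3]

/-- the mirror image -/
theorem tri_shift' (m : ℤ) {g : Y} (hg : g ∈ S.XZ (9 + 2 * m)) (hg1 : g ≠ 1) :
    ∃ h ∈ S.XZ (1 + 2 * m), ∀ w, w ∈ V (2 + 2 * m) ↔ (i h)⁻¹ * (i g * w * (i g)⁻¹) * i h ∈ V (8 + 2 * m) := by
  have k1 : (10 : ℤ) - (9 + 2 * m) = 1 + 2 * (-m) := by ring
  have k2 : (10 : ℤ) - (2 + 2 * m) = 8 + 2 * (-m) := by ring
  have k3 : (10 : ℤ) - (8 + 2 * m) = 2 + 2 * (-m) := by ring
  have hg' : S.n1 * g * S.n1⁻¹ ∈ S.XZ (1 + 2 * (-m)) := by rw [← k1]; exact S.n1_refl.mem hg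
  have hg2 : S.n1 * g * S.n1⁻¹ ≠ 1 := by
    intro h
    apply hg1
    calc g = S.n1⁻¹ * (S.n1 * g * S.n1⁻¹) * S.n1 := by group
      _ = 1 := by rw [h]; group
  obtain ⟨h, hh, hw⟩ := tri_shift P D E (-m) hg' hg2
  refine ⟨S.n1⁻¹ * h * S.n1, S.n1_refl.mem_inv hh (by ring), fun w => ?_⟩
  have e1 := E.n1 (2 + 2 * m) w
  rw [k2] at e1
  have e2 := E.n1 (8 + 2 * m) ((i (S.n1⁻¹ * h * S.n1))⁻¹ * (i g * w * (i g)⁻¹) * i (S.n1⁻¹ * h * S.n1))
  rw [k3] at e2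
  rw [e1, e2, hw]
  have e3 : (i h)⁻¹ * (i (S.n1 * g * S.n1⁻¹) * (i S.n1 * w * (i S.n1)⁻¹) * (i (S.n1 * g * S.n1⁻¹))⁻¹) * i h =
      i S.n1 * ((i (S.n1⁻¹ * h * S.n1))⁻¹ * (i g * w * (i g)⁻¹) * i (S.n1⁻¹ * h * S.n1)) * (i S.n1)⁻¹ := by
    simp only [map_mul, map_inv]; group
  rw [e3]

/-- **(g5)**, all frames (the field `tri` of `Growth.Defs.Base`) -/
theorem tri (c e : ℤ) (he : e = 1 ∨ e = -1) : ∀ g ∈ (S.XZ (2 * c + e * (-3))).map i, g ≠ 1 →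
    ∃ h ∈ (S.XZ (2 * c + e * 5)).map i, ∀ w, w ∈ V (2 * c + e * 4) ↔ h⁻¹ * (g * w * g⁻¹) * h ∈ V (2 * c + e * (-2)) := by
  rintro _ ⟨g, hg, rfl⟩ hg1
  have hg2 : g ≠ 1 := fun h => hg1 (by rw [h, map_one])
  rcases he with rfl | rfl
  · have a1 : 2 * c + 1 * (-3) = 1 + 2 * (c - 2) := by ring
    have a9 : 2 * c + 1 * 5 = 9 + 2 * (c - 2) := by ring
    have a8 : 2 * c + 1 * 4 = 8 + 2 * (c - 2) := by ring
    have a2 : 2 * c + 1 * (-2) = 2 + 2 * (c - 2) := by ring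
    rw [a1] at hg
    obtain ⟨h, hh, hw⟩ := tri_shift P D E (c - 2) hg hg2
    rw [a9, a8, a2]
    exact ⟨i h, ⟨h, hh, rfl⟩, hw⟩
  · have a1 : 2 * c + -1 * (-3) = 9 + 2 * (c - 3) := by ring
    have a9 : 2 * c + -1 * 5 = 1 + 2 * (c - 3) := by ring
    have a8 : 2 * c + -1 * 4 = 2 + 2 * (c - 3) := by ring
    have a2 : 2 * c + -1 * (-2) = 8 + 2 * (c - 3) := by ring
    rw [a1] at hg
    obtain ⟨h, hh, hw⟩ := tri_shift' P D E (c - 3) hg hg2
    rw [a9, a8, a2]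
    exact ⟨i h, ⟨h, hh, rfl⟩, hw⟩

end main

end Cfsg.Agent.OddHalf.D7TwF4.Pair

end

-- merged: Cfsg.Agent.OddHalf.D7TwF4.PairTri
section

/-!
# ODD D7, `K = ²F₄(q)`: the fields `w24`, `tri` (helper625)
-/

set_option autoImplicit false

namespace Cfsg.Agent.OddHalf.D7TwF4.Pair

open Cfsg.Agent.KFacts.TwF4 Cfsg.Agent.OddHalf.D7TwF4.Defs Cfsg.Agent.OddHalf.D7TwF4.Fab2
open Cfsg.Agent.OddHalf.D7TwF4.Growth.Defs

universe u v w

variable {F : Type w} [Field F] {σ : F →+* F} {Y : Type u} [Group Y] {G : Type v} [Group G]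
variable {S : Full σ Y} {i : Y →* G} {t : G} {W V : ℤ → Subgroup G}

/-- the fields `w24`, `tri` of `Base` in the standard position -/
theorem wtri (P : Pos S i t) (D : WData S i t W) (E : VData S i t W V) :
    WTri (fun k => (S.XZ (4 + k)).map i) (fun k => V (4 + k)) where
  w24 := by
    have h := w24 P D E 2 1 (Or.inl rfl)
    simp only [one_mul] at h
    norm_num at h ⊢
    exact h
  tri := by
    have h := tri P D E 2 1 (Or.inl rfl)
    norm_num at h ⊢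
    exact h

end Cfsg.Agent.OddHalf.D7TwF4.Pair

end

-- merged: Cfsg.Agent.OddHalf.D7TwF4.Fab2K
section

/-!
# ODD D7, `K = ²F₄(q)`: elements moving the root groups; the centre of `Q1` (helper297)
-/

set_option autoImplicit false
set_option linter.unusedSectionVars false

namespace Cfsg.Agent.OddHalf.D7TwF4.Fab2

open Cfsg.Agent.KFacts.TwF4 Cfsg.Agent.SplitTwo.ZS Cfsg.Agent.TitsThree.RankTwoZ Cfsg.Agent.SplitTwo

universe u w

variable {F : Type w} [Field F] {σ : F →+* F} {Y : Type u} [Group Y] {S : Full σ Y}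

/-- `g` moves the root groups by `k ↦ e k + 2 c` -/
structure Mvs (S : Full σ Y) (g : Y) (e c : ℤ) : Prop where
  he : e = 1 ∨ e = -1
  X : ∀ j x, x ∈ S.XZ j → g * x * g⁻¹ ∈ S.XZ (e * j + 2 * c)
  X' : ∀ j x, x ∈ S.XZ (e * j + 2 * c) → g⁻¹ * x * g ∈ S.XZ j
  Z : ∀ (a : ℤ) x, x ∈ S.Zc (a : ZMod 8) → g * x * g⁻¹ ∈ S.Zc ((e * a + c : ℤ) : ZMod 8)
  Z' : ∀ (a : ℤ) x, x ∈ S.Zc ((e * a + c : ℤ) : ZMod 8) → g⁻¹ * x * g ∈ S.Zc (a : ZMod 8)

namespace Mvs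

variable {g : Y} {e c : ℤ} (h : Mvs S g e c)

include h

theorem ee : e * e = 1 := by
  rcases h.he with rfl | rfl <;> norm_num

theorem inv : Mvs S g⁻¹ e (-(e * c)) where
  he := h.he
  X j x hx := by
    rw [inv_inv]
    apply h.X'
    have e1 : e * (e * j + 2 * -(e * c)) + 2 * c = (e * e) * j - (e * e) * (2 * c) + 2 * c := by ring
    rw [e1, h.ee, one_mul, one_mul, sub_add_cancel]
    exact hx
  X' j x hx := by
    rw [inv_inv]
    have h1 := h.X _ x hx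
    have e1 : e * (e * j + 2 * -(e * c)) + 2 * c = (e * e) * j - (e * e) * (2 * c) + 2 * c := by ring
    rw [e1, h.ee, one_mul, one_mul, sub_add_cancel] at h1
    exact h1
  Z a x hx := by
    rw [inv_inv]
    apply h.Z'
    have e1 : e * (e * a + -(e * c)) + c = (e * e) * a - (e * e) * c + c := by ring
    rw [e1, h.ee, one_mul, one_mul, sub_add_cancel]
    exact hx
  Z' a x hx := by
    rw [inv_inv]
    have h1 := h.Z _ x hx
    have e1 : e * (e * a + -(e * c)) + c = (e * e) * a - (e * e) * c + c := by ring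
    rw [e1, h.ee, one_mul, one_mul, sub_add_cancel] at h1
    exact h1

theorem Ziff (a : ℤ) (x : Y) : x ∈ S.Zc (a : ZMod 8) ↔ g * x * g⁻¹ ∈ S.Zc ((e * a + c : ℤ) : ZMod 8) :=
  ⟨h.Z a x, fun hx => by
    have := h.Z' a _ hx
    have e1 : g⁻¹ * (g * x * g⁻¹) * g = x := by group
    rwa [e1] at this⟩

theorem Jm {a b a' b' : ℤ} (h1 : ∀ j, a ≤ j → j ≤ b → a' ≤ e * j + 2 * c ∧ e * j + 2 * c ≤ b') {x : Y}
    (hx : x ∈ J S.XZ a b) : g * x * g⁻¹ ∈ J S.XZ a' b' := by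
  have : J S.XZ a b ≤ (J S.XZ a' b').comap (MulAut.conj g).toMonoidHom :=
    J_le fun j h2 h3 y hy => mem_J (h.X j y hy) (h1 j h2 h3).1 (h1 j h2 h3).2
  exact this hx

/-- the parabolic subgroup -/
theorem Jc (a : ℤ) {x : Y} (hx : x ∈ J S.XZ (2 * a - 4) (2 * a + 4)) :
    g * x * g⁻¹ ∈ J S.XZ (2 * (e * a + c) - 4) (2 * (e * a + c) + 4) := by
  refine h.Jm (fun j h1 h2 => ?_) hx
  rcases h.he with rfl | rfl <;> constructor <;> linarith

theorem T {x : Y} (hx : x ∈ S.T) : g * x * g⁻¹ ∈ S.T := by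
  have key : ∀ z ∈ S.T, ∀ k : ℤ, ∀ x ∈ S.XZ k, (g * z * g⁻¹) * x * (g * z * g⁻¹)⁻¹ ∈ S.XZ k := by
    intro z hz k x hx
    have h1 := h.inv.X k x hx
    have h2 := h.X _ _ (S.T_conj hz _ h1)
    have e1 : e * (e * k + 2 * -(e * c)) + 2 * c = (e * e) * k - (e * e) * (2 * c) + 2 * c := by ring
    rw [e1, h.ee, one_mul, one_mul, sub_add_cancel, inv_inv] at h2
    have e2 : g * (z * (g⁻¹ * x * g) * z⁻¹) * g⁻¹ = (g * z * g⁻¹) * x * (g * z * g⁻¹)⁻¹ := by group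
    rwa [e2] at h2
  intro k y
  have hk : (((k.val : ℕ) : ℤ) : ZMod (2 * 8)) = k := by rw [Int.cast_natCast]; exact ZMod.natCast_zmod_val _
  have hX : S.XZ (k.val : ℤ) = S.R.X k := by show S.R.X _ = _; rw [hk]
  have k1 := key x hx (k.val : ℤ)
  have k2 := key x⁻¹ (inv_mem hx) (k.val : ℤ)
  rw [hX] at k1 k2
  refine ⟨fun hy => ?_, fun hy => k1 y hy⟩
  have h3 := k2 _ hy
  have e1 : (g * x⁻¹ * g⁻¹) * ((g * x * g⁻¹) * y * (g * x * g⁻¹)⁻¹) * (g * x⁻¹ * g⁻¹)⁻¹ = y := by group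
  rwa [e1] at h3

theorem Tk (k : ℤ) {x : Y} (hx : x ∈ S.Tk k) : g * x * g⁻¹ ∈ S.Tk (e * k + 2 * c) := by
  refine ⟨h.T hx.1, Subgroup.mem_centralizer_iff.2 fun y hy => ?_⟩
  have h1 := S.Tk_comm hx (h.X' k y hy)
  calc y * (g * x * g⁻¹) = g * ((g⁻¹ * y * g) * x) * g⁻¹ := by group
    _ = (g * x * g⁻¹) * y := by rw [← h1]; group

end Mvs

theorem mvs_rot (S : Full σ Y) (m : ℤ) : Mvs S (S.rot ^ m) 1 m where
  he := Or.inl rfl
  X j x hx := by rw [one_mul]; exact S.rotk_X' m j hx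
  X' j x hx := by
    rw [one_mul] at hx
    have := S.rotk_X' (-m) _ hx
    rw [zpow_neg, inv_inv, show j + 2 * m + 2 * -m = j by ring] at this
    exact this
  Z a x hx := by
    obtain ⟨u, rfl⟩ := hx
    exact ⟨u, by rw [S.rotk_e]; push_cast; rw [one_mul]⟩
  Z' a x hx := by
    obtain ⟨u, rfl⟩ := hx
    have := S.rotk_e (-m) ((1 * a + m : ℤ) : ZMod 8) 0 u
    rw [zpow_neg, inv_inv] at this
    refine ⟨u, ?_⟩
    rw [this]
    congr 1
    push_cast; ring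

theorem mvs_n2 (S : Full σ Y) : Mvs S S.n2 (-1) 4 where
  he := Or.inr rfl
  X j x hx := by
    rw [show -1 * j + 2 * 4 = 8 - j by ring]
    exact S.n2_refl.mem hx
  X' j x hx := S.n2_refl.mem_inv hx (by ring)
  Z a x hx := by
    obtain ⟨u, rfl⟩ := hx
    refine ⟨u, ?_⟩
    rw [S.n2_e]
    congr 1
    push_cast; ring
  Z' a x hx := by
    obtain ⟨u, rfl⟩ := hx
    refine ⟨u, ?_⟩
    have := S.n2_e (a : ZMod 8) 0 u
    rw [show ((-1 * a + 4 : ℤ) : ZMod 8) = 4 - (a : ZMod 8) by push_cast; ring, ← this]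
    group

theorem mvs_n1 (S : Full σ Y) : Mvs S S.n1 (-1) 5 where
  he := Or.inr rfl
  X j x hx := by
    rw [show -1 * j + 2 * 5 = 10 - j by ring]
    exact S.n1_refl.mem hx
  X' j x hx := S.n1_refl.mem_inv hx (by ring)
  Z a x hx := by
    obtain ⟨u, rfl⟩ := hx
    refine ⟨u, ?_⟩
    rw [S.n1_e]
    congr 1
    push_cast; ring
  Z' a x hx := by
    obtain ⟨u, rfl⟩ := hx
    refine ⟨u, ?_⟩
    have := S.n1_e (a : ZMod 8) 0 u
    rw [show ((-1 * a + 5 : ℤ) : ZMod 8) = 5 - (a : ZMod 8) by push_cast; ring, ← this]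
    group

theorem mvs_T {h : Y} (hh : h ∈ S.T) : Mvs S h 1 0 where
  he := Or.inl rfl
  X j x hx := by rw [one_mul, mul_zero, add_zero]; exact S.T_conj hh j hx
  X' j x hx := by
    rw [one_mul, mul_zero, add_zero] at hx
    exact S.T_conj' hh j hx
  Z a x hx := by rw [one_mul, add_zero]; exact S.T_conj_Zc hh hx
  Z' a x hx := by
    rw [one_mul, add_zero] at hx
    have := S.T_conj_Zc (inv_mem hh) hx
    rwa [inv_inv] at this

/-! ### the centre of `Q1` -/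

/-- `C(Q1) = Q2` -/
theorem centralizer_Q1 (hF : ∃ c : F, c ≠ 0 ∧ c ≠ 1) {y : Y} (hy : ∀ x ∈ S.Q1, y * x = x * y) : y ∈ S.Q2 := by
  have h1 : y ∈ S.Q1 := by
    rw [← S.centralizer_Q2, Subgroup.mem_centralizer_iff]
    intro x hx
    exact (hy x (Subgroup.mem_sup_right hx)).symm
  obtain ⟨x, hx, q, hq, rfl⟩ := mem_sup_of_norm (A := S.XZ 4) (B := S.Q2) (fun x hx q hq => by
    rw [S.Q1_comm (Subgroup.mem_sup_left hx) hq, mul_inv_cancel_right]; exact hq) h1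
  obtain ⟨p, u, rfl⟩ := S.X4 hx
  have key : ∀ r : F, p * σ r = r * σ p := by
    intro r
    have h2 := hy _ (Subgroup.mem_sup_left (S.mX4 r 0))
    have h3 := S.Q1_comm (Subgroup.mem_sup_left (S.mX4 r 0)) hq
    have h4 : S.e 2 p u * S.e 2 r 0 = S.e 2 r 0 * S.e 2 p u := by
      have h5 : S.e 2 p u * S.e 2 r 0 * q = S.e 2 r 0 * S.e 2 p u * q := by
        calc S.e 2 p u * S.e 2 r 0 * q = S.e 2 p u * (S.e 2 r 0 * q) := by group
          _ = S.e 2 p u * q * S.e 2 r 0 := by rw [h3]; group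
          _ = _ := by rw [h2]; group
      exact mul_right_cancel h5
    rw [S.e_mul, S.e_mul] at h4
    have h5 := (S.injE 2 _ _ _ _ h4).2
    rw [add_zero, zero_add] at h5
    exact add_left_cancel h5
  have hp : p = 0 := by
    by_contra hp
    have h2 := key 1
    rw [map_one, mul_one, one_mul] at h2
    have h3 : ∀ r, σ r = r := by
      intro r
      have h4 := key r
      rw [← h2, mul_comm r p] at h4
      exact mul_left_cancel₀ hp h4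
    obtain ⟨c, c0, c1⟩ := hF
    have h4 := S.sq c
    rw [h3, h3, pow_two] at h4
    apply c1
    have : c * c = c * 1 := by rw [mul_one]; exact h4.symm
    exact mul_left_cancel₀ c0 this
  subst hp
  exact mul_mem (S.q2_3 u) hq

/-- `PL` normalises `Q1` -/
theorem Q1_norm {g x : Y} (hg : g ∈ S.PL) (hx : x ∈ S.Q1) : g * x * g⁻¹ ∈ S.Q1 := by
  rw [← S.centralizer_Q2, Subgroup.mem_centralizer_iff] at hx ⊢
  intro y hy
  have h1 : g⁻¹ * y * g ∈ S.Q2 := by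
    have := (Subgroup.mem_normalizer_iff.1 (S.Q2_norm (inv_mem hg)) y).1 hy
    rwa [inv_inv] at this
  have h2 := hx _ h1
  calc y * (g * x * g⁻¹) = g * ((g⁻¹ * y * g) * x) * g⁻¹ := by group
    _ = g * x * g⁻¹ * y := by rw [h2]; group

/-- `Z_2`, `X_8` generate `X_3` modulo `Z_2 Z_4 Z_6` -/
theorem e1_conj (u : F) : (S.e 4 1 0)⁻¹ * S.e 1 0 u * S.e 4 1 0 =
    S.e 1 0 u * S.o 1 u * S.e 2 0 (σ u) * S.e 3 0 (u) := by
  have h := S.e_e3 1 0 u 1 0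
  rw [show ((1 : ZMod 8) + 3) = 4 from rfl, show ((1 : ZMod 8) + 1) = 2 from rfl, show ((1 : ZMod 8) + 2) = 3 from rfl] at h
  simp only [map_zero, map_one, zero_mul, mul_zero, add_zero, zero_add, mul_one, S.o_zero] at h
  rw [mul_assoc, h]
  group

end Cfsg.Agent.OddHalf.D7TwF4.Fab2

end

-- merged: Cfsg.Agent.OddHalf.D7TwF4.Fab2
section

/-!
# ODD D7, `K = ²F₄(q)`, `q ≥ 8`: section 2 (helper297; text: bb ODD 13028)

`FF a` : generated by the conjugates of `W (a-1)`, `W a`, `W (a+1)` under `⟨X_{2a-4}, …, X_{2a+4}⟩`.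
`Cx.vdata` : the doubles `V k` of all `Zk S k`.
-/

set_option autoImplicit false
set_option linter.unusedSectionVars false

namespace Cfsg.Agent.OddHalf.D7TwF4.Fab2

open Cfsg.Agent.KFacts.TwF4 Cfsg.Agent.SplitTwo.ZS Cfsg.Agent.OddHalf.D7TwF4.Defs
open Subgroup

universe u v w

variable {F : Type w} [Field F] {σ : F →+* F} {Y : Type u} [Group Y] {G : Type v} [Group G]

/-! ### general lemmas -/

section gen

variable {i : Y →* G} {t : G}

/-- the values `[f, t]`, `f ∈ A` -/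
def tauSub (i : Y →* G) (tt : t * t = 1) (A : Subgroup G) (ab : ∀ f ∈ A, ∀ f' ∈ A, f * f' = f' * f)
    (tA : ∀ f ∈ A, t * f * t ∈ A) : Subgroup Y where
  carrier := {y | ∃ f ∈ A, t * f * t = f * i y}
  one_mem' := ⟨1, one_mem _, by rw [mul_one, tt, map_one, mul_one]⟩
  mul_mem' := by
    rintro y y' ⟨f, hf, h⟩ ⟨f', hf', h'⟩
    have e1 : i y = f⁻¹ * (t * f * t) := by rw [h]; group
    have hy : i y ∈ A := by rw [e1]; exact mul_mem (inv_mem hf) (tA f hf)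
    refine ⟨f * f', mul_mem hf hf', ?_⟩
    have e2 := ab _ hy _ hf'
    calc t * (f * f') * t = t * f * (t * t) * f' * t := by rw [tt]; group
      _ = (t * f * t) * (t * f' * t) := by group
      _ = f * (i y * f') * i y' := by rw [h, h']; group
      _ = f * f' * i (y * y') := by rw [e2, map_mul]; group
  inv_mem' := by
    rintro y ⟨f, hf, h⟩
    have e1 : i y = f⁻¹ * (t * f * t) := by rw [h]; group
    have hy : i y ∈ A := by rw [e1]; exact mul_mem (inv_mem hf) (tA f hf)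
    refine ⟨f⁻¹, inv_mem hf, ?_⟩
    have e2 := ab _ (inv_mem hy) _ (inv_mem hf)
    have ti : t⁻¹ = t := inv_eq_of_mul_eq_one_left tt
    calc t * f⁻¹ * t = (t⁻¹ * f * t⁻¹)⁻¹ := by group
      _ = (f * i y)⁻¹ := by rw [ti, h]
      _ = (i y)⁻¹ * f⁻¹ := by group
      _ = f⁻¹ * i y⁻¹ := by rw [e2, map_inv]

/-- **averaging** over a group of odd order -/
theorem exists_avg (tt : t * t = 1) (ti : ∀ y : Y, t * i y = i y * t) {A : Subgroup G}
    (ab : ∀ f ∈ A, ∀ f' ∈ A, f * f' = f' * f)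
    (tA : ∀ f ∈ A, t * f * t ∈ A) {T : Subgroup Y} [Finite T] (hodd : Odd (Nat.card T))
    (nT : ∀ h ∈ T, ∀ f ∈ A, i h * f * (i h)⁻¹ ∈ A) {y : Y} (hy2 : y * y = 1) (hyT : ∀ h ∈ T, h * y = y * h)
    {f : G} (hf : f ∈ A) (h : t * f * t = f * i y) :
    ∃ f' ∈ A, (∀ h ∈ T, i h * f' = f' * i h) ∧ t * f' * t = f' * i y := by
  have hti : t⁻¹ = t := inv_eq_of_mul_eq_one_left tt
  have hyA : i y ∈ A := by
    have e1 : i y = f⁻¹ * (t * f * t) := by rw [h]; group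
    rw [e1]; exact mul_mem (inv_mem hf) (tA f hf)
  let _ : CommGroup A := { (inferInstance : Group A) with mul_comm := fun a b => Subtype.ext (ab a a.2 b b.2) }
  let _ : Fintype T := Fintype.ofFinite T
  let φ : T → A := fun h => ⟨i h * f * (i h)⁻¹, nT h h.2 f hf⟩
  let cj : T → (A →* A) := fun k =>
    { toFun := fun a => ⟨i k * a * (i k)⁻¹, nT k k.2 a a.2⟩
      map_one' := Subtype.ext (by show i (k : Y) * ((1 : A) : G) * (i k)⁻¹ = 1; rw [OneMemClass.coe_one]; group)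
      map_mul' := fun a b => Subtype.ext (by
        show i (k : Y) * ((a : G) * b) * (i k)⁻¹ = (i k * a * (i k)⁻¹) * (i k * b * (i k)⁻¹)
        group) }
  let τ : A →* A :=
    { toFun := fun a => ⟨t * a * t, tA a a.2⟩
      map_one' := Subtype.ext (by show t * ((1 : A) : G) * t = 1; rw [OneMemClass.coe_one, mul_one, tt])
      map_mul' := fun a b => Subtype.ext (by
        show t * ((a : G) * b) * t = (t * a * t) * (t * b * t)
        calc t * ((a : G) * b) * t = t * a * (t * t)⁻¹ * b * t := by rw [tt]; group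
          _ = (t * a * t⁻¹) * (t⁻¹ * b * t) := by group
          _ = _ := by rw [hti]) }
  have h1 : ∀ k : T, cj k (∏ h : T, φ h) = ∏ h : T, φ h := by
    intro k
    rw [map_prod]
    refine Fintype.prod_equiv (Equiv.mulLeft k) _ _ fun h => Subtype.ext ?_
    show i (k : Y) * (i h * f * (i h)⁻¹) * (i k)⁻¹ = i ((k : Y) * h) * f * (i ((k : Y) * h))⁻¹
    rw [map_mul]; group
  have h2 : τ (∏ h : T, φ h) = (∏ h : T, φ h) * ⟨i y, hyA⟩ := by
    rw [map_prod]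
    have e1 : ∀ h : T, τ (φ h) = φ h * ⟨i y, hyA⟩ := by
      intro k
      apply Subtype.ext
      show t * (i (k : Y) * f * (i k)⁻¹) * t = i k * f * (i k)⁻¹ * i y
      have a1 := ti k
      have a2 : (i (k : Y))⁻¹ * t = t * (i k)⁻¹ := by
        have := ti (k : Y)⁻¹
        rw [map_inv] at this
        exact this.symm
      have a3 : (i (k : Y))⁻¹ * i y = i y * (i k)⁻¹ := by
        have a4 := congrArg i (hyT k k.2)
        rw [map_mul, map_mul] at a4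
        calc (i (k : Y))⁻¹ * i y = (i (k : Y))⁻¹ * (i y * i k) * (i k)⁻¹ := by group
          _ = _ := by rw [← a4]; group
      calc t * (i (k : Y) * f * (i k)⁻¹) * t = (t * i k) * f * ((i (k : Y))⁻¹ * t) := by group
        _ = i k * (t * f * t) * (i k)⁻¹ := by rw [a1, a2]; group
        _ = i k * f * ((i (k : Y))⁻¹ * i y) := by rw [h, a3]; group
        _ = _ := by group
    rw [Finset.prod_congr rfl fun h _ => e1 h, Finset.prod_mul_distrib, Finset.prod_const, Finset.card_univ,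
      ← Nat.card_eq_fintype_card]
    congr 1
    obtain ⟨m, hm⟩ := hodd
    have e2 : (⟨i y, hyA⟩ : A) ^ 2 = 1 := Subtype.ext (by
      show (i y) ^ 2 = 1
      rw [← map_pow, pow_two, hy2, map_one])
    rw [hm, pow_succ, pow_mul, e2, one_pow, one_mul]
  refine ⟨(∏ h : T, φ h : A), (∏ h : T, φ h : A).2, fun k hk => ?_, congrArg Subtype.val h2⟩
  have h3 : i k * ((∏ h : T, φ h : A) : G) * (i k)⁻¹ = ((∏ h : T, φ h : A) : G) :=
    congrArg Subtype.val (h1 ⟨k, hk⟩)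
  calc i k * ((∏ h : T, φ h : A) : G) = (i k * ((∏ h : T, φ h : A) : G) * (i k)⁻¹) * i k := by group
    _ = _ := by rw [h3]

end gen

variable {S : Full σ Y} {i : Y →* G} {t : G} {W : ℤ → Subgroup G}

/-! ### the groups `FF a` -/

/-- the group `F_{2a}` -/
def FF (S : Full σ Y) (i : Y →* G) (W : ℤ → Subgroup G) (a : ℤ) : Subgroup G :=
  Subgroup.closure {g | ∃ y ∈ J S.XZ (2 * a - 4) (2 * a + 4), ∃ b : ℤ, a - 1 ≤ b ∧ b ≤ a + 1 ∧ ∃ w ∈ W b, g = i y * w * (i y)⁻¹}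

/-- The input of section 2b. -/
structure Cx (S : Full σ Y) (i : Y →* G) (t : G) (W : ℤ → Subgroup G) : Prop where
  P : Pos S i t
  D : WData S i t W
  hc : ∀ a : ℤ, ∀ w ∈ W a, ∀ w' ∈ W (a + 2), w * w' = w' * w

namespace Cx

variable (C : Cx S i t W)

include C

theorem t_inv : t⁻¹ = t := C.P.t_inv

theorem W_Z {a : ℤ} {z : Y} (hz : z ∈ S.Zc (a : ZMod 8)) : i z ∈ W a := by
  rw [C.D.mem]
  obtain ⟨u, rfl⟩ := hz
  refine ⟨?_, fun y hy => ?_, ⟨1, one_mem _, ?_⟩, ?_⟩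
  · rw [← map_mul, S.e_mul_Zc, S.add_self, S.e_zero, map_one]
  · rw [← map_mul, ← map_mul, hy _ ⟨u, rfl⟩]
  · rw [C.P.ti, mul_assoc, C.P.tt, map_one]
  · rintro ⟨z', -, h⟩
    exact C.P.t_mul_ne h.symm

theorem W_t {a : ℤ} {w : G} (hw : w ∈ W a) : t * w * t ∈ W a := by
  obtain ⟨z, hz, h⟩ := C.D.comm hw
  rw [h]
  exact mul_mem hw (C.W_Z hz)

theorem W_mvs {g : Y} {e c : ℤ} (h : Mvs S g e c) {a : ℤ} {w : G} (hw : w ∈ W a) :
    i g * w * (i g)⁻¹ ∈ W (e * a + c) := C.D.conj C.P.ti (h.Ziff a) hw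

theorem FF_mvs {g : Y} {e c : ℤ} (h : Mvs S g e c) {a : ℤ} {f : G} (hf : f ∈ FF S i W a) :
    i g * f * (i g)⁻¹ ∈ FF S i W (e * a + c) := by
  have : FF S i W a ≤ (FF S i W (e * a + c)).comap (MulAut.conj (i g)).toMonoidHom := by
    unfold FF
    rw [closure_le]
    rintro _ ⟨y, hy, b, h1, h2, w, hw, rfl⟩
    show i g * (i y * w * (i y)⁻¹) * (i g)⁻¹ ∈ Subgroup.closure _
    refine subset_closure ⟨g * y * g⁻¹, h.Jc a hy, e * b + c, ?_, ?_, i g * w * (i g)⁻¹, C.W_mvs h hw, ?_⟩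
    · rcases h.he with rfl | rfl <;> linarith
    · rcases h.he with rfl | rfl <;> linarith
    · rw [map_mul, map_mul, map_inv]; group
  exact this hf

theorem W_le_FF {a b : ℤ} (h1 : a - 1 ≤ b) (h2 : b ≤ a + 1) : W b ≤ FF S i W a := fun w hw =>
  subset_closure ⟨1, one_mem _, b, h1, h2, w, hw, by rw [map_one]; group⟩

theorem FF_J {a : ℤ} {y : Y} (hy : y ∈ J S.XZ (2 * a - 4) (2 * a + 4)) {f : G} (hf : f ∈ FF S i W a) :
    i y * f * (i y)⁻¹ ∈ FF S i W a := by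
  have : FF S i W a ≤ (FF S i W a).comap (MulAut.conj (i y)).toMonoidHom := by
    conv_lhs => unfold FF
    rw [closure_le]
    rintro _ ⟨y', hy', b, h1, h2, w, hw, rfl⟩
    show i y * (i y' * w * (i y')⁻¹) * (i y)⁻¹ ∈ FF S i W a
    exact subset_closure ⟨y * y', mul_mem hy hy', b, h1, h2, w, hw, by rw [map_mul]; group⟩
  exact this hf

omit C in
theorem PL_iff (S : Full σ Y) {y : Y} : y ∈ J S.XZ (2 * 2 - 4) (2 * 2 + 4) ↔ y ∈ S.PL := by
  rw [show (2 : ℤ) * 2 - 4 = 0 by norm_num, show (2 : ℤ) * 2 + 4 = 8 by norm_num]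
  rfl

theorem FF_PL {y : Y} (hy : y ∈ S.PL) {f : G} (hf : f ∈ FF S i W 2) : i y * f * (i y)⁻¹ ∈ FF S i W 2 :=
  C.FF_J (a := 2) ((PL_iff S).2 hy) hf

/-! ### centre 4 -/

theorem W2_PL {w : G} (hw : w ∈ W 2) {y : Y} (hy : y ∈ S.PL) : w * i y = i y * w :=
  C.D.cent hw fun z hz => S.comm_PL hy hz

theorem W3_J {w : G} (hw : w ∈ W 3) {x : Y} (hx : x ∈ J S.XZ 2 8) : w * i x = i x * w :=
  C.D.cent hw fun z hz => by
    obtain ⟨u, rfl⟩ := hz
    exact S.W46_comm hx (S.Z6_W46 u)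

theorem W1_eq {w : G} (hw : w ∈ W 1) : ∃ w' ∈ W 3, w = i S.n2 * w' * (i S.n2)⁻¹ := by
  refine ⟨(i S.n2)⁻¹ * w * i S.n2, ?_, by group⟩
  have := C.W_mvs (mvs_n2 S).inv hw
  rw [map_inv, inv_inv] at this
  exact this

/-- induction in `FF 2` -/
theorem FF2_ind {K : Subgroup G} (h2 : W 2 ≤ K) (h3 : W 3 ≤ K) (hn : ∀ y ∈ S.PL, ∀ g ∈ K, i y * g * (i y)⁻¹ ∈ K) :
    FF S i W 2 ≤ K := by
  unfold FF
  rw [closure_le]
  rintro _ ⟨y, hy, b, hb1, hb2, w, hw, rfl⟩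
  refine hn y ((PL_iff S).1 hy) w ?_
  have : b = 1 ∨ b = 2 ∨ b = 3 := by omega
  rcases this with rfl | rfl | rfl
  · obtain ⟨w', hw', rfl⟩ := C.W1_eq hw
    exact hn _ S.n2_mem _ (h3 hw')
  · exact h2 hw
  · exact h3 hw

theorem cent_inv {A : Set G} (hA : ∀ y ∈ S.PL, ∀ a ∈ A, i y * a * (i y)⁻¹ ∈ A) {y : Y} (hy : y ∈ S.PL) {g : G}
    (hg : g ∈ centralizer A) : i y * g * (i y)⁻¹ ∈ centralizer A := by
  rw [mem_centralizer_iff] at hg ⊢
  intro a ha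
  have h1 := hA _ (inv_mem hy) a ha
  rw [map_inv, inv_inv] at h1
  have h2 := hg _ h1
  calc a * (i y * g * (i y)⁻¹) = i y * (((i y)⁻¹ * a * i y) * g) * (i y)⁻¹ := by group
    _ = i y * g * (i y)⁻¹ * a := by rw [h2]; group

theorem W3_U {u : Y} (hu : u ∈ J S.XZ 1 8) {w : G} (hw : w ∈ W 3) : ∃ w2 ∈ W 2, i u * w * (i u)⁻¹ = w2 * w := by
  have Z8 := S.zsys8
  obtain ⟨x, hx, y, hy, rfl⟩ := Z8.split_ll (a := 1) (b := 8) (by norm_num) (by norm_num) hu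
  have h1 := C.W3_J hw hy
  have h2 := C.D.two 2 w hw x hx
  refine ⟨(w * i x * w⁻¹ * (i x)⁻¹)⁻¹, inv_mem h2, ?_⟩
  rw [map_mul]
  calc i x * i y * w * (i x * i y)⁻¹ = i x * (i y * w) * (i y)⁻¹ * (i x)⁻¹ := by group
    _ = i x * w * (i x)⁻¹ := by rw [← h1]; group
    _ = _ := by group

theorem comm33 {p : Y} (hp : p ∈ S.PL) {w w' : G} (hw : w ∈ W 3) (hw' : w' ∈ W 3) :
    w * (i p * w' * (i p)⁻¹) = (i p * w' * (i p)⁻¹) * w := by
  have h21 : ∀ w2 ∈ W 2, ∀ w1 ∈ W 1, w2 * w1 = w1 * w2 := fun w2 h2 w1 h1 => (C.D.one 1 w1 h1 w2 h2).symm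
  have h23 : ∀ w2 ∈ W 2, ∀ w3 ∈ W 3, w2 * w3 = w3 * w2 := fun w2 h2 w3 h3 => C.D.one 2 w2 h2 w3 h3
  rcases S.form_PL hp with ⟨b, hb, s, hs, rfl⟩ | ⟨b, hb, s, hs, x, hx, rfl⟩
  · have h1 : i s * w' * (i s)⁻¹ ∈ W 3 := by
      have := C.W_mvs (mvs_T hs) hw'
      exact this
    obtain ⟨w2, hw2, h2⟩ := C.W3_U hb h1
    have e1 : i (b * s) * w' * (i (b * s))⁻¹ = w2 * (i s * w' * (i s)⁻¹) := by
      rw [← h2, map_mul]; group
    rw [e1, ← mul_assoc, ← h23 w2 hw2 w hw, mul_assoc, C.D.ab hw h1, ← mul_assoc]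
  · have h1 : i (s * S.n2 * x) * w' * (i (s * S.n2 * x))⁻¹ ∈ W 1 := by
      have a1 := C.W3_J hw' (mem_J hx (by norm_num) (by norm_num))
      have a2 := C.W_mvs (mvs_n2 S) hw'
      have a3 := C.W_mvs (mvs_T hs) a2
      have e1 : i (s * S.n2 * x) * w' * (i (s * S.n2 * x))⁻¹ = i s * (i S.n2 * w' * (i S.n2)⁻¹) * (i s)⁻¹ := by
        rw [map_mul, map_mul]
        calc i s * i S.n2 * i x * w' * (i s * i S.n2 * i x)⁻¹ =
            i s * i S.n2 * (i x * w') * (i x)⁻¹ * (i S.n2)⁻¹ * (i s)⁻¹ := by group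
          _ = _ := by rw [← a1]; group
      rw [e1]
      exact a3
    set v := i (s * S.n2 * x) * w' * (i (s * S.n2 * x))⁻¹ with hv
    have e1 : i (b * (s * S.n2) * x) * w' * (i (b * (s * S.n2) * x))⁻¹ = i b * v * (i b)⁻¹ := by
      rw [hv, mul_assoc b, map_mul i b]; group
    obtain ⟨w2, hw2, h2⟩ := C.W3_U (inv_mem hb) hw
    rw [map_inv, inv_inv] at h2
    have h3 : ((i b)⁻¹ * w * i b) * v = v * ((i b)⁻¹ * w * i b) := by
      rw [h2, mul_assoc, ← C.hc 1 v h1 w hw, ← mul_assoc, h21 w2 hw2 v h1, mul_assoc]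
    rw [e1]
    calc w * (i b * v * (i b)⁻¹) = i b * (((i b)⁻¹ * w * i b) * v) * (i b)⁻¹ := by group
      _ = _ := by rw [h3]; group

theorem W2_W {b : ℤ} (h1 : 1 ≤ b) (h2 : b ≤ 3) {w w' : G} (hw : w ∈ W 2) (hw' : w' ∈ W b) : w * w' = w' * w := by
  have : b = 1 ∨ b = 2 ∨ b = 3 := by omega
  rcases this with rfl | rfl | rfl
  · exact (C.D.one 1 w' hw' w hw).symm
  · exact C.D.ab hw hw'
  · exact C.D.one 2 w hw w' hw'

theorem FF2_W2 {f : G} (hf : f ∈ FF S i W 2) {w : G} (hw : w ∈ W 2) : f * w = w * f := by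
  have : FF S i W 2 ≤ centralizer (W 2 : Set G) := by
    refine C.FF2_ind (fun x hx => ?_) (fun x hx => ?_) fun y hy g hg => C.cent_inv (fun y hy a ha => ?_) hy hg
    · rw [mem_centralizer_iff]
      intro y hy
      exact C.D.ab hy hx
    · rw [mem_centralizer_iff]
      intro y hy
      exact C.W2_W (by norm_num) le_rfl hy hx
    · rw [← C.W2_PL ha hy, mul_inv_cancel_right]; exact ha
  exact (mem_centralizer_iff.1 (this hf) w hw).symm

theorem FF2_ab {f f' : G} (hf : f ∈ FF S i W 2) (hf' : f' ∈ FF S i W 2) : f * f' = f' * f := by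
  set A : Set G := {g | ∃ y ∈ S.PL, ∃ w ∈ W 3, g = i y * w * (i y)⁻¹} with hA
  have hAn : ∀ y ∈ S.PL, ∀ a ∈ A, i y * a * (i y)⁻¹ ∈ A := by
    rintro y hy _ ⟨y', hy', w, hw, rfl⟩
    exact ⟨y * y', mul_mem hy hy', w, hw, by rw [map_mul]; group⟩
  have h1 : FF S i W 2 ≤ centralizer A := by
    refine C.FF2_ind (fun x hx => ?_) (fun x hx => ?_) fun y hy g hg => C.cent_inv hAn hy hg
    · rw [mem_centralizer_iff]
      rintro _ ⟨y, hy, w, hw, rfl⟩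
      have a1 := C.W2_PL hx hy
      have a2 := C.W2_W (by norm_num) le_rfl hx hw
      calc i y * w * (i y)⁻¹ * x = i y * w * ((i y)⁻¹ * x * i y) * (i y)⁻¹ := by group
        _ = i y * w * x * (i y)⁻¹ := by rw [mul_assoc (i y)⁻¹, a1]; group
        _ = (i y * x) * w * (i y)⁻¹ := by rw [mul_assoc (i y) w x, ← a2]; group
        _ = _ := by rw [← a1]; group
    · rw [mem_centralizer_iff]
      rintro _ ⟨y, hy, w, hw, rfl⟩
      exact (C.comm33 hy hx hw).symm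
  have h2 : FF S i W 2 ≤ centralizer (FF S i W 2 : Set G) := by
    refine C.FF2_ind (fun x hx => ?_) (fun x hx => ?_) fun y hy g hg => C.cent_inv (fun y hy a ha => C.FF_PL hy ha) hy hg
    · rw [mem_centralizer_iff]
      intro g hg
      exact C.FF2_W2 hg hx
    · rw [mem_centralizer_iff]
      intro g hg
      exact (mem_centralizer_iff.1 (h1 hg) x ⟨1, one_mem _, x, hx, by rw [map_one]; group⟩).symm
  exact (mem_centralizer_iff.1 (h2 hf) f' hf').symm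

theorem FF2_sq {f : G} (hf : f ∈ FF S i W 2) : f * f = 1 := by
  let K : Subgroup G :=
    { carrier := {f | f ∈ FF S i W 2 ∧ f * f = 1}
      one_mem' := ⟨one_mem _, one_mul 1⟩
      mul_mem' := by
        rintro a b ⟨ha, ha'⟩ ⟨hb, hb'⟩
        refine ⟨mul_mem ha hb, ?_⟩
        have := C.FF2_ab ha hb
        calc a * b * (a * b) = a * b * (b * a) := by rw [this]
          _ = a * (b * b) * a := by group
          _ = 1 := by rw [hb', mul_one, ha']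
      inv_mem' := by
        rintro a ⟨ha, ha'⟩
        refine ⟨inv_mem ha, ?_⟩
        rw [← mul_inv_rev, ha', inv_one] }
  have : FF S i W 2 ≤ K := by
    refine C.FF2_ind (fun x hx => ⟨C.W_le_FF (by norm_num) (by norm_num) hx, C.D.sq hx⟩)
      (fun x hx => ⟨C.W_le_FF (by norm_num) (by norm_num) hx, C.D.sq hx⟩) ?_
    rintro y hy g ⟨hg, hg'⟩
    refine ⟨C.FF_PL hy hg, ?_⟩
    calc i y * g * (i y)⁻¹ * (i y * g * (i y)⁻¹) = i y * (g * g) * (i y)⁻¹ := by group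
      _ = 1 := by rw [hg']; group
  exact (this hf).2

theorem FF2_t {f : G} (hf : f ∈ FF S i W 2) : t * f * t ∈ FF S i W 2 := by
  have h0 : FF S i W 2 ≤ (FF S i W 2).comap (MulAut.conj t).toMonoidHom := by
    have key : ∀ x : G, t * x * t⁻¹ = t * x * t := fun x => by rw [C.t_inv]
    refine C.FF2_ind (fun x hx => ?_) (fun x hx => ?_) fun y hy g hg => ?_
    · show t * x * t⁻¹ ∈ FF S i W 2
      rw [key]; exact C.W_le_FF (by norm_num) (by norm_num) (C.W_t hx)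
    · show t * x * t⁻¹ ∈ FF S i W 2
      rw [key]; exact C.W_le_FF (by norm_num) (by norm_num) (C.W_t hx)
    · have hg' : t * g * t⁻¹ ∈ FF S i W 2 := hg
      show t * (i y * g * (i y)⁻¹) * t⁻¹ ∈ FF S i W 2
      have h1 := C.P.ti y
      have h2 : (i y)⁻¹ * t⁻¹ = t⁻¹ * (i y)⁻¹ := by rw [← mul_inv_rev, h1, mul_inv_rev]
      have e1 : t * (i y * g * (i y)⁻¹) * t⁻¹ = i y * (t * g * t⁻¹) * (i y)⁻¹ := by
        calc t * (i y * g * (i y)⁻¹) * t⁻¹ = (t * i y) * g * ((i y)⁻¹ * t⁻¹) := by group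
          _ = _ := by rw [h1, h2]; group
      rw [e1]
      exact C.FF_PL hy hg'
  have h1 : t * f * t⁻¹ ∈ FF S i W 2 := h0 hf
  rwa [C.t_inv] at h1

/-- elements of `FF 2` centralise `Q1`, and `[f, t] ∈ Q2` -/
theorem FF2_CE {f : G} (hf : f ∈ FF S i W 2) : (∀ x ∈ S.Q1, f * i x = i x * f) ∧ ∃ y ∈ S.Q2, t * f * t = f * i y := by
  let K : Subgroup G :=
    { carrier := {f | (∀ x ∈ S.Q1, f * i x = i x * f) ∧ ∃ y ∈ S.Q2, t * f * t = f * i y}
      one_mem' := ⟨fun x _ => by rw [one_mul, mul_one], 1, one_mem _, by rw [mul_one, C.P.tt, map_one, mul_one]⟩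
      mul_mem' := by
        rintro a b ⟨ha, ya, hya, ha'⟩ ⟨hb, yb, hyb, hb'⟩
        refine ⟨fun x hx => by rw [mul_assoc, hb x hx, ← mul_assoc, ha x hx, mul_assoc], ya * yb, mul_mem hya hyb, ?_⟩
        have h1 := hb ya (mem_sup_right hya)
        calc t * (a * b) * t = (t * a * t) * (t⁻¹ * t⁻¹) * (t * b * t) := by group
          _ = a * (i ya * b) * i yb := by rw [C.t_inv, C.P.tt, ha', hb']; group
          _ = _ := by rw [← h1, map_mul]; group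
      inv_mem' := by
        rintro a ⟨ha, ya, hya, ha'⟩
        have hi : ∀ x ∈ S.Q1, a⁻¹ * i x = i x * a⁻¹ := fun x hx => by
          have := ha x hx
          calc a⁻¹ * i x = a⁻¹ * (i x * a) * a⁻¹ := by group
            _ = _ := by rw [← this]; group
        refine ⟨hi, ya⁻¹, inv_mem hya, ?_⟩
        have h1 := hi ya⁻¹ (inv_mem (mem_sup_right hya))
        calc t * a⁻¹ * t = (t⁻¹ * a * t⁻¹)⁻¹ := by group
          _ = (a * i ya)⁻¹ := by rw [C.t_inv, ha']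
          _ = i ya⁻¹ * a⁻¹ := by rw [map_inv]; group
          _ = _ := h1.symm }
  have hQ : S.Q1 ≤ S.PL := S.Q1_le_J.trans (J_mono (by norm_num) (by norm_num))
  have : FF S i W 2 ≤ K := by
    refine C.FF2_ind (fun x hx => ?_) (fun x hx => ?_) ?_
    · refine ⟨fun y hy => C.W2_PL hx (hQ hy), ?_⟩
      obtain ⟨z, hz, h⟩ := C.D.comm hx
      obtain ⟨u, rfl⟩ := hz
      exact ⟨_, S.q2_3 u, h⟩
    · refine ⟨fun y hy => C.W3_J hx (J_mono (by norm_num) (by norm_num) (S.Q1_le_J hy)), ?_⟩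
      obtain ⟨z, hz, h⟩ := C.D.comm hx
      obtain ⟨u, rfl⟩ := hz
      exact ⟨_, S.q2_5 u, h⟩
    · rintro y hy g ⟨hg, z, hz, hg'⟩
      refine ⟨fun x hx => ?_, y * z * y⁻¹, (mem_normalizer_iff.1 (S.Q2_norm hy) z).1 hz, ?_⟩
      · have h1 := hg _ (Q1_norm (inv_mem hy) hx)
        rw [inv_inv, map_mul, map_mul, map_inv] at h1
        calc i y * g * (i y)⁻¹ * i x = i y * (g * ((i y)⁻¹ * i x * i y)) * (i y)⁻¹ := by group
          _ = _ := by rw [h1]; group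
      · have h1 := C.P.ti y
        have h2 : (i y)⁻¹ * t = t * (i y)⁻¹ := by
          have := C.P.ti y⁻¹
          rw [map_inv] at this
          exact this.symm
        calc t * (i y * g * (i y)⁻¹) * t = (t * i y) * g * ((i y)⁻¹ * t) := by group
          _ = i y * (t * g * t) * (i y)⁻¹ := by rw [h1, h2]; group
          _ = i y * g * i z * (i y)⁻¹ := by rw [hg']; group
          _ = _ := by rw [map_mul, map_mul, map_inv]; group
  exact this hf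

theorem hF : ∃ c : F, c ≠ 0 ∧ c ≠ 1 := by
  have h1 := C.P.big
  have := C.P.finF
  by_contra hcon
  push Not at hcon
  have h2 : ∀ c : F, c = 0 ∨ c = 1 := fun c => by
    by_cases h : c = 0
    · exact Or.inl h
    · exact Or.inr (hcon c h)
  have h3 : Function.Surjective (fun b : Bool => if b then (1 : F) else 0) := by
    intro c
    rcases h2 c with rfl | rfl
    · exact ⟨false, by simp⟩
    · exact ⟨true, by simp⟩
  have h4 := Nat.card_le_card_of_surjective _ h3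
  have h5 : Nat.card Bool = 2 := by simp
  omega

/-- **`C_{FF 2}(t) = Q2`** -/
theorem FF2_fix {f : G} (hf : f ∈ FF S i W 2) (h : t * f * t = f) : ∃ y ∈ S.Q2, f = i y := by
  have hft : f * t = t * f := by
    calc f * t = (t * f * t) * t := by rw [h]
      _ = t * f * (t * t) := by group
      _ = t * f := by rw [C.P.tt, mul_one]
  have h1 := (C.FF2_CE hf).1
  obtain ⟨y, hy, h2⟩ := C.P.lift (A := (S.Q1 : Set Y)) (a := 2) (fun z hz => by
    obtain ⟨u, rfl⟩ := hz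
    exact mem_sup_right (S.q2_3 u)) hft h1
  have hy' : y ∈ S.Q2 := centralizer_Q1 C.hF fun x hx => (mem_centralizer_iff.1 hy x hx).symm
  refine ⟨y, hy', ?_⟩
  rcases h2 with h2 | h2
  · exact h2
  · exfalso
    obtain ⟨w, hw, h3⟩ := C.D.sur 2 (S.e 2 0 1) ⟨1, rfl⟩
    have h4 := C.FF2_W2 hf hw
    have h5 := C.W2_PL hw (S.Q2_le_J.trans (J_mono (by norm_num) (by norm_num)) hy')
    rw [h2] at h4
    have h6 : t * w = w * t := by
      have : t * w * i y = w * t * i y := by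
        calc t * w * i y = t * (w * i y) := by group
          _ = t * i y * w := by rw [h5]; group
          _ = w * (t * i y) := h4
          _ = _ := by group
      exact mul_right_cancel this
    have h7 : w = w * i (S.e 2 0 1) := by
      rw [← h3, h6, mul_assoc, C.P.tt, mul_one]
    have h8 : i (S.e 2 0 1) = 1 := (mul_eq_left.1 h7.symm)
    have h9 : S.e 2 0 1 = 1 := C.P.inj (by rw [h8, map_one])
    exact one_ne_zero (S.e_eq_one h9).2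

/-- **`[FF 2, t] = Q2`** -/
theorem FF2_sur {y : Y} (hy : y ∈ S.Q2) : ∃ f ∈ FF S i W 2, t * f * t = f * i y := by
  let K : Subgroup Y := tauSub i C.P.tt (FF S i W 2) (fun f hf f' hf' => C.FF2_ab hf hf') (fun f hf => C.FF2_t hf)
  have hK : ∀ z : Y, z ∈ K ↔ ∃ f ∈ FF S i W 2, t * f * t = f * i z := fun z => Iff.rfl
  have hn : ∀ p ∈ S.PL, ∀ z ∈ K, p * z * p⁻¹ ∈ K := by
    rintro p hp z ⟨f, hf, h⟩
    refine ⟨i p * f * (i p)⁻¹, C.FF_PL hp hf, ?_⟩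
    have h1 := C.P.ti p
    have h2 : (i p)⁻¹ * t = t * (i p)⁻¹ := by
      have := C.P.ti p⁻¹
      rw [map_inv] at this
      exact this.symm
    calc t * (i p * f * (i p)⁻¹) * t = (t * i p) * f * ((i p)⁻¹ * t) := by group
      _ = i p * (t * f * t) * (i p)⁻¹ := by rw [h1, h2]; group
      _ = i p * f * i z * (i p)⁻¹ := by rw [h]; group
      _ = _ := by rw [map_mul, map_mul, map_inv]; group
  have hZ : ∀ b : ℤ, 1 ≤ b → b ≤ 3 → ∀ z ∈ S.Zc (b : ZMod 8), z ∈ K := by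
    intro b h1 h2 z hz
    obtain ⟨w, hw, h⟩ := C.D.sur b z hz
    exact ⟨w, C.W_le_FF (by omega) (by omega) hw, h⟩
  have z1 : ∀ u, S.e 1 0 u ∈ K := fun u => hZ 1 le_rfl (by norm_num) _ ⟨u, by push_cast; rfl⟩
  have z2 : ∀ u, S.e 2 0 u ∈ K := fun u => hZ 2 (by norm_num) (by norm_num) _ ⟨u, by push_cast; rfl⟩
  have z3 : ∀ u, S.e 3 0 u ∈ K := fun u => hZ 3 (by norm_num) le_rfl _ ⟨u, by push_cast; rfl⟩
  have o1 : ∀ u, S.o 1 u ∈ K := by
    intro u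
    have h8 : S.e 4 1 0 ∈ S.PL := mem_J (S.mX8 1 0) (by norm_num) le_rfl
    have h1 := hn _ (inv_mem h8) _ (z1 u)
    rw [inv_inv, e1_conj u] at h1
    have e1 : S.o 1 u = (S.e 1 0 u)⁻¹ * (S.e 1 0 u * S.o 1 u * S.e 2 0 (σ u) * S.e 3 0 u) * (S.e 3 0 u)⁻¹ *
        (S.e 2 0 (σ u))⁻¹ := by group
    rw [e1]
    exact mul_mem (mul_mem (mul_mem (inv_mem (z1 u)) h1) (inv_mem (z3 u))) (inv_mem (z2 _))
  have o2 : ∀ u, S.o 2 u ∈ K := by
    intro u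
    have h1 := hn _ S.n2_mem _ (o1 u)
    rw [S.n2_o, show (3 : ZMod 8) - 1 = 2 from rfl] at h1
    exact h1
  exact (S.Q2_le z1 o1 z2 o2 z3) hy

theorem iQ2_le {y : Y} (hy : y ∈ S.Q2) : i y ∈ FF S i W 2 := by
  obtain ⟨f, hf, h⟩ := C.FF2_sur hy
  have e1 : i y = f⁻¹ * (t * f * t) := by rw [h]; group
  rw [e1]; exact mul_mem (inv_mem hf) (C.FF2_t hf)

/-- **`[FF 2, Q] ≤ W 2`** -/
theorem FF2_Q {f : G} (hf : f ∈ FF S i W 2) {x : Y} (hx : x ∈ S.Q) : f * i x * f⁻¹ * (i x)⁻¹ ∈ W 2 := by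
  have Z8 := S.zsys8
  let K : Subgroup G :=
    { carrier := {f | (∀ w ∈ W 2, f * w = w * f) ∧ ∀ x ∈ S.Q, f * i x * f⁻¹ * (i x)⁻¹ ∈ W 2}
      one_mem' := ⟨fun w _ => by rw [one_mul, mul_one], fun x _ => by
        have : (1 : G) * i x * 1⁻¹ * (i x)⁻¹ = 1 := by group
        rw [this]; exact one_mem _⟩
      mul_mem' := by
        rintro a b ⟨ha, ha'⟩ ⟨hb, hb'⟩
        refine ⟨fun w hw => by rw [mul_assoc, hb w hw, ← mul_assoc, ha w hw, mul_assoc], fun x hx => ?_⟩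
        have h1 := hb' x hx
        have h2 := ha _ h1
        have e1 : a * b * i x * (a * b)⁻¹ * (i x)⁻¹ = a * (b * i x * b⁻¹ * (i x)⁻¹) * a⁻¹ * (a * i x * a⁻¹ * (i x)⁻¹) := by
          group
        rw [e1, h2]
        refine mul_mem ?_ (ha' x hx)
        rw [mul_inv_cancel_right]; exact h1
      inv_mem' := by
        rintro a ⟨ha, ha'⟩
        have hi : ∀ w ∈ W 2, a⁻¹ * w = w * a⁻¹ := fun w hw => by
          have := ha w hw
          calc a⁻¹ * w = a⁻¹ * (w * a) * a⁻¹ := by group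
            _ = _ := by rw [← this]; group
        refine ⟨hi, fun x hx => ?_⟩
        have h1 := inv_mem (ha' x hx)
        have h2 := hi _ h1
        have e1 : a⁻¹ * i x * a⁻¹⁻¹ * (i x)⁻¹ = a⁻¹ * (a * i x * a⁻¹ * (i x)⁻¹)⁻¹ * a := by group
        rw [e1, h2, mul_assoc, inv_mul_cancel, mul_one]
        exact h1 }
  have : FF S i W 2 ≤ K := by
    refine C.FF2_ind (fun w hw => ?_) (fun w hw => ?_) ?_
    · refine ⟨fun w' hw' => C.D.ab hw hw', fun x hx => ?_⟩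
      rw [C.W2_PL hw (J_mono (by norm_num) (by norm_num) hx)]
      have : i x * w * w⁻¹ * (i x)⁻¹ = 1 := by group
      rw [this]; exact one_mem _
    · refine ⟨fun w' hw' => (C.W2_W (by norm_num) le_rfl hw' hw).symm, fun x hx => ?_⟩
      obtain ⟨x1, hx1, y, hy, rfl⟩ := Z8.split_ll (a := 1) (b := 7) (by norm_num) (by norm_num) hx
      have h1 := C.W3_J hw (J_mono (a := 1 + 1) (b := 7) (by norm_num) (by norm_num) hy)
      have h2 := C.D.two 2 w hw x1 hx1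
      have e1 : w * i (x1 * y) * w⁻¹ * (i (x1 * y))⁻¹ = w * i x1 * w⁻¹ * (i x1)⁻¹ := by
        rw [map_mul]
        calc w * (i x1 * i y) * w⁻¹ * (i x1 * i y)⁻¹ = w * i x1 * w⁻¹ * (w * i y) * w⁻¹ * (i y)⁻¹ * (i x1)⁻¹ := by group
          _ = _ := by rw [h1]; group
      rw [e1]; exact h2
    · rintro y hy g ⟨hg, hg'⟩
      refine ⟨fun w hw => ?_, fun x hx => ?_⟩
      · have h1 := C.W2_PL hw hy
        have h2 := hg w hw
        calc i y * g * (i y)⁻¹ * w = i y * g * ((i y)⁻¹ * (w * i y)) * (i y)⁻¹ := by group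
          _ = i y * (g * w) * (i y)⁻¹ := by rw [h1]; group
          _ = (i y * w) * g * (i y)⁻¹ := by rw [h2]; group
          _ = _ := by rw [← h1]; group
      · have h1 : y⁻¹ * x * y ∈ S.Q := by
          have := Z8.conj_J (a := 1) (b := 7) (c := 0) (d := 8) (by norm_num) (by norm_num) (by norm_num) (inv_mem hy) hx
          rwa [inv_inv] at this
        have h2 := hg' _ h1
        have h3 := C.W2_PL h2 hy
        have e1 : i y * g * (i y)⁻¹ * i x * (i y * g * (i y)⁻¹)⁻¹ * (i x)⁻¹ =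
            i y * (g * i (y⁻¹ * x * y) * g⁻¹ * (i (y⁻¹ * x * y))⁻¹) * (i y)⁻¹ := by
          rw [map_mul, map_mul, map_inv]; group
        rw [e1, ← h3, mul_inv_cancel_right]
        exact h2
  exact (this hf).2 x hx

end Cx

end Cfsg.Agent.OddHalf.D7TwF4.Fab2

end

-- merged: Cfsg.Agent.OddHalf.D7TwF4.Fab2V
section

/-!
# ODD D7, `K = ²F₄(q)`, `q ≥ 8`: section 2, the doubles of the odd root groups (helper297; text: bb ODD 13028)

`Vd S i W k`: `W (k/2)` for `k` even, the centraliser of `T_k` in `FF (k/2)` for `k` odd; `Cx.vdata : VData S i t W (Vd S i W)`.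
-/

set_option autoImplicit false
set_option linter.unusedSectionVars false

namespace Cfsg.Agent.OddHalf.D7TwF4.Fab2

open Cfsg.Agent.KFacts.TwF4 Cfsg.Agent.SplitTwo.ZS Cfsg.Agent.OddHalf.D7TwF4.Defs
open Subgroup

universe u v w

variable {F : Type w} [Field F] {σ : F →+* F} {Y : Type u} [Group Y] {G : Type v} [Group G]
variable {S : Full σ Y} {i : Y →* G} {t : G} {W : ℤ → Subgroup G}

/-- the double of `Zk S k` -/
def Vd (S : Full σ Y) (i : Y →* G) (W : ℤ → Subgroup G) (k : ℤ) : Subgroup G :=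
  if (2 : ℤ) ∣ k then W (k / 2) else FF S i W (k / 2) ⊓ centralizer ((S.Tk k).map i : Set G)

theorem Vd_even (a : ℤ) : Vd S i W (2 * a) = W a := by
  unfold Vd
  rw [if_pos (Dvd.intro _ rfl), Int.mul_ediv_cancel_left _ (by norm_num)]

theorem mem_Vd_odd (a : ℤ) (f : G) :
    f ∈ Vd S i W (2 * a + 1) ↔ f ∈ FF S i W a ∧ ∀ h ∈ S.Tk (2 * a + 1), i h * f = f * i h := by
  unfold Vd
  rw [if_neg (by omega), show (2 * a + 1) / 2 = a by omega]
  constructor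
  · rintro ⟨h1, h2⟩
    exact ⟨h1, fun h hh => mem_centralizer_iff.1 h2 _ ⟨h, hh, rfl⟩⟩
  · rintro ⟨h1, h2⟩
    refine ⟨h1, mem_centralizer_iff.2 ?_⟩
    rintro _ ⟨h, hh, rfl⟩
    exact h2 h hh

theorem CT_mvs {g : Y} {e c : ℤ} (h : Mvs S g e c) {k : ℤ} {f : G} (hf : ∀ s ∈ S.Tk k, i s * f = f * i s) {s : Y}
    (hs : s ∈ S.Tk (e * k + 2 * c)) : i s * (i g * f * (i g)⁻¹) = (i g * f * (i g)⁻¹) * i s := by
  have h1 := h.inv.Tk _ hs
  rw [show e * (e * k + 2 * c) + 2 * -(e * c) = (e * e) * k by ring, h.ee, one_mul, inv_inv] at h1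
  have h2 := hf _ h1
  rw [map_mul, map_mul, map_inv] at h2
  calc i s * (i g * f * (i g)⁻¹) = i g * (((i g)⁻¹ * i s * i g) * f) * (i g)⁻¹ := by group
    _ = _ := by rw [h2]; group

theorem finite_Y (P : Pos S i t) : Finite Y := by
  have := P.finG
  exact Finite.of_injective _ P.inj

theorem odd_Tk [Finite Y] (S : Full σ Y) (k : ℤ) : Odd (Nat.card (S.Tk k)) := by
  by_contra hcon
  rw [Nat.not_odd_iff_even, even_iff_two_dvd] at hcon
  have : Fact (Nat.Prime 2) := ⟨Nat.prime_two⟩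
  obtain ⟨x, hx⟩ := exists_prime_orderOf_dvd_card' 2 hcon
  obtain ⟨c, d, h⟩ := S.mem_T.1 x.2.1
  have h1 : (x : Y) ^ 2 = 1 := by
    have := pow_orderOf_eq_one x
    rw [hx] at this
    exact congrArg Subtype.val this
  have h2 : S.h c d ^ (2 ^ 1) = 1 := by rw [h, pow_one]; exact h1
  obtain ⟨rfl, rfl⟩ := Cfsg.Agent.KFacts.TwF4.SylU.torus_two S h2
  rw [S.h_one] at h
  have h3 : x = 1 := Subtype.ext h.symm
  rw [h3, orderOf_one] at hx
  norm_num at hx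

namespace Cx

variable (C : Cx S i t W)

include C

theorem tconj (g : Y) {f : G} {y : Y} (h : t * f * t = f * i y) :
    t * (i g * f * (i g)⁻¹) * t = i g * f * (i g)⁻¹ * i (g * y * g⁻¹) := by
  have h1 := C.P.ti g
  have h2 : (i g)⁻¹ * t = t * (i g)⁻¹ := by
    have := C.P.ti g⁻¹
    rw [map_inv] at this
    exact this.symm
  calc t * (i g * f * (i g)⁻¹) * t = (t * i g) * f * ((i g)⁻¹ * t) := by group
    _ = i g * (t * f * t) * (i g)⁻¹ := by rw [h1, h2]; group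
    _ = i g * f * i y * (i g)⁻¹ := by rw [h]; group
    _ = _ := by rw [map_mul, map_mul, map_inv]; group

/-- an element `t y` does not centralise `W 2` -/
theorem no_t {y : Y} (hy : y ∈ S.PL) (hw : ∀ w ∈ W 2, (t * i y) * w = w * (t * i y)) : False := by
  obtain ⟨w, hw', h3⟩ := C.D.sur 2 (S.e 2 0 1) ⟨1, rfl⟩
  have h4 := hw w hw'
  have h5 := C.W2_PL hw' hy
  have h6 : t * w = w * t := by
    have : t * w * i y = w * t * i y := by
      calc t * w * i y = t * (w * i y) := by group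
        _ = t * i y * w := by rw [h5]; group
        _ = w * (t * i y) := h4
        _ = _ := by group
    exact mul_right_cancel this
  have h7 : w = w * i (S.e 2 0 1) := by
    rw [← h3, h6, mul_assoc, C.P.tt, mul_one]
  have h8 : i (S.e 2 0 1) = 1 := (mul_eq_left.1 h7.symm)
  have h9 : S.e 2 0 1 = 1 := C.P.inj (by rw [h8, map_one])
  exact one_ne_zero (S.e_eq_one h9).2

theorem exists_T5 : ∃ h ∈ S.Tk 5, h ≠ 1 := by
  obtain ⟨c, c0, c1⟩ := C.hF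
  have h1 : S.h (Units.mk0 c c0) (Units.mk0 c c0)⁻¹ ∈ S.Tk 1 := S.mem_Tk_one.2 ⟨_, rfl⟩
  refine ⟨S.ck 2 (S.h (Units.mk0 c c0) (Units.mk0 c c0)⁻¹), ?_, fun h => ?_⟩
  · have := S.ck_Tk 2 h1
    rwa [show (1 : ℤ) + 2 * 2 = 5 by norm_num] at this
  · have h2 := (MulEquiv.map_eq_one_iff _).1 h
    rw [← S.h_one] at h2
    exact c1 (congrArg Units.val (S.h_inj _ _ _ _ h2).1)

theorem FF_T {a : ℤ} {h : Y} (hh : h ∈ S.T) {f : G} (hf : f ∈ FF S i W a) : i h * f * (i h)⁻¹ ∈ FF S i W a := by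
  have := C.FF_mvs (mvs_T hh) hf
  rwa [one_mul, add_zero] at this

/-- an element of `Y` commuting with `T_5` -/
theorem mem_X5 {a b : ℤ} (ha : -3 < a) (hb : b < a + 8) (hb' : b < 13) {y : Y} (hy : y ∈ J S.XZ a b)
    (h : ∀ s ∈ S.Tk 5, i s * i y = i y * i s) : y ∈ S.XZ 5 := by
  obtain ⟨s, hs, hs1⟩ := C.exists_T5
  refine S.fix_J (k := 5) hs hs1 (a := a) (b := b) (by omega) (by omega) (by omega) hy ?_
  have h1 : s * y = y * s := C.P.inj (by rw [map_mul, map_mul]; exact h s hs)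
  rw [h1, mul_inv_cancel_right]

theorem mem5 {f : G} : f ∈ Vd S i W 5 ↔ f ∈ FF S i W 2 ∧ ∀ h ∈ S.Tk 5, i h * f = f * i h := by
  have := mem_Vd_odd (S := S) (i := i) (W := W) 2 f
  rwa [show (2 : ℤ) * 2 + 1 = 5 by norm_num] at this

theorem comm5 {f : G} (hf : f ∈ Vd S i W 5) : ∃ y ∈ S.XZ 5, t * f * t = f * i y := by
  obtain ⟨h1, h2⟩ := C.mem5.1 hf
  obtain ⟨y, hy, h3⟩ := (C.FF2_CE h1).2
  refine ⟨y, C.mem_X5 (a := 2) (b := 6) (by norm_num) (by norm_num) (by norm_num) (S.Q2_le_J hy) fun s hs => ?_, h3⟩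
  have e1 : i y = f⁻¹ * (t * f * t) := by rw [h3]; group
  have a1 := h2 s hs
  have a2 := C.P.ti s
  have a3 : i s * f⁻¹ = f⁻¹ * i s := by
    calc i s * f⁻¹ = f⁻¹ * (f * i s) * f⁻¹ := by group
      _ = _ := by rw [← a1]; group
  rw [e1]
  calc i s * (f⁻¹ * (t * f * t)) = (i s * f⁻¹) * t * f * t := by group
    _ = f⁻¹ * (t * i s) * f * t := by rw [a3, a2]; group
    _ = f⁻¹ * t * (i s * f) * t := by group
    _ = f⁻¹ * t * f * (t * i s) := by rw [a1, a2]; group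
    _ = _ := by group

theorem sur5 {y : Y} (hy : y ∈ S.XZ 5) : ∃ f ∈ Vd S i W 5, t * f * t = f * i y := by
  have := finite_Y C.P
  obtain ⟨r, rfl⟩ := S.X5 hy
  obtain ⟨f, hf, h⟩ := C.FF2_sur (S.q2_4 r)
  obtain ⟨f', hf', h1, h2⟩ := exists_avg C.P.tt C.P.ti (A := FF S i W 2) (fun f hf f' hf' => C.FF2_ab hf hf')
    (fun f hf => C.FF2_t hf) (T := S.Tk 5) (odd_Tk S 5) (fun h hh f hf => C.FF_T hh.1 hf) (y := S.o 2 r)
    (by rw [S.o_add, S.add_self, S.o_zero]) (fun s hs => S.Tk_comm hs (S.mX5 r)) hf h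
  exact ⟨f', C.mem5.2 ⟨hf', h1⟩, h2⟩

theorem le5 {y : Y} (hy : y ∈ S.XZ 5) : i y ∈ Vd S i W 5 := by
  obtain ⟨r, rfl⟩ := S.X5 hy
  refine C.mem5.2 ⟨C.iQ2_le (S.q2_4 r), fun s hs => ?_⟩
  rw [← map_mul, ← map_mul, S.Tk_comm hs (S.mX5 r)]

theorem fix5 {f : G} (hf : f ∈ Vd S i W 5) (h : t * f * t = f) : ∃ y ∈ S.XZ 5, f = i y := by
  obtain ⟨h1, h2⟩ := C.mem5.1 hf
  obtain ⟨y, hy, rfl⟩ := C.FF2_fix h1 h
  exact ⟨y, C.mem_X5 (a := 2) (b := 6) (by norm_num) (by norm_num) (by norm_num) (S.Q2_le_J hy) h2, rfl⟩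

/-- the reflection `n1` interchanges `FF 2` and `FF 3` -/
theorem n1_FF {a b : ℤ} (hab : a + b = 5) {f : G} (hf : f ∈ FF S i W a) : i S.n1 * f * (i S.n1)⁻¹ ∈ FF S i W b := by
  have := C.FF_mvs (mvs_n1 S) hf
  rwa [show -1 * a + 5 = b by omega] at this

theorem n1_FF' {a b : ℤ} (hab : a + b = 5) {f : G} (hf : f ∈ FF S i W a) : (i S.n1)⁻¹ * f * i S.n1 ∈ FF S i W b := by
  have := C.FF_mvs (mvs_n1 S).inv hf
  rw [map_inv, inv_inv, show -1 * a + -(-1 * 5) = b by omega] at this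
  exact this

theorem n1_CT {f : G} (hf : ∀ s ∈ S.Tk 5, i s * f = f * i s) : ∀ s ∈ S.Tk 5,
    i s * (i S.n1 * f * (i S.n1)⁻¹) = (i S.n1 * f * (i S.n1)⁻¹) * i s := fun s hs =>
  CT_mvs (mvs_n1 S) hf (by rwa [show (-1 : ℤ) * 5 + 2 * 5 = 5 by norm_num])

theorem n1_CT' {f : G} (hf : ∀ s ∈ S.Tk 5, i s * f = f * i s) : ∀ s ∈ S.Tk 5,
    i s * ((i S.n1)⁻¹ * f * i S.n1) = ((i S.n1)⁻¹ * f * i S.n1) * i s := fun s hs => by
  have := CT_mvs (mvs_n1 S).inv hf (s := s) (by rwa [show (-1 : ℤ) * 5 + 2 * -(-1 * 5) = 5 by norm_num])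
  rwa [map_inv, inv_inv] at this

/-- **`C_{FF 2}(T_5) ≤ FF 3`** -/
theorem V5_le {f : G} (hf : f ∈ Vd S i W 5) : f ∈ FF S i W 3 := by
  obtain ⟨h1, h2⟩ := C.mem5.1 hf
  obtain ⟨y, hy, h3⟩ := C.comm5 hf
  have hy' : S.n1⁻¹ * y * S.n1 ∈ S.XZ 5 := (mvs_n1 S).X' 5 y (by rwa [show (-1 : ℤ) * 5 + 2 * 5 = 5 by norm_num])
  obtain ⟨g, hg, h4⟩ := C.sur5 hy'
  obtain ⟨g1, g2⟩ := C.mem5.1 hg
  have h5 := C.tconj S.n1 h4
  have e1 : S.n1 * (S.n1⁻¹ * y * S.n1) * S.n1⁻¹ = y := by group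
  rw [e1] at h5
  set f' := i S.n1 * g * (i S.n1)⁻¹ with hf'
  have f1 : f' ∈ FF S i W 3 := C.n1_FF (by norm_num) g1
  have f2 : ∀ s ∈ S.Tk 5, i s * f' = f' * i s := C.n1_CT g2
  -- `f` and `f'` centralise `Z_4`, `Z_6`, `y`
  have hy1 : y ∈ S.Q1 := by
    obtain ⟨r, rfl⟩ := S.X5 hy
    exact mem_sup_right (S.q2_4 r)
  have hy1' : S.n1⁻¹ * y * S.n1 ∈ S.Q1 := by
    obtain ⟨r, hr⟩ := S.X5 hy'
    rw [← hr]
    exact mem_sup_right (S.q2_4 r)
  have c1 : f * i y = i y * f := (C.FF2_CE h1).1 y hy1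
  have cn : ∀ x : Y, S.n1⁻¹ * x * S.n1 ∈ S.Q1 → f' * i x = i x * f' := by
    intro x hx
    have h6 := (C.FF2_CE g1).1 _ hx
    rw [map_mul, map_mul, map_inv] at h6
    calc f' * i x = i S.n1 * (g * ((i S.n1)⁻¹ * i x * i S.n1)) * (i S.n1)⁻¹ := by rw [hf']; group
      _ = _ := by rw [h6, hf']; group
  have c2 : f' * i y = i y * f' := cn y hy1'
  have c3 : ∀ x ∈ S.W46, f' * i x = i x * f' := by
    rintro _ ⟨u, v, rfl⟩
    refine cn _ ?_
    have h6 : S.n1⁻¹ * S.e 2 0 u * S.n1 ∈ S.Zc ((3 : ℤ) : ZMod 8) := (mvs_n1 S).Z' 3 _ ⟨u, rfl⟩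
    have h7 : S.n1⁻¹ * S.e 3 0 v * S.n1 ∈ S.Zc ((2 : ℤ) : ZMod 8) := (mvs_n1 S).Z' 2 _ ⟨v, rfl⟩
    obtain ⟨u', hu'⟩ := h6
    obtain ⟨v', hv'⟩ := h7
    have e2 : S.n1⁻¹ * (S.e 2 0 u * S.e 3 0 v) * S.n1 =
        (S.n1⁻¹ * S.e 2 0 u * S.n1) * (S.n1⁻¹ * S.e 3 0 v * S.n1) := by group
    rw [e2, ← hu', ← hv']
    exact mem_sup_right (mul_mem (S.q2_5 u') (S.q2_3 v'))
  have c4 : ∀ x ∈ S.W46, f * i x = i x * f := by
    rintro _ ⟨u, v, rfl⟩
    exact (C.FF2_CE h1).1 _ (mem_sup_right (mul_mem (S.q2_3 u) (S.q2_5 v)))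
  have c5 : ∀ w ∈ W 2, f' * w = w * f' := by
    intro w hw
    have h6 := C.W_mvs (mvs_n1 S).inv hw
    rw [map_inv, inv_inv, show -1 * (2 : ℤ) + -(-1 * 5) = 3 by norm_num] at h6
    have h7 := C.FF2_ab g1 (C.W_le_FF (a := 2) (by norm_num) (by norm_num) h6)
    calc f' * w = i S.n1 * (g * ((i S.n1)⁻¹ * w * i S.n1)) * (i S.n1)⁻¹ := by rw [hf']; group
      _ = _ := by rw [h7, hf']; group
  have inv' : ∀ {a b : G}, a * b = b * a → a⁻¹ * b = b * a⁻¹ := fun {a b} h => by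
    calc a⁻¹ * b = a⁻¹ * (b * a) * a⁻¹ := by group
      _ = _ := by rw [← h]; group
  set c := f⁻¹ * f' with hcdef
  have k1 : c * t = t * c := by
    have e2 : t * c * t = c := by
      calc t * c * t = (t⁻¹ * f * t⁻¹)⁻¹ * (t⁻¹ * f' * t) := by rw [hcdef]; group
        _ = (f * i y)⁻¹ * (f' * i y) := by rw [C.t_inv, h3, h5]
        _ = (i y)⁻¹ * f⁻¹ * (f' * i y) := by group
        _ = f⁻¹ * f' := by rw [c2, inv' (inv' c1).symm]; group
    calc c * t = (t * c * t) * t := by rw [e2]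
      _ = t * c * (t * t) := by group
      _ = t * c := by rw [C.P.tt, mul_one]
  have k2 : ∀ x ∈ (S.W46 : Set Y), c * i x = i x * c := fun x hx => by
    rw [hcdef, mul_assoc, c3 x hx, ← mul_assoc, inv' (c4 x hx), mul_assoc]
  have k3 : ∀ w ∈ W 2, c * w = w * c := fun w hw => by
    rw [hcdef, mul_assoc, c5 w hw, ← mul_assoc, inv' (C.FF2_W2 h1 hw), mul_assoc]
  have k4 : ∀ s ∈ S.Tk 5, i s * c = c * i s := fun s hs => by
    calc i s * c = (i s * f⁻¹) * f' := (mul_assoc _ _ _).symm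
      _ = f⁻¹ * (i s * f') := by rw [← inv' (h2 s hs).symm]; exact mul_assoc _ _ _
      _ = f⁻¹ * (f' * i s) := by rw [f2 s hs]
      _ = _ := (mul_assoc _ _ _).symm
  obtain ⟨z, hz, h6⟩ := C.P.lift (A := (S.W46 : Set Y)) (a := 2) (fun z hz => by
    obtain ⟨u, rfl⟩ := hz
    exact S.Z4_W46 u) k1 k2
  rw [S.centralizer_W46] at hz
  have h7 : c = i z := by
    rcases h6 with h6 | h6
    · exact h6
    · exfalso
      refine C.no_t (J_mono (by norm_num) le_rfl hz) fun w hw => ?_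
      rw [← h6]; exact k3 w hw
  have hz5 : z ∈ S.XZ 5 := C.mem_X5 (a := 2) (b := 8) (by norm_num) (by norm_num) (by norm_num) hz fun s hs => by
    rw [← h7]; exact k4 s hs
  -- `i z ∈ FF 3`
  have hz' : S.n1⁻¹ * z * S.n1 ∈ S.XZ 5 := (mvs_n1 S).X' 5 z (by rwa [show (-1 : ℤ) * 5 + 2 * 5 = 5 by norm_num])
  have h8 := C.n1_FF (a := 2) (b := 3) (by norm_num) (C.mem5.1 (C.le5 hz')).1
  have e3 : i S.n1 * i (S.n1⁻¹ * z * S.n1) * (i S.n1)⁻¹ = i z := by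
    rw [← map_inv, ← map_mul, ← map_mul]
    congr 1
    group
  rw [e3] at h8
  have e4 : f = f' * (i z)⁻¹ := by rw [← h7, hcdef]; group
  rw [e4]
  exact mul_mem f1 (inv_mem h8)

/-- **`C_{FF (b+1)}(T_{2b+1}) = C_{FF b}(T_{2b+1})`** -/
theorem FF_succ {b : ℤ} {f : G} (hf : ∀ s ∈ S.Tk (2 * b + 1), i s * f = f * i s) :
    f ∈ FF S i W (b + 1) ↔ f ∈ FF S i W b := by
  -- rotate to `b = 2`
  have key : ∀ f : G, (∀ s ∈ S.Tk 5, i s * f = f * i s) → (f ∈ FF S i W 3 ↔ f ∈ FF S i W 2) := by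
    intro f hf
    refine ⟨fun h => ?_, fun h => C.V5_le (C.mem5.2 ⟨h, hf⟩)⟩
    have h1 := C.n1_FF' (a := 3) (b := 2) (by norm_num) h
    have h2 := C.V5_le (C.mem5.2 ⟨h1, C.n1_CT' hf⟩)
    have h3 := C.n1_FF (a := 3) (b := 2) (by norm_num) h2
    have e1 : i S.n1 * ((i S.n1)⁻¹ * f * i S.n1) * (i S.n1)⁻¹ = f := by group
    rwa [e1] at h3
  have hm := mvs_rot S (2 - b)
  have hiff : ∀ a : ℤ, f ∈ FF S i W a ↔ i (S.rot ^ (2 - b)) * f * (i (S.rot ^ (2 - b)))⁻¹ ∈ FF S i W (a + (2 - b)) := by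
    intro a
    constructor
    · intro h
      have := C.FF_mvs hm h
      rwa [one_mul] at this
    · intro h
      have := C.FF_mvs hm.inv h
      rw [map_inv, inv_inv, show 1 * (a + (2 - b)) + -(1 * (2 - b)) = a by ring] at this
      have e1 : (i (S.rot ^ (2 - b)))⁻¹ * (i (S.rot ^ (2 - b)) * f * (i (S.rot ^ (2 - b)))⁻¹) * i (S.rot ^ (2 - b)) = f := by
        group
      rwa [e1] at this
  rw [hiff, hiff b, show b + 1 + (2 - b) = 3 by ring, show b + (2 - b) = 2 by ring]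
  refine key _ fun s hs => CT_mvs hm hf ?_
  rwa [show 1 * (2 * b + 1) + 2 * (2 - b) = 5 by ring]

/-- **naturality** -/
theorem Vd_mvs {g : Y} {e c : ℤ} (h : Mvs S g e c) {k : ℤ} {v : G} (hv : v ∈ Vd S i W k) :
    i g * v * (i g)⁻¹ ∈ Vd S i W (e * k + 2 * c) := by
  obtain ⟨a, ha | ha⟩ := Int.even_or_odd' k
  · subst ha
    rw [Vd_even] at hv
    rw [show e * (2 * a) + 2 * c = 2 * (e * a + c) by ring, Vd_even]
    exact C.W_mvs h hv
  · subst ha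
    obtain ⟨h1, h2⟩ := (mem_Vd_odd a v).1 hv
    have h3 := C.FF_mvs h h1
    have h4 : ∀ s ∈ S.Tk (e * (2 * a + 1) + 2 * c), i s * (i g * v * (i g)⁻¹) = i g * v * (i g)⁻¹ * i s :=
      fun s hs => CT_mvs h h2 hs
    rcases h.he with rfl | rfl
    · rw [show 1 * (2 * a + 1) + 2 * c = 2 * (a + c) + 1 by ring] at h4 ⊢
      rw [one_mul] at h3
      exact (mem_Vd_odd _ _).2 ⟨h3, h4⟩
    · rw [show -1 * (2 * a + 1) + 2 * c = 2 * (c - a - 1) + 1 by ring] at h4 ⊢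
      refine (mem_Vd_odd _ _).2 ⟨?_, h4⟩
      rw [← C.FF_succ h4]
      rwa [show -1 * a + c = c - a - 1 + 1 by ring] at h3

theorem Vd_iff {g : Y} {e c : ℤ} (h : Mvs S g e c) (k : ℤ) (v : G) :
    v ∈ Vd S i W k ↔ i g * v * (i g)⁻¹ ∈ Vd S i W (e * k + 2 * c) := by
  refine ⟨fun hv => C.Vd_mvs h hv, fun hv => ?_⟩
  have := C.Vd_mvs h.inv hv
  rw [map_inv, inv_inv, show e * (e * k + 2 * c) + 2 * -(e * c) = (e * e) * k by ring, h.ee, one_mul] at this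
  have e1 : (i g)⁻¹ * (i g * v * (i g)⁻¹) * i g = v := by group
  rwa [e1] at this

/-- transport from `V 5` -/
theorem rot5 (a : ℤ) {v : G} (hv : v ∈ Vd S i W (2 * a + 1)) :
    i (S.rot ^ (2 - a)) * v * (i (S.rot ^ (2 - a)))⁻¹ ∈ Vd S i W 5 := by
  have := C.Vd_mvs (mvs_rot S (2 - a)) hv
  rwa [show 1 * (2 * a + 1) + 2 * (2 - a) = 5 by ring] at this

theorem rot5' (a : ℤ) {v : G} (hv : v ∈ Vd S i W 5) :
    (i (S.rot ^ (2 - a)))⁻¹ * v * i (S.rot ^ (2 - a)) ∈ Vd S i W (2 * a + 1) := by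
  have := C.Vd_mvs (mvs_rot S (2 - a)).inv hv
  rw [map_inv, inv_inv, show 1 * (5 : ℤ) + 2 * -(1 * (2 - a)) = 2 * a + 1 by ring] at this
  exact this

theorem comm_odd (a : ℤ) {v : G} (hv : v ∈ Vd S i W (2 * a + 1)) : ∃ y ∈ S.XZ (2 * a + 1), t * v * t = v * i y := by
  obtain ⟨y, hy, h⟩ := C.comm5 (C.rot5 a hv)
  have h1 := C.tconj (S.rot ^ (2 - a))⁻¹ h
  have e1 : i (S.rot ^ (2 - a))⁻¹ * (i (S.rot ^ (2 - a)) * v * (i (S.rot ^ (2 - a)))⁻¹) * (i (S.rot ^ (2 - a))⁻¹)⁻¹ = v := by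
    rw [map_inv]; group
  rw [e1] at h1
  refine ⟨_, ?_, h1⟩
  rw [inv_inv]
  exact (mvs_rot S (2 - a)).X' _ y (by rwa [show 1 * (2 * a + 1) + 2 * (2 - a) = 5 by ring])

theorem sur_odd (a : ℤ) {y : Y} (hy : y ∈ S.XZ (2 * a + 1)) : ∃ v ∈ Vd S i W (2 * a + 1), t * v * t = v * i y := by
  have h0 := (mvs_rot S (2 - a)).X _ y hy
  rw [show 1 * (2 * a + 1) + 2 * (2 - a) = 5 by ring] at h0
  obtain ⟨v, hv, h⟩ := C.sur5 h0
  have h1 := C.tconj (S.rot ^ (2 - a))⁻¹ h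
  have e1 : (S.rot ^ (2 - a))⁻¹ * (S.rot ^ (2 - a) * y * (S.rot ^ (2 - a))⁻¹) * (S.rot ^ (2 - a))⁻¹⁻¹ = y := by group
  rw [e1, map_inv, inv_inv] at h1
  exact ⟨_, C.rot5' a hv, h1⟩

theorem le_odd (a : ℤ) {y : Y} (hy : y ∈ S.XZ (2 * a + 1)) : i y ∈ Vd S i W (2 * a + 1) := by
  have h0 := (mvs_rot S (2 - a)).X _ y hy
  rw [show 1 * (2 * a + 1) + 2 * (2 - a) = 5 by ring] at h0
  have h1 := C.rot5' a (C.le5 h0)
  have e1 : (i (S.rot ^ (2 - a)))⁻¹ * i (S.rot ^ (2 - a) * y * (S.rot ^ (2 - a))⁻¹) * i (S.rot ^ (2 - a)) = i y := by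
    rw [← map_inv, ← map_mul, ← map_mul]
    congr 1
    group
  rwa [e1] at h1

theorem fix_odd (a : ℤ) {v : G} (hv : v ∈ Vd S i W (2 * a + 1)) (h : t * v * t = v) :
    ∃ y ∈ S.XZ (2 * a + 1), v = i y := by
  obtain ⟨y, hy, h1⟩ := C.fix5 (C.rot5 a hv) (by
    have := C.tconj (S.rot ^ (2 - a)) (f := v) (y := 1) (by rw [map_one, mul_one]; exact h)
    rw [mul_one, mul_inv_cancel, map_one, mul_one] at this
    exact this)
  refine ⟨(S.rot ^ (2 - a))⁻¹ * y * S.rot ^ (2 - a), ?_, ?_⟩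
  · exact (mvs_rot S (2 - a)).X' _ y (by rwa [show 1 * (2 * a + 1) + 2 * (2 - a) = 5 by ring])
  · rw [map_mul, map_mul, map_inv, ← h1]; group

theorem ab_odd (a : ℤ) {v v' : G} (hv : v ∈ Vd S i W (2 * a + 1)) (hv' : v' ∈ Vd S i W (2 * a + 1)) :
    v * v' = v' * v := by
  have h := C.FF2_ab (C.mem5.1 (C.rot5 a hv)).1 (C.mem5.1 (C.rot5 a hv')).1
  set r := i (S.rot ^ (2 - a))
  calc v * v' = r⁻¹ * ((r * v * r⁻¹) * (r * v' * r⁻¹)) * r := by group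
    _ = _ := by rw [h]; group

theorem sq_odd (a : ℤ) {v : G} (hv : v ∈ Vd S i W (2 * a + 1)) : v * v = 1 := by
  have h := C.FF2_sq (C.mem5.1 (C.rot5 a hv)).1
  set r := i (S.rot ^ (2 - a))
  calc v * v = r⁻¹ * ((r * v * r⁻¹) * (r * v * r⁻¹)) * r := by group
    _ = 1 := by rw [h]; group

theorem comm_all (k : ℤ) {v : G} (hv : v ∈ Vd S i W k) : ∃ y ∈ Zk S k, t * v * t = v * i y := by
  obtain ⟨a, ha | ha⟩ := Int.even_or_odd' k
  · subst ha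
    rw [Vd_even] at hv
    rw [Zk_even]; exact C.D.comm hv
  · subst ha
    rw [Zk_odd]; exact C.comm_odd a hv

theorem le_all (k : ℤ) {y : Y} (hy : y ∈ Zk S k) : i y ∈ Vd S i W k := by
  obtain ⟨a, ha | ha⟩ := Int.even_or_odd' k
  · subst ha
    rw [Zk_even] at hy
    rw [Vd_even]; exact C.W_Z hy
  · subst ha
    rw [Zk_odd] at hy
    exact C.le_odd a hy

theorem sur_all (k : ℤ) {y : Y} (hy : y ∈ Zk S k) : ∃ v ∈ Vd S i W k, t * v * t = v * i y := by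
  obtain ⟨a, ha | ha⟩ := Int.even_or_odd' k
  · subst ha
    rw [Zk_even] at hy
    rw [Vd_even]; exact C.D.sur a y hy
  · subst ha
    rw [Zk_odd] at hy
    exact C.sur_odd a hy

/-- `C_W(t) = Z` -/
theorem W_fix {a : ℤ} {w : G} (hw : w ∈ W a) (h : t * w * t = w) : ∃ z ∈ S.Zc (a : ZMod 8), w = i z := by
  have hm := mvs_rot S (2 - a)
  have h1 := C.W_mvs hm hw
  rw [show 1 * a + (2 - a) = 2 by ring] at h1
  obtain ⟨y, hy, h2⟩ := C.FF2_fix (C.W_le_FF (by norm_num) (by norm_num) h1) (by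
    have := C.tconj (S.rot ^ (2 - a)) (f := w) (y := 1) (by rw [map_one, mul_one]; exact h)
    rw [mul_one, mul_inv_cancel, map_one, mul_one] at this
    exact this)
  -- `y` is centralised by `PL`
  have h3 : y ∈ S.Zc 2 := by
    refine S.center_PL fun x hx => ?_
    have h4 := C.W2_PL h1 hx
    rw [h2] at h4
    exact C.P.inj (by rw [map_mul, map_mul]; exact h4)
  refine ⟨(S.rot ^ (2 - a))⁻¹ * y * S.rot ^ (2 - a), ?_, ?_⟩
  · exact hm.Z' a y (by rw [show 1 * a + (2 - a) = 2 by ring]; exact h3)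
  · rw [map_mul, map_mul, map_inv, ← h2]; group

theorem V_le_FF2 {j : ℤ} (h1 : 2 ≤ j) (h2 : j ≤ 6) : Vd S i W j ≤ FF S i W 2 := by
  have : j = 2 * 1 ∨ j = 2 * 1 + 1 ∨ j = 2 * 2 ∨ j = 2 * 2 + 1 ∨ j = 2 * 3 := by omega
  rcases this with rfl | rfl | rfl | rfl | rfl
  · rw [Vd_even]; exact C.W_le_FF (by norm_num) (by norm_num)
  · intro v hv
    obtain ⟨h3, h4⟩ := (mem_Vd_odd 1 v).1 hv
    exact (C.FF_succ h4).2 h3
  · rw [Vd_even]; exact C.W_le_FF (by norm_num) (by norm_num)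
  · intro v hv
    exact ((mem_Vd_odd 2 v).1 hv).1
  · rw [Vd_even]; exact C.W_le_FF (by norm_num) (by norm_num)

/-- **`FF 2 = V 2 V 3 V 4 V 5 V 6`** -/
theorem FF2_eq : FF S i W 2 = Vd S i W 2 ⊔ Vd S i W 3 ⊔ Vd S i W 4 ⊔ Vd S i W 5 ⊔ Vd S i W 6 := by
  set R := Vd S i W 2 ⊔ Vd S i W 3 ⊔ Vd S i W 4 ⊔ Vd S i W 5 ⊔ Vd S i W 6 with hR
  have hle : R ≤ FF S i W 2 := sup_le (sup_le (sup_le (sup_le (C.V_le_FF2 (by norm_num) (by norm_num))
    (C.V_le_FF2 (by norm_num) (by norm_num))) (C.V_le_FF2 (by norm_num) (by norm_num)))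
    (C.V_le_FF2 (by norm_num) (by norm_num))) (C.V_le_FF2 (by norm_num) (by norm_num))
  apply le_antisymm _ hle
  have v2 : Vd S i W 2 ≤ R := le_sup_of_le_left (le_sup_of_le_left (le_sup_of_le_left le_sup_left))
  have v3 : Vd S i W 3 ≤ R := le_sup_of_le_left (le_sup_of_le_left (le_sup_of_le_left le_sup_right))
  have v4 : Vd S i W 4 ≤ R := le_sup_of_le_left (le_sup_of_le_left le_sup_right)
  have v5 : Vd S i W 5 ≤ R := le_sup_of_le_left le_sup_right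
  have v6 : Vd S i W 6 ≤ R := le_sup_right
  have tV : ∀ k : ℤ, ∀ v ∈ Vd S i W k, t * v * t ∈ Vd S i W k := by
    intro k v hv
    obtain ⟨y, hy, h⟩ := C.comm_all k hv
    rw [h]; exact mul_mem hv (C.le_all k hy)
  have tR : ∀ f ∈ R, t * f * t ∈ R := by
    intro f hf
    have key : ∀ k : ℤ, Vd S i W k ≤ R → Vd S i W k ≤ R.comap (MulAut.conj t).toMonoidHom := by
      intro k hk v hv
      show t * v * t⁻¹ ∈ R
      rw [C.t_inv]; exact hk (tV k v hv)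
    have : R ≤ R.comap (MulAut.conj t).toMonoidHom := by
      conv_lhs => rw [hR]
      exact sup_le (sup_le (sup_le (sup_le (key 2 v2) (key 3 v3)) (key 4 v4)) (key 5 v5)) (key 6 v6)
    have h1 : t * f * t⁻¹ ∈ R := this hf
    rwa [C.t_inv] at h1
  let K : Subgroup Y := tauSub i C.P.tt R (fun f hf f' hf' => C.FF2_ab (hle hf) (hle hf')) tR
  have hK : ∀ k : ℤ, Vd S i W k ≤ R → ∀ y ∈ Zk S k, y ∈ K := by
    intro k hk y hy
    obtain ⟨v, hv, h⟩ := C.sur_all k hy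
    exact ⟨v, hk hv, h⟩
  have e2 : ∀ u, S.e 1 0 u ∈ Zk S 2 := fun u => by
    have := Zk_even S 1
    rw [show (2 : ℤ) * 1 = 2 by norm_num] at this
    rw [this]; exact ⟨u, by push_cast; rfl⟩
  have e3 : ∀ u, S.o 1 u ∈ Zk S 3 := fun u => by
    have := Zk_odd S 1
    rw [show (2 : ℤ) * 1 + 1 = 3 by norm_num] at this
    rw [this]; exact S.mX3 u
  have e4 : ∀ u, S.e 2 0 u ∈ Zk S 4 := fun u => by
    have := Zk_even S 2
    rw [show (2 : ℤ) * 2 = 4 by norm_num] at this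
    rw [this]; exact ⟨u, by push_cast; rfl⟩
  have e5 : ∀ u, S.o 2 u ∈ Zk S 5 := fun u => by
    have := Zk_odd S 2
    rw [show (2 : ℤ) * 2 + 1 = 5 by norm_num] at this
    rw [this]; exact S.mX5 u
  have e6 : ∀ u, S.e 3 0 u ∈ Zk S 6 := fun u => by
    have := Zk_even S 3
    rw [show (2 : ℤ) * 3 = 6 by norm_num] at this
    rw [this]; exact ⟨u, by push_cast; rfl⟩
  have hQK : S.Q2 ≤ K := S.Q2_le (fun u => hK 2 v2 _ (e2 u)) (fun u => hK 3 v3 _ (e3 u)) (fun u => hK 4 v4 _ (e4 u))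
    (fun u => hK 5 v5 _ (e5 u)) (fun u => hK 6 v6 _ (e6 u))
  have hQR : ∀ y ∈ S.Q2, i y ∈ R := by
    have : S.Q2 ≤ R.comap i := S.Q2_le (fun u => v2 (C.le_all 2 (e2 u))) (fun u => v3 (C.le_all 3 (e3 u)))
      (fun u => v4 (C.le_all 4 (e4 u))) (fun u => v5 (C.le_all 5 (e5 u))) (fun u => v6 (C.le_all 6 (e6 u)))
    exact fun y hy => this hy
  intro f hf
  obtain ⟨y, hy, h⟩ := (C.FF2_CE hf).2
  obtain ⟨f', hf', h'⟩ := hQK hy
  have a1 := (C.FF2_CE hf).1 y (mem_sup_right hy)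
  have a2 := (C.FF2_CE (hle hf')).1 y (mem_sup_right hy)
  obtain ⟨z, hz, h2⟩ := C.FF2_fix (f := f'⁻¹ * f) (mul_mem (inv_mem (hle hf')) hf) (by
    have a3 : f'⁻¹ * i y = i y * f'⁻¹ := by
      calc f'⁻¹ * i y = f'⁻¹ * (i y * f') * f'⁻¹ := by group
        _ = _ := by rw [← a2]; group
    calc t * (f'⁻¹ * f) * t = (t⁻¹ * f' * t⁻¹)⁻¹ * (t⁻¹ * f * t) := by group
      _ = (f' * i y)⁻¹ * (f * i y) := by rw [C.t_inv, h, h']
      _ = (i y)⁻¹ * (f'⁻¹ * i y) * f := by rw [a1]; group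
      _ = f'⁻¹ * f := by rw [a3]; group)
  have e7 : f = f' * i z := by rw [← h2]; group
  rw [e7]
  exact mul_mem hf' (hQR z hz)

/-- **The output of section 2.** -/
theorem vdata : VData S i t W (Vd S i W) where
  even := Vd_even
  ab k v hv v' hv' := by
    obtain ⟨a, ha | ha⟩ := Int.even_or_odd' k
    · subst ha
      rw [Vd_even] at hv hv'
      exact C.D.ab hv hv'
    · subst ha
      exact C.ab_odd a hv hv'
  sq k v hv := by
    obtain ⟨a, ha | ha⟩ := Int.even_or_odd' k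
    · subst ha
      rw [Vd_even] at hv
      exact C.D.sq hv
    · subst ha
      exact C.sq_odd a hv
  tinv k v hv := by
    obtain ⟨y, hy, h⟩ := C.comm_all k hv
    rw [h]; exact mul_mem hv (C.le_all k hy)
  fix k v hv h := by
    obtain ⟨a, ha | ha⟩ := Int.even_or_odd' k
    · subst ha
      rw [Vd_even] at hv
      rw [Zk_even]
      exact C.W_fix hv h
    · subst ha
      rw [Zk_odd]
      exact C.fix_odd a hv h
  le k y hy := C.le_all k hy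
  comm k v hv := C.comm_all k hv
  sur k y hy := C.sur_all k hy
  tor k h hh v hv := by
    have := C.Vd_mvs (mvs_T hh) hv
    rwa [one_mul, mul_zero, add_zero] at this
  torc k h hh v hv := by
    obtain ⟨a, ha | ha⟩ := Int.even_or_odd' k
    · subst ha
      rw [Vd_even] at hv
      exact (C.D.cent hv fun z hz => S.Tk_comm hh (S.Zc_le a hz)).symm
    · subst ha
      exact ((mem_Vd_odd a v).1 hv).2 h hh
  rot m k v := by
    have := C.Vd_iff (mvs_rot S m) k v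
    rwa [one_mul] at this
  n1 k v := by
    have := C.Vd_iff (mvs_n1 S) k v
    rwa [show -1 * k + 2 * 5 = 10 - k by ring] at this
  n2 k v := by
    have := C.Vd_iff (mvs_n2 S) k v
    rwa [show -1 * k + 2 * 4 = 8 - k by ring] at this
  cm j k h1 h2 h3 h4 v hv v' hv' := C.FF2_ab (C.V_le_FF2 h1 h2 hv) (C.V_le_FF2 h3 h4 hv')
  x4 j h1 h2 v hv x hx := (C.FF2_CE (C.V_le_FF2 h1 h2 hv)).1 x (mem_sup_left hx)
  v4 v hv k h1 h2 x hx := by
    have := Vd_even (S := S) (i := i) (W := W) 2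
    rw [show (2 : ℤ) * 2 = 4 by norm_num] at this
    rw [this] at hv
    exact C.W2_PL hv (mem_J hx h1 h2)
  cl j k h1 h2 h3 h4 v hv x hx := by
    have := Vd_even (S := S) (i := i) (W := W) 2
    rw [show (2 : ℤ) * 2 = 4 by norm_num] at this
    rw [this]
    exact C.FF2_Q (C.V_le_FF2 h1 h2 hv) (mem_J hx h3 h4)
  x8 k h1 h2 x hx v hv := by
    rw [← C.FF2_eq] at hv ⊢
    exact C.FF_PL (mem_J hx h1 h2) hv

end Cx

end Cfsg.Agent.OddHalf.D7TwF4.Fab2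

end

-- merged: Cfsg.Agent.OddHalf.D7TwF4.Growth.WOf
section

/-!
# Growth for `²F₄(q)`: the fields of `Gen`, `Base` about the doubled groups (helper297)

* `wgen`, `wbase` : `WGen`, `WBase` of the doubles `Vd S i W k`, from `Cx S i t W`;
* `mvs_refl`, `mem_XG_iff`, `mem_YG_iff`, `mem_TG_iff`, `mem_WG_iff` : the action of the elements moving the root groups.
-/

set_option autoImplicit false
set_option linter.unusedSectionVars false

namespace Cfsg.Agent.OddHalf.D7TwF4.Growth.WOf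

open Cfsg.Agent.KFacts.TwF4 Cfsg.Agent.SplitTwo.ZS Cfsg.Agent.OddHalf.D7TwF4.Defs
open Cfsg.Agent.OddHalf.D7TwF4.Fab2 Cfsg.Agent.OddHalf.D7TwF4.Growth.Defs
open Cfsg.Agent.OddHalf.D7TwF4.Growth.KInst

universe u v w

variable {F : Type w} [Field F] {σ : F →+* F} {Y : Type u} [Group Y] {G : Type v} [Group G]
variable {S : Full σ Y} {i : Y →* G} {t : G} {W : ℤ → Subgroup G}

theorem Zk_eq (S : Full σ Y) (k : ℤ) : Zk S k = YZ S k := by
  obtain ⟨a, ha | ha⟩ := Int.even_or_odd' k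
  · subst ha; rw [Zk_even, YZ_even]
  · subst ha; rw [Zk_odd, YZ_odd]

/-! ### the elements of `Y` moving the root groups -/

theorem _root_.Cfsg.Agent.OddHalf.D7TwF4.Fab2.Mvs.mul {g g' : Y} {e c e' c' : ℤ} (h : Mvs S g e c) (h' : Mvs S g' e' c') :
    Mvs S (g * g') (e * e') (e * c' + c) where
  he := by rcases h.he with rfl | rfl <;> rcases h'.he with rfl | rfl <;> norm_num
  X j x hx := by
    have h1 := h.X _ _ (h'.X j x hx)
    rw [show e * (e' * j + 2 * c') + 2 * c = e * e' * j + 2 * (e * c' + c) by ring] at h1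
    have e1 : g * (g' * x * g'⁻¹) * g⁻¹ = g * g' * x * (g * g')⁻¹ := by group
    rwa [e1] at h1
  X' j x hx := by
    rw [show e * e' * j + 2 * (e * c' + c) = e * (e' * j + 2 * c') + 2 * c by ring] at hx
    have h1 := h'.X' j _ (h.X' _ x hx)
    have e1 : g'⁻¹ * (g⁻¹ * x * g) * g' = (g * g')⁻¹ * x * (g * g') := by group
    rwa [e1] at h1
  Z a x hx := by
    have h1 := h.Z _ _ (h'.Z a x hx)
    rw [show e * (e' * a + c') + c = e * e' * a + (e * c' + c) by ring] at h1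
    have e1 : g * (g' * x * g'⁻¹) * g⁻¹ = g * g' * x * (g * g')⁻¹ := by group
    rwa [e1] at h1
  Z' a x hx := by
    rw [show e * e' * a + (e * c' + c) = e * (e' * a + c') + c by ring] at hx
    have h1 := h'.Z' a _ (h.Z' _ x hx)
    have e1 : g'⁻¹ * (g⁻¹ * x * g) * g' = (g * g')⁻¹ * x * (g * g') := by group
    rwa [e1] at h1

/-- the reflection `k ↦ 2 c - k` -/
theorem mvs_refl (S : Full σ Y) (c : ℤ) : Mvs S (S.rot ^ (c - 4) * S.n2) (-1) c := by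
  have h := (mvs_rot S (c - 4)).mul (mvs_n2 S)
  rwa [show (1 : ℤ) * -1 = -1 by norm_num, show 1 * 4 + (c - 4) = c by ring] at h

theorem iff_map {g : Y} {A B : Subgroup Y} (h1 : ∀ x ∈ A, g * x * g⁻¹ ∈ B) (h2 : ∀ x ∈ B, g⁻¹ * x * g ∈ A) (x : G) :
    x ∈ A.map i ↔ i g * x * (i g)⁻¹ ∈ B.map i := by
  constructor
  · rintro ⟨y, hy, rfl⟩
    exact ⟨_, h1 y hy, by rw [map_mul, map_mul, map_inv]⟩
  · rintro ⟨y, hy, h⟩
    refine ⟨_, h2 y hy, ?_⟩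
    rw [map_mul, map_mul, map_inv, h]; group

theorem mem_XG_iff {g : Y} {e c : ℤ} (h : Mvs S g e c) (k : ℤ) (x : G) :
    x ∈ (S.XZ k).map i ↔ i g * x * (i g)⁻¹ ∈ (S.XZ (e * k + 2 * c)).map i := iff_map (h.X k) (h.X' k) x

theorem Zk_mvs {g : Y} {e c : ℤ} (h : Mvs S g e c) {k : ℤ} {x : Y} (hx : x ∈ Zk S k) :
    g * x * g⁻¹ ∈ Zk S (e * k + 2 * c) := by
  obtain ⟨a, ha | ha⟩ := Int.even_or_odd' k
  · subst ha
    rw [Zk_even] at hx
    rw [show e * (2 * a) + 2 * c = 2 * (e * a + c) by ring, Zk_even]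
    exact h.Z a x hx
  · subst ha
    rw [Zk_odd] at hx
    have h1 := h.X _ x hx
    rcases h.he with rfl | rfl
    · rw [show 1 * (2 * a + 1) + 2 * c = 2 * (a + c) + 1 by ring] at h1 ⊢
      rwa [Zk_odd]
    · rw [show -1 * (2 * a + 1) + 2 * c = 2 * (c - a - 1) + 1 by ring] at h1 ⊢
      rwa [Zk_odd]

theorem Zk_mvs' {g : Y} {e c : ℤ} (h : Mvs S g e c) {k : ℤ} {x : Y} (hx : x ∈ Zk S (e * k + 2 * c)) :
    g⁻¹ * x * g ∈ Zk S k := by
  have h1 := Zk_mvs h.inv hx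
  rwa [inv_inv, show e * (e * k + 2 * c) + 2 * -(e * c) = (e * e) * k by ring, h.ee, one_mul] at h1

theorem mem_YG_iff {g : Y} {e c : ℤ} (h : Mvs S g e c) (k : ℤ) (x : G) :
    x ∈ (YZ S k).map i ↔ i g * x * (i g)⁻¹ ∈ (YZ S (e * k + 2 * c)).map i := by
  rw [← Zk_eq, ← Zk_eq]
  exact iff_map (fun _ hx => Zk_mvs h hx) (fun _ hx => Zk_mvs' h hx) x

theorem mem_TG_iff {g : Y} {e c : ℤ} (h : Mvs S g e c) (k : ℤ) (x : G) :
    x ∈ (S.Tk k).map i ↔ i g * x * (i g)⁻¹ ∈ (S.Tk (e * k + 2 * c)).map i := by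
  refine iff_map (fun _ hx => h.Tk k hx) (fun x hx => ?_) x
  have h1 := h.inv.Tk _ hx
  rwa [inv_inv, show e * (e * k + 2 * c) + 2 * -(e * c) = (e * e) * k by ring, h.ee, one_mul] at h1

/-! ### `WGen`, `WBase` -/

section fields

variable (C : Cx S i t W)

include C

theorem mem_WG_iff {g : Y} {e c : ℤ} (h : Mvs S g e c) (k : ℤ) (x : G) :
    x ∈ Vd S i W k ↔ i g * x * (i g)⁻¹ ∈ Vd S i W (e * k + 2 * c) := C.Vd_iff h k x

theorem tau_i (y : Y) : (MulAut.conj t).toMonoidHom (i y) = i y := by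
  show t * i y * t⁻¹ = i y
  rw [C.P.ti, mul_inv_cancel_right]

theorem tau_eq (x : G) : (MulAut.conj t).toMonoidHom x = t * x * t := by
  show t * x * t⁻¹ = _
  rw [C.t_inv]

/-- **the fields of `Gen` about the doubles.** -/
theorem wgen : WGen (MulAut.conj t).toMonoidHom (fun k => (YZ S k).map i) (Vd S i W) (fun k => (S.Tk k).map i) where
  YW k := by
    rintro _ ⟨y, hy, rfl⟩
    exact C.vdata.le k y (by rw [Zk_eq]; exact hy)
  Wab k v hv v' hv' := C.vdata.ab k v hv v' hv'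
  Wsq k v hv := C.vdata.sq k v hv
  Wt k v hv := by rw [tau_eq C]; exact C.vdata.tinv k v hv
  Wf k v hv h := by
    rw [tau_eq C] at h
    obtain ⟨y, hy, rfl⟩ := C.vdata.fix k v hv h
    exact ⟨y, by rw [← Zk_eq]; exact hy, rfl⟩
  Ws k := by
    rintro _ ⟨y, hy, rfl⟩
    obtain ⟨v, hv, e⟩ := C.vdata.sur k y (by rw [Zk_eq]; exact hy)
    exact ⟨v, hv, by rw [tau_eq C, e, inv_mul_cancel_left]⟩
  TW j k := by
    rintro _ ⟨h, hh, rfl⟩ v hv
    exact C.vdata.tor k h hh.1 v hv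
  TWc k := by
    rintro _ ⟨h, hh, rfl⟩ v hv
    exact C.vdata.torc k h hh v hv

theorem mem_Q2 {v : G} : v ∈ Q2 (fun k => Vd S i W (4 + k)) ↔
    v ∈ Vd S i W 2 ⊔ Vd S i W 3 ⊔ Vd S i W 4 ⊔ Vd S i W 5 ⊔ Vd S i W 6 := by
  have e : Q2 (fun k => Vd S i W (4 + k)) =
      Vd S i W 4 ⊔ Vd S i W 5 ⊔ Vd S i W 6 ⊔ Vd S i W 3 ⊔ Vd S i W 2 := rfl
  rw [e, show Vd S i W 4 ⊔ Vd S i W 5 ⊔ Vd S i W 6 ⊔ Vd S i W 3 ⊔ Vd S i W 2 =
    Vd S i W 2 ⊔ Vd S i W 3 ⊔ Vd S i W 4 ⊔ Vd S i W 5 ⊔ Vd S i W 6 by ac_rfl]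

/-- **the fields of `Base` about the doubles, without `w24`, `tri`.** -/
theorem wbase : WBase (fun k => (S.XZ (4 + k)).map i) (fun k => Vd S i W (4 + k)) := by
  have D := C.vdata
  have hcl : ∀ j k : ℤ, 2 ≤ j → j ≤ 6 → 1 ≤ k → k ≤ 7 → Cl (Vd S i W j) ((S.XZ k).map i) (Vd S i W 4) := by
    rintro j k h1 h2 h3 h4 v hv _ ⟨x, hx, rfl⟩
    exact D.cl j k h1 h2 h3 h4 v hv x hx
  have hx4 : ∀ j : ℤ, 2 ≤ j → j ≤ 6 → Cm ((S.XZ 4).map i) (Vd S i W j) := by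
    rintro j h1 h2 _ ⟨x, hx, rfl⟩ v hv
    exact (D.x4 j h1 h2 v hv x hx).symm
  have hv4 : ∀ k : ℤ, 0 ≤ k → k ≤ 8 → Cm ((S.XZ k).map i) (Vd S i W 4) := by
    rintro k h1 h2 _ ⟨x, hx, rfl⟩ v hv
    exact (D.v4 v hv k h1 h2 x hx).symm
  have hcm : ∀ j k : ℤ, 2 ≤ j → j ≤ 6 → 2 ≤ k → k ≤ 6 → Cm (Vd S i W j) (Vd S i W k) :=
    fun j k h1 h2 h3 h4 v hv v' hv' => D.cm j k h1 h2 h3 h4 v hv v' hv'
  have hin : ∀ j : ℤ, 2 ≤ j → j ≤ 3 → ∀ v ∈ Vd S i W j,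
      v ∈ Vd S i W 2 ⊔ Vd S i W 3 ⊔ Vd S i W 4 ⊔ Vd S i W 5 ⊔ Vd S i W 6 := by
    intro j h1 h2 v hv
    interval_cases j
    · exact Subgroup.mem_sup_left (Subgroup.mem_sup_left (Subgroup.mem_sup_left (Subgroup.mem_sup_left hv)))
    · exact Subgroup.mem_sup_left (Subgroup.mem_sup_left (Subgroup.mem_sup_left (Subgroup.mem_sup_right hv)))
  have ha : ∀ j : ℤ, 2 ≤ j → j ≤ 3 → Cl (Vd S i W j) ((S.XZ 8).map i) (Q2 (fun k => Vd S i W (4 + k))) := by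
    rintro j h1 h2 v hv _ ⟨x, hx, rfl⟩
    rw [mem_Q2 C]
    have e1 : v * i x * v⁻¹ * (i x)⁻¹ = v * (i x * v⁻¹ * (i x)⁻¹) := by group
    rw [e1]
    exact mul_mem (hin j h1 h2 v hv) (D.x8 8 (by norm_num) le_rfl x hx _ (inv_mem (hin j h1 h2 v hv)))
  exact
    { w01 := hcm 4 5 (by norm_num) (by norm_num) (by norm_num) (by norm_num)
      w02 := hcm 4 6 (by norm_num) (by norm_num) (by norm_num) (by norm_num)
      w11 := hcm 3 5 (by norm_num) (by norm_num) (by norm_num) (by norm_num)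
      w12 := hcm 3 6 (by norm_num) (by norm_num) (by norm_num) (by norm_num)
      w22 := hcm 2 6 (by norm_num) (by norm_num) (by norm_num) (by norm_num)
      x0w0 := hx4 4 (by norm_num) (by norm_num)
      x0w1 := hx4 5 (by norm_num) (by norm_num)
      x0w2 := hx4 6 (by norm_num) (by norm_num)
      x3w0 := hv4 7 (by norm_num) (by norm_num)
      x4w0 := hv4 8 (by norm_num) (by norm_num)
      c12 := hcl 3 6 (by norm_num) (by norm_num) (by norm_num) (by norm_num)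
      c13 := hcl 3 7 (by norm_num) (by norm_num) (by norm_num) (by norm_num)
      c23 := hcl 2 7 (by norm_num) (by norm_num) (by norm_num) (by norm_num)
      a14 := ha 3 (by norm_num) (by norm_num)
      a24 := ha 2 (by norm_num) (by norm_num) }

end fields

end Cfsg.Agent.OddHalf.D7TwF4.Growth.WOf

end

-- merged: Cfsg.Agent.OddHalf.D7TwF4.Growth.Glue
section

/-!
# Growth for `²F₄(q)`: the input (helper401)

* `refl` : the elements `i (rot^c n2)` induce the reflections of the families `X`, `Y`, `V`, `T`;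
* `inp` : the input of the growth, from its parts.
-/

set_option autoImplicit false
set_option linter.unusedSectionVars false
set_option linter.unusedVariables false

namespace Cfsg.Agent.OddHalf.D7TwF4.Growth.Glue

open Cfsg.Agent.KFacts.TwF4 Cfsg.Agent.SplitTwo.ZS Cfsg.Agent.OddHalf.D7TwF4.Growth.Defs
open Cfsg.Agent.OddHalf.D7TwF4.Defs Cfsg.Agent.OddHalf.D7TwF4.Growth.KInst Cfsg.Agent.OddHalf.D7TwF4.Fab2
open Cfsg.Agent.OddHalf.D7TwF4.Growth.KCen Cfsg.Agent.OddHalf.D7TwF4.Growth.Conj Cfsg.Agent.OddHalf.D7TwF4.Growth.Frame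

universe u v w

variable {F₀ : Type w} [Field F₀] {σ : F₀ →+* F₀} {Y : Type u} [Group Y] {G : Type v} [Group G]
variable {S : Full σ Y} {i : Y →* G} {t : G} {W : ℤ → Subgroup G}

theorem mvs_ref (S : Full σ Y) (c : ℤ) : Mvs S (S.rot ^ c * S.n2) (-1) (4 + c) where
  he := Or.inr rfl
  X j x hx := by
    have h1 := (mvs_rot S c).X _ _ ((mvs_n2 S).X j x hx)
    have e : S.rot ^ c * (S.n2 * x * S.n2⁻¹) * (S.rot ^ c)⁻¹ = S.rot ^ c * S.n2 * x * (S.rot ^ c * S.n2)⁻¹ := by group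
    rw [e] at h1
    rwa [show -1 * j + 2 * (4 + c) = 1 * (-1 * j + 2 * 4) + 2 * c by ring]
  X' j x hx := by
    rw [show -1 * j + 2 * (4 + c) = 1 * (-1 * j + 2 * 4) + 2 * c by ring] at hx
    have h1 := (mvs_n2 S).X' _ _ ((mvs_rot S c).X' _ _ hx)
    have e : S.n2⁻¹ * ((S.rot ^ c)⁻¹ * x * S.rot ^ c) * S.n2 = (S.rot ^ c * S.n2)⁻¹ * x * (S.rot ^ c * S.n2) := by group
    rwa [e] at h1
  Z a x hx := by
    have h1 := (mvs_rot S c).Z _ _ ((mvs_n2 S).Z a x hx)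
    have e : S.rot ^ c * (S.n2 * x * S.n2⁻¹) * (S.rot ^ c)⁻¹ = S.rot ^ c * S.n2 * x * (S.rot ^ c * S.n2)⁻¹ := by group
    rw [e] at h1
    rwa [show -1 * a + (4 + c) = 1 * (-1 * a + 4) + c by ring]
  Z' a x hx := by
    rw [show -1 * a + (4 + c) = 1 * (-1 * a + 4) + c by ring] at hx
    have h1 := (mvs_n2 S).Z' _ _ ((mvs_rot S c).Z' _ _ hx)
    have e : S.n2⁻¹ * ((S.rot ^ c)⁻¹ * x * S.rot ^ c) * S.n2 = (S.rot ^ c * S.n2)⁻¹ * x * (S.rot ^ c * S.n2) := by group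
    rwa [e] at h1

/-- the image of a family -/
theorem map_iff (P : Pos S i t) {g : Y} {A B : Subgroup Y} (h1 : ∀ x ∈ A, g * x * g⁻¹ ∈ B)
    (h2 : ∀ x ∈ B, g⁻¹ * x * g ∈ A) (x : G) : x ∈ A.map i ↔ i g * x * (i g)⁻¹ ∈ B.map i := by
  constructor
  · rintro ⟨y, hy, rfl⟩
    exact ⟨_, h1 y hy, by rw [map_mul, map_mul, map_inv]⟩
  · rintro ⟨y, hy, e⟩
    refine ⟨_, h2 y hy, ?_⟩
    rw [map_mul, map_mul, map_inv, e]
    group

theorem YZ_mvs {g : Y} {e c : ℤ} (h : Mvs S g e c) (k : ℤ) {x : Y} (hx : x ∈ YZ S k) :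
    g * x * g⁻¹ ∈ YZ S (e * k + 2 * c) := by
  obtain ⟨a, ha | ha⟩ := Int.even_or_odd' k
  · subst ha
    rw [YZ_even] at hx
    rw [show e * (2 * a) + 2 * c = 2 * (e * a + c) by ring, YZ_even]
    exact h.Z a x hx
  · subst ha
    rw [YZ_odd] at hx
    have h1 := h.X _ x hx
    obtain ⟨b, hb⟩ : ∃ b, e * (2 * a + 1) + 2 * c = 2 * b + 1 := by
      rcases h.he with rfl | rfl
      · exact ⟨a + c, by ring⟩
      · exact ⟨-a - 1 + c, by ring⟩
    rw [hb] at h1 ⊢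
    rw [YZ_odd]
    exact h1

/-- the inverse direction for a family -/
theorem inv_dir {A : ℤ → Subgroup Y} (hA : ∀ {g : Y} {e c : ℤ}, Mvs S g e c → ∀ (k : ℤ) (x : Y), x ∈ A k →
    g * x * g⁻¹ ∈ A (e * k + 2 * c)) {g : Y} {e c : ℤ} (h : Mvs S g e c) (k : ℤ) (x : Y)
    (hx : x ∈ A (e * k + 2 * c)) : g⁻¹ * x * g ∈ A k := by
  have h1 := hA h.inv _ x hx
  rwa [inv_inv, show e * (e * k + 2 * c) + 2 * -(e * c) = (e * e) * k by ring, h.ee, one_mul] at h1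

theorem rfl_map (P : Pos S i t) {A : ℤ → Subgroup Y} (hA : ∀ {g : Y} {e c : ℤ}, Mvs S g e c → ∀ (k : ℤ) (x : Y),
    x ∈ A k → g * x * g⁻¹ ∈ A (e * k + 2 * c)) (c : ℤ) :
    Rfl (i (S.rot ^ c * S.n2)) c (fun k => (A (4 + k)).map i) := by
  intro k x
  have h := mvs_ref S c
  have h1 := map_iff P (g := S.rot ^ c * S.n2) (A := A (4 + k)) (B := A (-1 * (4 + k) + 2 * (4 + c)))
    (fun x hx => hA h _ x hx) (fun x hx => inv_dir hA h _ x hx) x
  have e : -1 * (4 + k) + 2 * (4 + c) = 4 + (2 * c - k) := by ring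
  rw [e] at h1
  exact h1

theorem rfl_V (C : Cx S i t W) (c : ℤ) : Rfl (i (S.rot ^ c * S.n2)) c (fun k => Vd S i W (4 + k)) := by
  intro k x
  have h1 := C.Vd_iff (mvs_ref S c) (4 + k) x
  have e : -1 * (4 + k) + 2 * (4 + c) = 4 + (2 * c - k) := by ring
  rw [e] at h1
  exact h1

/-- **The input**, from its parts. -/
theorem inp_of (C : Cx S i t W)
    (hg : Gen (tau t) (fun k => (S.XZ (4 + k)).map i) (fun k => (YZ S (4 + k)).map i) (fun k => Vd S i W (4 + k))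
      (fun k => (S.Tk (4 + k)).map i))
    (hb : Base (tau t) (fun k => (S.XZ (4 + k)).map i) (fun k => (YZ S (4 + k)).map i) (fun k => Vd S i W (4 + k))
      (fun k => (S.Tk (4 + k)).map i)) :
    Inp (tau t) (fun k => (S.XZ (4 + k)).map i) (fun k => (YZ S (4 + k)).map i) (fun k => Vd S i W (4 + k))
      (fun k => (S.Tk (4 + k)).map i) :=
  inp_of_refl hg hb fun c => ⟨i (S.rot ^ c * S.n2), tau_iff.2 (C.P.ti _).symm,
    rfl_map C.P (fun h k x hx => h.X k x hx) c, rfl_map C.P (fun h k x hx => YZ_mvs h k hx) c, rfl_V C c,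
    rfl_map C.P (fun h k x hx => h.Tk k hx) c⟩

/-! ### `Gen` -/

theorem YZ_le (S : Full σ Y) (k : ℤ) : YZ S k ≤ S.XZ k := by
  rw [← WOf.Zk_eq]; exact Zk_le S k

theorem YZ_T (S : Full σ Y) (k : ℤ) {h : Y} (hh : h ∈ S.T) {x : Y} (hx : x ∈ YZ S k) : h * x * h⁻¹ ∈ YZ S k := by
  have := YZ_mvs (mvs_T hh) k hx
  rwa [one_mul, mul_zero, add_zero] at this

/-- **The general facts.** -/
theorem gen (C : Cx S i t W) : Gen (tau t) (fun k => (S.XZ k).map i) (fun k => (YZ S k).map i) (Vd S i W)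
    (fun k => (S.Tk k).map i) := by
  have V := WOf.wgen C
  have := finite_Y C.P
  exact
    { tt := fun x => by
        rw [tau_eq C.P, tau_eq C.P]
        calc t * (t * x * t) * t = (t * t) * x * (t * t) := by group
          _ = x := by rw [C.P.tt]; group
      tX := by
        rintro k _ ⟨x, -, rfl⟩
        exact tau_iff.2 (C.P.ti _).symm
      tT := by
        rintro k _ ⟨x, -, rfl⟩
        exact tau_iff.2 (C.P.ti _).symm
      YX := fun k => Subgroup.map_mono (YZ_le S k)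
      Yo := fun c => by
        show (YZ S (2 * c + 1)).map i = (S.XZ (2 * c + 1)).map i
        rw [YZ_odd]
      YW := V.YW
      Wab := V.Wab
      Wsq := V.Wsq
      Wt := V.Wt
      Wf := V.Wf
      Ws := V.Ws
      TX := by
        rintro k j _ ⟨h, hh, rfl⟩ _ ⟨x, hx, rfl⟩
        exact ⟨_, S.T_conj hh.1 j hx, by rw [map_mul, map_mul, map_inv]⟩
      TY := by
        rintro k j _ ⟨h, hh, rfl⟩ _ ⟨x, hx, rfl⟩
        exact ⟨_, YZ_T S j hh.1 hx, by rw [map_mul, map_mul, map_inv]⟩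
      TW := V.TW
      TT := by
        rintro k j _ ⟨h, hh, rfl⟩ _ ⟨x, hx, rfl⟩
        rw [← map_mul, ← map_mul, S.T_comm hh.1 hx.1]
      TXc := by
        rintro k _ ⟨h, hh, rfl⟩ _ ⟨x, hx, rfl⟩
        rw [← map_mul, ← map_mul, S.Tk_comm hh hx]
      TWc := V.TWc
      Todd := fun k => by
        have h1 := odd_Tk S k
        have h2 : Nat.card ((S.Tk k).map i) = Nat.card (S.Tk k) :=
          (Nat.card_congr ((S.Tk k).equivMapOfInjective i C.P.inj).toEquiv).symm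
        show Odd (Nat.card ((S.Tk k).map i))
        rw [h2]; exact h1
      hf := by
        intro k j hkj
        obtain ⟨h, hh, h1⟩ := Pair.exists_tor C.P C.D C.vdata k
        refine ⟨i h, ⟨h, hh, rfl⟩, ?_⟩
        rintro _ ⟨x, hx, rfl⟩ h2
        rw [h1 j hkj x hx (C.P.inj (by rw [map_mul, map_mul, map_inv]; exact h2)), map_one] }

/-- a family in the standard position -/
theorem F_std (A : ℤ → Subgroup G) : Frame.F 2 1 A = fun k => A (4 + k) := by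
  funext k
  show A (2 * 2 + 1 * k) = A (4 + k)
  congr 1; ring

theorem F_back (A : ℤ → Subgroup G) : Frame.F (-2) 1 (Frame.F 2 1 A) = A := by
  rw [F_F]
  have : Frame.F (2 + 1 * -2) (1 * 1) A = Frame.F 0 1 A := by norm_num
  rw [this, F_id]

theorem base (C : Cx S i t W) (K : KBase (fun k => (S.XZ (4 + k)).map i) (fun k => (YZ S (4 + k)).map i)
      (fun k => (S.Tk (4 + k)).map i)) :
    Base (tau t) (fun k => (S.XZ (4 + k)).map i) (fun k => (YZ S (4 + k)).map i) (fun k => Vd S i W (4 + k))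
      (fun k => (S.Tk (4 + k)).map i) :=
  Base.of K (WOf.wbase C) (Pair.wtri C.P C.D C.vdata) (kcen C.P C.D fun w hw => by
    show w ∈ Vd S i W (2 * 2)
    rw [Vd_even]; exact hw)

/-- **The input of the growth**, from the facts in `K`. -/
theorem inp (C : Cx S i t W) (K : KBase (fun k => (S.XZ (4 + k)).map i) (fun k => (YZ S (4 + k)).map i)
      (fun k => (S.Tk (4 + k)).map i)) :
    Inp (tau t) (fun k => (S.XZ k).map i) (fun k => (YZ S k).map i) (Vd S i W) (fun k => (S.Tk k).map i) := by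
  have hg := Frame.gen (gen C) (c := 2) (e := 1) (Or.inl rfl)
  rw [F_std, F_std, F_std, F_std] at hg
  have h := inp_of C hg (base C K)
  have h1 := Frame.inp h (-2) (Or.inl rfl)
  rw [← F_std (fun k => (S.XZ k).map i), ← F_std (fun k => (YZ S k).map i), ← F_std (Vd S i W),
    ← F_std (fun k => (S.Tk k).map i), F_back, F_back, F_back, F_back] at h1
  exact h1

end Cfsg.Agent.OddHalf.D7TwF4.Growth.Glue

end
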