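import Cfsg.Agent.OddHalf.D7TwF4.Growth.KRel
import Cfsg.Agent.KFacts.TwF4.AutTau

-- merged: Cfsg.Agent.OddHalf.D7TwF4.Growth.KForm
section

/-!
# Growth of the doubled root groups of `²F₄(q)`: coordinates and weights (helper517)

* `qq u s v w z` : the elements of `Q2 = Z_2 X_3 Z_4 X_5 Z_6`;
* `kb`, `kJ`, `kT`, `tf`, `i3`, `i4`;
* `NH` : the weight lemma; `nh1`, `nh2`.
-/

set_option autoImplicit false
set_option linter.unusedSectionVars false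

namespace Cfsg.Agent.OddHalf.D7TwF4.Growth.KInst

open Cfsg.Agent.KFacts.TwF4 Cfsg.Agent.SplitTwo.ZS Cfsg.Agent.OddHalf.D7TwF4.Growth.Defs
open scoped commutatorElement

universe u

variable {F : Type*} [Field F] {σ : F →+* F} {G : Type u} [Group G] (S : Full σ G)

theorem uniq {a b : ℤ} (hb : b < a + 8) {x x' y y' : G} (hx : x ∈ S.XZ a) (hx' : x' ∈ S.XZ a)
    (hy : y ∈ J S.XZ (a + 1) b) (hy' : y' ∈ J S.XZ (a + 1) b) (h : x * y = x' * y') : x = x' ∧ y = y' := by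
  have h1 : x'⁻¹ * x = y' * y⁻¹ := by
    rw [eq_mul_inv_iff_mul_eq, mul_assoc, h, inv_mul_cancel_left]
  have h2 : x'⁻¹ * x = 1 := by
    refine S.zsys8.inter a _ (mul_mem (inv_mem hx') hx) ?_
    rw [h1]
    exact J_mono le_rfl (by omega) (mul_mem hy' (inv_mem hy))
  have h3 : x = x' := (inv_mul_eq_one.1 h2).symm
  subst h3
  exact ⟨rfl, mul_left_cancel h⟩

theorem mmc {a₁ R₁ a₂ R₂ : G} (h : R₁ * a₂ = a₂ * R₁) : (a₁ * R₁) * (a₂ * R₂) = (a₁ * a₂) * (R₁ * R₂) := by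
  calc (a₁ * R₁) * (a₂ * R₂) = a₁ * (R₁ * a₂) * R₂ := by group
    _ = _ := by rw [h]; group

/-! ### the elements of `Q2` -/

/-- the elements of `Q2` -/
def qq (u s v w z : F) : G := S.e 1 0 u * (S.o 1 s * (S.e 2 0 v * (S.o 2 w * S.e 3 0 z)))

theorem Q2c {x y : G} (hx : x ∈ S.Q2) (hy : y ∈ S.Q2) : x * y = y * x := S.Q1_comm (Subgroup.mem_sup_right hx) hy

theorem qq_mem (u s v w z : F) : qq S u s v w z ∈ S.Q2 :=
  mul_mem (S.q2_1 u) (mul_mem (S.q2_2 s) (mul_mem (S.q2_3 v) (mul_mem (S.q2_4 w) (S.q2_5 z))))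

theorem qq_mul (u s v w z u' s' v' w' z' : F) :
    qq S u s v w z * qq S u' s' v' w' z' = qq S (u + u') (s + s') (v + v') (w + w') (z + z') := by
  unfold qq
  rw [mmc (Q2c S (mul_mem (S.q2_2 s) (mul_mem (S.q2_3 v) (mul_mem (S.q2_4 w) (S.q2_5 z)))) (S.q2_1 u')),
    mmc (Q2c S (mul_mem (S.q2_3 v) (mul_mem (S.q2_4 w) (S.q2_5 z))) (S.q2_2 s')),
    mmc (Q2c S (mul_mem (S.q2_4 w) (S.q2_5 z)) (S.q2_3 v')), mmc (Q2c S (S.q2_5 z) (S.q2_4 w')), S.e_mul_Zc, S.o_add,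
    S.e_mul_Zc, S.o_add, S.e_mul_Zc]

theorem qq_zero : qq S 0 0 0 0 0 = 1 := by
  unfold qq
  rw [S.e_zero, S.e_zero, S.e_zero, S.o_zero, S.o_zero]
  simp

theorem qq_sq (u s v w z : F) : qq S u s v w z * qq S u s v w z = 1 := by
  rw [qq_mul, S.add_self, S.add_self, S.add_self, S.add_self, S.add_self, qq_zero]

theorem mem_Q2 {g : G} : g ∈ S.Q2 ↔ ∃ u s v w z, qq S u s v w z = g := by
  constructor
  · let K : Subgroup G :=
      { carrier := {g | ∃ u s v w z, qq S u s v w z = g}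
        one_mem' := ⟨0, 0, 0, 0, 0, qq_zero S⟩
        mul_mem' := by
          rintro _ _ ⟨u, s, v, w, z, rfl⟩ ⟨u', s', v', w', z', rfl⟩
          exact ⟨_, _, _, _, _, (qq_mul S u s v w z u' s' v' w' z').symm⟩
        inv_mem' := by
          rintro _ ⟨u, s, v, w, z, rfl⟩
          exact ⟨u, s, v, w, z, (inv_eq_of_mul_eq_one_left (qq_sq S u s v w z)).symm⟩ }
    have hK : S.Q2 ≤ K := by
      refine S.Q2_le (fun u => ⟨u, 0, 0, 0, 0, ?_⟩) (fun t => ⟨0, t, 0, 0, 0, ?_⟩) (fun u => ⟨0, 0, u, 0, 0, ?_⟩)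
        (fun t => ⟨0, 0, 0, t, 0, ?_⟩) (fun u => ⟨0, 0, 0, 0, u, ?_⟩) <;> unfold qq <;>
        simp only [S.e_zero, S.o_zero, mul_one, one_mul]
    intro hg
    exact hK hg
  · rintro ⟨u, s, v, w, z, rfl⟩
    exact qq_mem S u s v w z

theorem qq_inj {u s v w z u' s' v' w' z' : F} (h : qq S u s v w z = qq S u' s' v' w' z') :
    u = u' ∧ s = s' ∧ v = v' ∧ w = w' ∧ z = z' := by
  unfold qq at h
  have m6 : ∀ z, S.e 3 0 z ∈ J S.XZ (5 + 1) 6 := fun z => mem_J (S.mX6 0 z) (by norm_num) (by norm_num)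
  have m5 : ∀ w z, S.o 2 w * S.e 3 0 z ∈ J S.XZ (4 + 1) 6 := fun w z =>
    mul_mem (mem_J (S.mX5 w) (by norm_num) (by norm_num)) (J_mono (by norm_num) (by norm_num) (m6 z))
  have m4 : ∀ v w z, S.e 2 0 v * (S.o 2 w * S.e 3 0 z) ∈ J S.XZ (3 + 1) 6 := fun v w z =>
    mul_mem (mem_J (S.mX4 0 v) (by norm_num) (by norm_num)) (J_mono (by norm_num) (by norm_num) (m5 w z))
  have m3 : ∀ s v w z, S.o 1 s * (S.e 2 0 v * (S.o 2 w * S.e 3 0 z)) ∈ J S.XZ (2 + 1) 6 := fun s v w z =>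
    mul_mem (mem_J (S.mX3 s) (by norm_num) (by norm_num)) (J_mono (by norm_num) (by norm_num) (m4 v w z))
  obtain ⟨h1, h⟩ := uniq S (a := 2) (b := 6) (by norm_num) (S.mX2 0 u) (S.mX2 0 u') (m3 _ _ _ _) (m3 _ _ _ _) h
  obtain ⟨h2, h⟩ := uniq S (a := 3) (b := 6) (by norm_num) (S.mX3 s) (S.mX3 s') (m4 _ _ _) (m4 _ _ _) h
  obtain ⟨h3, h⟩ := uniq S (a := 4) (b := 6) (by norm_num) (S.mX4 0 v) (S.mX4 0 v') (m5 _ _) (m5 _ _) h
  obtain ⟨h4, h⟩ := uniq S (a := 5) (b := 6) (by norm_num) (S.mX5 w) (S.mX5 w') (m6 _) (m6 _) h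
  exact ⟨(S.injE 1 _ _ _ _ h1).2, S.injO 1 h2, (S.injE 2 _ _ _ _ h3).2, S.injO 2 h4, (S.injE 3 _ _ _ _ h).2⟩

theorem conj_mul' (t x y : G) : t * (x * y) * t⁻¹ = (t * x * t⁻¹) * (t * y * t⁻¹) := by group

theorem qq_conj (c d : Fˣ) (u s v w z : F) : S.h c d * qq S u s v w z * (S.h c d)⁻¹ =
    qq S ((chE σ 1 c d : F) * σ (chE σ 1 c d : F) * u) ((chO σ 1 c d : F) * s)
      ((chE σ 2 c d : F) * σ (chE σ 2 c d : F) * v) ((chO σ 2 c d : F) * w)
      ((chE σ 3 c d : F) * σ (chE σ 3 c d : F) * z) := by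
  unfold qq
  rw [conj_mul', conj_mul', conj_mul', conj_mul', S.h_e, S.h_e, S.h_e, S.h_o, S.h_o, mul_zero, mul_zero, mul_zero]

/-! ### centralisers -/

theorem kb : ∀ c ∈ Q2 (Yf S), (∀ x ∈ Xf S 3, c * x = x * c) → c ∈ RK (Yf S) := by
  intro c hc h
  rw [Q2_eq] at hc
  obtain ⟨u, s, v, w, z, rfl⟩ := (mem_Q2 S).1 hc
  have h1 := h (S.o 3 1) (S.mX7 1)
  unfold qq at h1 ⊢
  set R := S.o 1 s * (S.e 2 0 v * (S.o 2 w * S.e 3 0 z)) with hR
  have r3 : S.o 1 s * S.o 3 1 = S.o 3 1 * S.o 1 s := S.o_o2 1 s 1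
  have r4 := S.comm_Z4 (k := 7) (by norm_num) (by norm_num) (S.mX7 1) v
  have r5 : S.o 2 w * S.o 3 1 = S.o 3 1 * S.o 2 w := S.o_o1 2 w 1
  have r6 := S.comm_Z6 (k := 7) (by norm_num) (by norm_num) (S.mX7 1) z
  have hR3 : R * S.o 3 1 = S.o 3 1 * R := by
    have e1 : Commute (S.o 1 s) (S.o 3 1) := r3
    have e2 : Commute (S.e 2 0 v) (S.o 3 1) := r4.symm
    have e3 : Commute (S.o 2 w) (S.o 3 1) := r5
    have e4 : Commute (S.e 3 0 z) (S.o 3 1) := r6.symm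
    exact e1.mul_left (e2.mul_left (e3.mul_left e4))
  have h2 : S.e 1 0 u * S.o 3 1 = S.o 3 1 * S.e 1 0 u := by
    have h3 : S.e 1 0 u * S.o 3 1 * R = S.o 3 1 * S.e 1 0 u * R := by
      calc S.e 1 0 u * S.o 3 1 * R = S.e 1 0 u * R * S.o 3 1 := by rw [mul_assoc, ← hR3, ← mul_assoc]
        _ = _ := by rw [h1, mul_assoc]
    exact mul_right_cancel h3
  have r1 : S.e 1 0 u * S.o 3 1 = S.o 3 1 * S.e 1 0 u * S.e 2 0 (0 * σ 0 * 1 + u * 1) * S.o 2 (σ 0 * 1) *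
      S.e 3 0 (0 * σ 1) := S.e_o2 1 0 u 1
  rw [map_zero, zero_mul, zero_mul, zero_mul, zero_add, S.o_zero, S.e_zero, mul_one, mul_one, mul_one, h2] at r1
  have h4 := (S.e_eq_one (left_eq_mul.1 r1)).2
  rw [h4, S.e_zero, one_mul]
  exact mul_mem (RK_three S s) (mul_mem (EK_le_RK S (EK_four S v)) (mul_mem (EK_le_RK S (EK_five S w))
    (EK_le_RK S (EK_six S z))))

theorem i3 : Q2 (Yf S) ⊓ Xf S 0 ≤ Yf S 0 := by
  rw [Q2_eq, Yf0]
  rintro x ⟨h1, h2⟩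
  have h2' : x ∈ S.XZ 4 := h2
  obtain ⟨u, s, v, w, z, rfl⟩ := (mem_Q2 S).1 h1
  have m5 : ∀ w z, S.o 2 w * S.e 3 0 z ∈ J S.XZ (4 + 1) 6 := fun w z =>
    mul_mem (mem_J (S.mX5 w) (by norm_num) (by norm_num)) (mem_J (S.mX6 0 z) (by norm_num) (by norm_num))
  have m4 : ∀ v w z, S.e 2 0 v * (S.o 2 w * S.e 3 0 z) ∈ J S.XZ (3 + 1) 6 := fun v w z =>
    mul_mem (mem_J (S.mX4 0 v) (by norm_num) (by norm_num)) (J_mono (by norm_num) (by norm_num) (m5 w z))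
  have m3 : ∀ s v w z, S.o 1 s * (S.e 2 0 v * (S.o 2 w * S.e 3 0 z)) ∈ J S.XZ (2 + 1) 6 := fun s v w z =>
    mul_mem (mem_J (S.mX3 s) (by norm_num) (by norm_num)) (J_mono (by norm_num) (by norm_num) (m4 v w z))
  obtain ⟨x, hx⟩ : ∃ x, x = qq S u s v w z := ⟨_, rfl⟩
  rw [← hx] at h2' ⊢
  have e0 : S.e 1 0 u * (S.o 1 s * (S.e 2 0 v * (S.o 2 w * S.e 3 0 z))) = 1 * x := by rw [one_mul, hx]; rfl
  obtain ⟨-, e1⟩ := uniq S (a := 2) (b := 6) (by norm_num) (S.mX2 0 u) (one_mem _) (m3 _ _ _ _)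
    (mem_J h2' (by norm_num) (by norm_num)) e0
  have e1' : S.o 1 s * (S.e 2 0 v * (S.o 2 w * S.e 3 0 z)) = 1 * x := by rw [e1, one_mul]
  obtain ⟨-, e2⟩ := uniq S (a := 3) (b := 6) (by norm_num) (S.mX3 s) (one_mem _) (m4 _ _ _)
    (mem_J h2' (by norm_num) (by norm_num)) e1'
  have e2' : S.e 2 0 v * (S.o 2 w * S.e 3 0 z) = x * 1 := by rw [e2, mul_one]
  obtain ⟨e3, -⟩ := uniq S (a := 4) (b := 6) (by norm_num) (S.mX4 0 v) h2' (m5 _ _) (one_mem _) e2'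
  exact ⟨v, e3⟩

theorem i4 : Q1 (Xf S) (Yf S) ⊓ Xf S 2 ≤ Yf S 2 := by
  rw [Q1_eq, Yf2]
  rintro x ⟨h1, h2⟩
  have h2' : x ∈ S.XZ 6 := h2
  obtain ⟨a, ha, b, hb, rfl⟩ := mem_sup_of_norm (A := S.XZ 4) (B := S.Q2) (fun a ha b hb => by
    rw [S.Q1_comm (Subgroup.mem_sup_left ha) hb, mul_inv_cancel_right]; exact hb) h1
  obtain ⟨u, s, v, w, z, rfl⟩ := (mem_Q2 S).1 hb
  have e : a * qq S u s v w z * (S.e 3 0 z)⁻¹ = a * (S.e 1 0 u * (S.o 1 s * (S.e 2 0 v * S.o 2 w))) := by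
    unfold qq; group
  have h3 : a * qq S u s v w z * (S.e 3 0 z)⁻¹ ∈ J S.XZ (6 - 8 + 1) (6 - 1) := by
    rw [e]
    exact mul_mem (mem_J ha (by norm_num) (by norm_num)) (mul_mem (mem_J (S.mX2 0 u) (by norm_num) (by norm_num))
      (mul_mem (mem_J (S.mX3 s) (by norm_num) (by norm_num)) (mul_mem (mem_J (S.mX4 0 v) (by norm_num) (by norm_num))
        (mem_J (S.mX5 w) (by norm_num) (by norm_num)))))
  have h4 := S.zsys8.inter' (mul_mem h2' (inv_mem (S.mX6 0 z))) h3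
  rw [mul_inv_eq_one] at h4
  exact ⟨z, h4.symm⟩

include S in
/-- the fixed field of `σ` -/
theorem fix_σ {x : F} (h : x + σ x = 0) : x = 0 ∨ x = 1 := by
  have h1 : σ x = x := by
    have h2 := S.add_self x
    have h3 : x + σ x = x + x := by rw [h, h2]
    exact add_left_cancel h3
  have h2 := S.sq x
  rw [h1, h1, pow_two] at h2
  by_cases hx : x = 0
  · exact Or.inl hx
  · right
    have h3 : x * x = x * 1 := by rw [← h2, mul_one]
    exact mul_left_cancel₀ hx h3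

include S in
theorem exists_moved (hq : 2 < Nat.card F) : ∃ x : F, x ≠ 0 ∧ x ≠ 1 ∧ x + σ x ≠ 0 := by
  classical
  have : Finite F := Nat.finite_of_card_ne_zero (by omega)
  have := Fintype.ofFinite F
  rw [Nat.card_eq_fintype_card] at hq
  by_contra hcon
  push Not at hcon
  have h1 : (Finset.univ : Finset F) ⊆ {0, 1} := by
    intro a _
    rw [Finset.mem_insert, Finset.mem_singleton]
    by_cases ha : a = 0
    · exact Or.inl ha
    · by_cases ha1 : a = 1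
      · exact Or.inr ha1
      · exact fix_σ S (hcon a ha ha1)
  have h2 := Finset.card_le_card h1
  rw [Finset.card_univ] at h2
  have h3 : ({0, 1} : Finset F).card ≤ 2 := Finset.card_le_two
  omega

/-- the commutator of `r ∈ X_3 ⋯ X_7` with `x ∈ X_4` -/
theorem kJ_aux {a p w b p' w' s q : F}
    (h : S.o 1 a * (S.e 2 p w * (S.o 2 b * (S.e 3 p' w' * S.o 3 s))) * S.e 2 q 0 =
      S.e 2 q 0 * (S.o 1 a * (S.e 2 p w * (S.o 2 b * (S.e 3 p' w' * S.o 3 s))))) :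
    p * σ q + q * σ p = 0 ∧ q * p' = 0 ∧ q * s = 0 := by
  obtain ⟨x, hx⟩ : ∃ x, x = S.e 2 q 0 := ⟨_, rfl⟩
  rw [← hx] at h
  have c3 : x * S.o 1 a = S.o 1 a * x := by rw [hx]; exact (S.o_e1 1 a q 0).symm
  have c5 : x * S.o 2 b = S.o 2 b * x := by rw [hx]; exact S.e_o0 2 q 0 b
  have c6 : x * S.e 3 p' w' = S.e 3 p' w' * x * S.o 2 (q * p') := by rw [hx]; exact S.e_e1 2 q 0 p' w'
  have c7 : x * S.o 3 s = S.o 3 s * x * S.e 3 0 (q * s) := by rw [hx]; exact S.e_o1 2 q 0 s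
  have c4 : x * S.e 2 p w = S.e 2 p w * x * S.e 2 0 (p * σ q + q * σ p) := by
    rw [hx, S.e_mul, S.e_mul, S.e_mul]
    have h2 := S.add_self (p * σ q)
    congr 1
    · ring
    · rw [map_zero]; linear_combination -h2
  have c57 : S.o 2 (q * p') * S.o 3 s = S.o 3 s * S.o 2 (q * p') := S.o_o1 2 _ s
  have cz : ∀ y ∈ J S.XZ 2 8, y * S.e 2 0 (p * σ q + q * σ p) = S.e 2 0 (p * σ q + q * σ p) * y := fun y hy =>
    S.W46_comm hy (S.Z4_W46 _)
  have h1 : x * (S.o 1 a * (S.e 2 p w * (S.o 2 b * (S.e 3 p' w' * S.o 3 s)))) =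
      (S.o 1 a * (S.e 2 p w * (S.o 2 b * (S.e 3 p' w' * S.o 3 s))) * x) *
        (S.e 3 0 (q * s) * S.o 2 (q * p') * S.e 2 0 (p * σ q + q * σ p)) := by
    have m : S.o 2 b * (S.e 3 p' w' * S.o 3 s) ∈ J S.XZ 2 8 :=
      mul_mem (mem_J (S.mX5 b) (by norm_num) (by norm_num)) (mul_mem (mem_J (S.mX6 p' w') (by norm_num) (by norm_num))
        (mem_J (S.mX7 s) (by norm_num) (by norm_num)))
    have e1 : x * (S.o 2 b * (S.e 3 p' w' * S.o 3 s)) =
        (S.o 2 b * (S.e 3 p' w' * S.o 3 s) * x) * (S.e 3 0 (q * s) * S.o 2 (q * p')) := by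
      calc x * (S.o 2 b * (S.e 3 p' w' * S.o 3 s)) = (x * S.o 2 b) * S.e 3 p' w' * S.o 3 s := by group
        _ = S.o 2 b * (x * S.e 3 p' w') * S.o 3 s := by rw [c5]; group
        _ = S.o 2 b * S.e 3 p' w' * x * (S.o 2 (q * p') * S.o 3 s) := by rw [c6]; group
        _ = S.o 2 b * S.e 3 p' w' * (x * S.o 3 s) * S.o 2 (q * p') := by rw [c57]; group
        _ = _ := by rw [c7]; group
    calc x * (S.o 1 a * (S.e 2 p w * (S.o 2 b * (S.e 3 p' w' * S.o 3 s)))) =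
        (x * S.o 1 a) * S.e 2 p w * (S.o 2 b * (S.e 3 p' w' * S.o 3 s)) := by group
      _ = S.o 1 a * (x * S.e 2 p w) * (S.o 2 b * (S.e 3 p' w' * S.o 3 s)) := by rw [c3]; group
      _ = S.o 1 a * S.e 2 p w * x * (S.e 2 0 (p * σ q + q * σ p) * (S.o 2 b * (S.e 3 p' w' * S.o 3 s))) := by
        rw [c4]; group
      _ = S.o 1 a * S.e 2 p w * (x * (S.o 2 b * (S.e 3 p' w' * S.o 3 s))) * S.e 2 0 (p * σ q + q * σ p) := by
        rw [← cz _ m]; group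
      _ = _ := by rw [e1]; group
  rw [← h] at h1
  have h2 := left_eq_mul.1 h1
  have m6 : S.e 3 0 (q * s) * S.o 2 (q * p') = S.o 2 (q * p') * S.e 3 0 (q * s) :=
    (S.comm_Z6 (k := 5) (by norm_num) (by norm_num) (S.mX5 _) _).symm
  have h3 : qq S 0 0 (p * σ q + q * σ p) (q * p') (q * s) = qq S 0 0 0 0 0 := by
    rw [qq_zero, ← h2]
    unfold qq
    rw [S.e_zero, S.o_zero, one_mul, one_mul, m6]
    exact (cz _ (mul_mem (mem_J (S.mX5 _) (by norm_num) (by norm_num)) (mem_J (S.mX6 0 _) (by norm_num) (by norm_num)))).symm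
  obtain ⟨-, -, k1, k2, k3⟩ := qq_inj S h3
  exact ⟨k1, k2, k3⟩

/-- the generic element of `X_3 ⋯ X_7` -/
def rr (a p w b p' w' s : F) : G := S.o 1 a * (S.e 2 p w * (S.o 2 b * (S.e 3 p' w' * S.o 3 s)))

theorem exists_rr {r : G} (hr : r ∈ J S.XZ 3 7) : ∃ a p w b p' w' s, r = rr S a p w b p' w' s := by
  have Z8 := S.zsys8
  obtain ⟨x3, hx3, r3, hr3, rfl⟩ := Z8.split_ll (a := 3) (b := 7) (by norm_num) (by norm_num) hr
  obtain ⟨x4, hx4, r4, hr4, rfl⟩ := Z8.split_ll (a := 4) (b := 7) (by norm_num) (by norm_num)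
    (show r3 ∈ J S.XZ 4 7 from hr3)
  obtain ⟨x5, hx5, r5, hr5, rfl⟩ := Z8.split_ll (a := 5) (b := 7) (by norm_num) (by norm_num)
    (show r4 ∈ J S.XZ 5 7 from hr4)
  obtain ⟨x6, hx6, r6, hr6, rfl⟩ := Z8.split_ll (a := 6) (b := 7) (by norm_num) (by norm_num)
    (show r5 ∈ J S.XZ 6 7 from hr5)
  have hr : r6 ∈ J S.XZ 7 7 := hr6
  have hx7 := mem_of_J_self hr (by norm_num)
  obtain ⟨a, rfl⟩ := S.X3 hx3
  obtain ⟨p, w, rfl⟩ := S.X4 hx4
  obtain ⟨b, rfl⟩ := S.X5 hx5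
  obtain ⟨p', w', rfl⟩ := S.X6 hx6
  obtain ⟨s, rfl⟩ := S.X7 hx7
  exact ⟨a, p, w, b, p', w', s, rfl⟩

theorem rr_zero (u a w b w' : F) : S.e 1 0 u * rr S a 0 w b 0 w' 0 = qq S u a w b w' := by
  unfold rr qq
  rw [S.o_zero, mul_one]

theorem kJ_mid {u v q : F} {r : G} (h1 : S.e 1 0 u * r * S.e 4 0 v * S.e 2 q 0 = S.e 2 q 0 * (S.e 1 0 u * r * S.e 4 0 v)) :
    r * S.e 2 q 0 = S.e 2 q 0 * r := by
  have a1 : S.e 1 0 u * S.e 2 q 0 = S.e 2 q 0 * S.e 1 0 u := by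
    have : S.e 1 0 u * S.e 2 q 0 = S.e 2 q 0 * S.e 1 0 u * S.o 1 (0 * q) := S.e_e1 1 0 u q 0
    rwa [zero_mul, S.o_zero, mul_one] at this
  have a2 : S.e 2 q 0 * S.e 4 0 v = S.e 4 0 v * S.e 2 q 0 := by
    have := S.e_e2 2 q 0 0 v
    exact this
  have h2 : S.e 1 0 u * (r * S.e 2 q 0) * S.e 4 0 v = S.e 1 0 u * (S.e 2 q 0 * r) * S.e 4 0 v := by
    calc S.e 1 0 u * (r * S.e 2 q 0) * S.e 4 0 v = S.e 1 0 u * r * (S.e 2 q 0 * S.e 4 0 v) := by group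
      _ = S.e 1 0 u * r * S.e 4 0 v * S.e 2 q 0 := by rw [a2]; group
      _ = (S.e 2 q 0 * S.e 1 0 u) * r * S.e 4 0 v := by rw [h1]; group
      _ = _ := by rw [← a1]; group
  exact mul_left_cancel (mul_right_cancel h2)

theorem kJ (hq : 2 < Nat.card F) : ∀ c ∈ NK (Xf S) (Yf S), (∀ x ∈ Xf S 0, c * x = x * c) → c ∈ Q2 (Yf S) ⊔ Yf S 4 := by
  intro c hc h
  rw [NK_eq] at hc
  rw [Q2_eq, Yf4]
  obtain ⟨u, v, r, hr, rfl⟩ := S.mem_NO_iff.1 hc
  obtain ⟨a, p, w, b, p', w', s, rfl⟩ := exists_rr S hr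
  have key : ∀ q, rr S a p w b p' w' s * S.e 2 q 0 = S.e 2 q 0 * rr S a p w b p' w' s := fun q =>
    kJ_mid S (u := u) (v := v) (h (S.e 2 q 0) (S.mX4 q 0))
  obtain ⟨k1, k2, k3⟩ := kJ_aux S (q := 1) (key 1)
  rw [map_one, mul_one, one_mul] at k1
  rw [one_mul] at k2 k3
  have hp : p = 0 := by
    rcases fix_σ S k1 with h0 | h0
    · exact h0
    · exfalso
      obtain ⟨q, hq0, hq1, hq2⟩ := exists_moved S hq
      obtain ⟨k4, -, -⟩ := kJ_aux S (q := q) (key q)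
      rw [h0, map_one, one_mul, mul_one, add_comm] at k4
      exact hq2 k4
  subst hp k2 k3
  rw [rr_zero]
  exact mul_mem (Subgroup.mem_sup_left (qq_mem S u a w b w')) (Subgroup.mem_sup_right ⟨v, rfl⟩)

theorem exists_Tk_ne (hq : 2 < Nat.card F) (k : ℤ) : ∃ t ∈ S.Tk k, t ≠ 1 := by
  obtain ⟨x, hx0, hx1, -⟩ := exists_moved S hq
  have hu : Units.mk0 x hx0 ≠ 1 := fun h => hx1 (congrArg Units.val h)
  obtain ⟨a, h | h⟩ := Int.even_or_odd' k
  · refine ⟨S.ck a (S.h 1 (Units.mk0 x hx0)), ?_, ?_⟩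
    · have := S.ck_Tk a (k := 0) (t := S.h 1 (Units.mk0 x hx0)) (S.mem_Tk_zero.2 ⟨_, rfl⟩)
      rw [h]
      rwa [zero_add] at this
    · intro h1
      rw [map_eq_one_iff _ (S.ck a).injective, ← S.h_one] at h1
      exact hu (S.h_inj _ _ _ _ h1).2
  · refine ⟨S.ck a (S.h (Units.mk0 x hx0) (Units.mk0 x hx0)⁻¹), ?_, ?_⟩
    · have := S.ck_Tk a (k := 1) (t := S.h (Units.mk0 x hx0) (Units.mk0 x hx0)⁻¹) (S.mem_Tk_one.2 ⟨_, rfl⟩)
      rw [h]
      rwa [add_comm] at this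
    · intro h1
      rw [map_eq_one_iff _ (S.ck a).injective, ← S.h_one] at h1
      exact hu (S.h_inj _ _ _ _ h1).1

theorem kT (hq : 2 < Nat.card F) : ∀ c ∈ NK (Xf S) (Yf S), (∀ h ∈ Tf S 0, c * h = h * c) → c ∈ Xf S 0 := by
  intro c hc h
  rw [NK_eq] at hc
  obtain ⟨t, ht, ht1⟩ := exists_Tk_ne S hq 4
  have h1 : t * c * t⁻¹ = c := by rw [← h t ht, mul_inv_cancel_right]
  exact S.fix_J (k := 4) ht ht1 (a := 2) (b := 8) (by norm_num) (by norm_num) (by norm_num) hc.1 h1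

theorem tf : ∀ h ∈ Tf S 0, (∀ y ∈ Xf S (-1), h * y = y * h) → h = 1 := by
  intro h hh hy
  by_contra h1
  have h2 : S.o 1 1 = 1 := S.fpf (k := 4) (j := 3) (by norm_num) hh h1 (S.mX3 1) (by
    rw [hy _ (S.mX3 1), mul_inv_cancel_right])
  exact one_ne_zero (S.o_eq_one h2)

end Cfsg.Agent.OddHalf.D7TwF4.Growth.KInst

end

-- merged: Cfsg.Agent.OddHalf.D7TwF4.Growth.KNh
section

/-!
# Growth of the doubled root groups of `²F₄(q)`: weights (helper517)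

* `NH` : the weight lemma; `nh1`, `nh2`.
-/

set_option autoImplicit false
set_option linter.unusedSectionVars false

namespace Cfsg.Agent.OddHalf.D7TwF4.Growth.KInst

open Cfsg.Agent.KFacts.TwF4 Cfsg.Agent.SplitTwo.ZS Cfsg.Agent.OddHalf.D7TwF4.Growth.Defs
open Cfsg.Agent.KFacts.TwF4.AutTau
open scoped commutatorElement

universe u

variable {F : Type*} [Field F] {σ : F →+* F} {G : Type u} [Group G] (S : Full σ G)

include S in
/-- the weight lemma -/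
theorem NH (hq : 2 < Nat.card F) (α β : F →+* F) (hα : Function.Surjective α) (f : F → F)
    (hadd : ∀ x y, f (x + y) = f x + f y) (hf : ∀ r : F, r ≠ 0 → ∀ x, f (α r * x) = β (r * σ r) * f x) (x : F) :
    f x = 0 := by
  obtain ⟨r, hr0, hr1, hr⟩ := exists_moved S hq
  have h1 : f 1 = 0 := by
    have e1 := hf r hr0 1
    have hr2 : r + 1 ≠ 0 := by
      intro h
      apply hr1
      have h2 := S.add_self (1 : F)
      linear_combination h - h2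
    have e2 := hf (r + 1) hr2 1
    rw [mul_one] at e1 e2
    rw [map_add, map_one, hadd, e1, map_add σ, map_one] at e2
    have e3 : β (r + σ r) * f 1 = 0 := by
      rw [show (r + 1) * (σ r + 1) = r * σ r + (r + σ r) + 1 by ring, map_add β, map_add β, map_one] at e2
      linear_combination -e2
    rcases mul_eq_zero.1 e3 with h | h
    · exact absurd ((map_eq_zero β).1 h) hr
    · exact h
  by_cases hx : x = 0
  · have e1 := hadd 0 0
    rw [add_zero] at e1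
    rw [hx]
    exact left_eq_add.1 e1
  · obtain ⟨s, rfl⟩ := hα x
    have hs : s ≠ 0 := fun h => hx (by rw [h, map_zero])
    have := hf s hs 1
    rw [mul_one, h1, mul_zero] at this
    exact this

theorem Tfm1 : Tf S (-1) = S.Tk (2 * 1 + 1) := by
  have e : (4 : ℤ) + -1 = 2 * 1 + 1 := by norm_num
  unfold Tf
  rw [e]

theorem Tf4 : Tf S 4 = S.Tk (2 * 4) := by
  have e : (4 : ℤ) + 4 = 2 * 4 := by norm_num
  unfold Tf
  rw [e]

theorem T3_mem (R : Fˣ) : S.h R⁻¹ (R / Units.map (σ : F →* F) R) ∈ Tf S (-1) := by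
  rw [Tfm1, mem_Tk_odd]
  have h1 : chO σ ((1 : ℤ) : ZMod 8) R⁻¹ (R / Units.map (σ : F →* F) R) =
      chE σ 1 R⁻¹ (R / Units.map (σ : F →* F) R) * chE σ 2 R⁻¹ (R / Units.map (σ : F →* F) R) := rfl
  rw [h1, chE_one, chE_two, map_div, map_map σ S.sq R, div_inv_eq_mul]
  generalize Units.map (σ : F →* F) R = R'
  have h2 : R' / (R * R) * R = R' / R := by rw [div_mul_eq_mul_div, mul_div_mul_right_eq_div]
  rw [pow_two, h2, div_mul_div_cancel, div_self']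

theorem T8_mem (R : Fˣ) : S.h 1 R ∈ Tf S 4 := by
  rw [Tf4, mem_Tk_even]
  have h1 : chE σ ((4 : ℤ) : ZMod 8) 1 R = 1⁻¹ := rfl
  rw [h1, inv_one]

theorem T3_act7 (R : Fˣ) (x : F) : S.h R⁻¹ (R / Units.map (σ : F →* F) R) * S.o 3 x *
    (S.h R⁻¹ (R / Units.map (σ : F →* F) R))⁻¹ = S.o 3 ((R : F) * (R : F) * x) := by
  have h1 := S.h_o R⁻¹ (R / Units.map (σ : F →* F) R) 3 x
  have h2 : chO σ 3 R⁻¹ (R / Units.map (σ : F →* F) R) =
      chE σ 3 R⁻¹ (R / Units.map (σ : F →* F) R) * chE σ 4 R⁻¹ (R / Units.map (σ : F →* F) R) := rfl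
  rw [h1, h2, chE_three, chE_four, map_inv, div_inv_eq_mul, div_mul_cancel, inv_inv, Units.val_mul]

theorem T3_act6 (R : Fˣ) (x : F) : S.h R⁻¹ (R / Units.map (σ : F →* F) R) * S.e 3 0 x *
    (S.h R⁻¹ (R / Units.map (σ : F →* F) R))⁻¹ = S.e 3 0 ((R : F) * σ (R : F) * x) := by
  have h1 := S.h_e R⁻¹ (R / Units.map (σ : F →* F) R) 3 0 x
  have h2 : chE σ 3 R⁻¹ (R / Units.map (σ : F →* F) R) =
      (R / Units.map (σ : F →* F) R) / Units.map (σ : F →* F) R⁻¹ := rfl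
  rw [h1, h2, map_inv, div_inv_eq_mul, div_mul_cancel, mul_zero]

theorem T8_act4 (R : Fˣ) (x : F) : S.h 1 R * S.e 2 x 0 * (S.h 1 R)⁻¹ = S.e 2 (σ (R : F) * x) 0 := by
  have h1 := S.h_e 1 R 2 x 0
  have h2 : chE σ 2 1 R = Units.map (σ : F →* F) R / 1 := rfl
  rw [h1, h2, div_one, mul_zero]
  rfl

theorem T8_qq (R : Fˣ) (u s v w z : F) : S.h 1 R * qq S u s v w z * (S.h 1 R)⁻¹ =
    qq S ((R : F) * σ (R : F) * u) ((R : F) * σ (R : F) * s) (σ ((R : F) * σ (R : F)) * v) ((R : F) * σ (R : F) * w)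
      ((R : F) * σ (R : F) * z) := by
  have e1 : chE σ 1 1 R = R := chE_one _ 1 R
  have e2 : chE σ 2 1 R = Units.map (σ : F →* F) R := by rw [chE_two, div_one]
  have e3 : chE σ 3 1 R = R := by rw [chE_three, map_one, div_one]
  have o1 : chO σ 1 1 R = R * Units.map (σ : F →* F) R := by
    have : chO σ 1 1 R = chE σ 1 1 R * chE σ 2 1 R := rfl
    rw [this, e1, e2]
  have o2 : chO σ 2 1 R = R * Units.map (σ : F →* F) R := by
    have : chO σ 2 1 R = chE σ 2 1 R * chE σ 3 1 R := rfl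
    rw [this, e2, e3, mul_comm]
  have m1 : ((Units.map (σ : F →* F) R : Fˣ) : F) = σ (R : F) := rfl
  rw [qq_conj, e1, e2, e3, o1, o2, Units.val_mul, m1, map_mul]

theorem nh1 (hq : 2 < Nat.card F) : ∀ f : G → G, (∀ a ∈ Xf S 3, f a ∈ Yf S 2) →
    (∀ a ∈ Xf S 3, ∀ b ∈ Xf S 3, f (a * b) = f a * f b) →
    (∀ h ∈ Tf S (-1), ∀ a ∈ Xf S 3, f (h * a * h⁻¹) = h * f a * h⁻¹) → ∀ a ∈ Xf S 3, f a = 1 := by
  intro f f1 f2 f3
  rw [Yf2] at f1
  have : Finite F := Nat.finite_of_card_ne_zero (by omega)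
  have hσs : Function.Surjective σ := Finite.surjective_of_injective σ.injective
  have ex : ∀ t, ∃ z, S.e 3 0 z = f (S.o 3 t) := fun t => by
    obtain ⟨z, hz⟩ := f1 _ (S.mX7 t)
    exact ⟨z, hz⟩
  choose g hg using ex
  have hadd : ∀ x y, g (x + y) = g x + g y := by
    intro x y
    have h1 := f2 _ (S.mX7 x) _ (S.mX7 y)
    rw [S.o_add, ← hg, ← hg, ← hg, S.e_mul_Zc] at h1
    exact (S.injE 3 _ _ _ _ h1).2
  have hw : ∀ r : F, r ≠ 0 → ∀ x, g (σ (σ r) * x) = (r * σ r) * g x := by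
    intro r hr x
    have h1 := f3 _ (T3_mem S (Units.mk0 r hr)) _ (S.mX7 x)
    rw [T3_act7, ← hg, ← hg, T3_act6] at h1
    have h2 := (S.injE 3 _ _ _ _ h1).2
    rw [Units.val_mk0] at h2
    rw [S.sq, pow_two]
    exact h2
  have key : ∀ t, g t = 0 := NH S hq (σ.comp σ) (RingHom.id F) (hσs.comp hσs) g hadd hw
  intro a ha
  obtain ⟨t, rfl⟩ := S.X7 ha
  rw [← hg, key, S.e_zero]

theorem nh2 (hq : 2 < Nat.card F) : ∀ f : G → G, (∀ a ∈ Xf S 0, f a ∈ Q2 (Yf S)) →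
    (∀ a ∈ Xf S 0, ∀ b ∈ Xf S 0, f (a * b) = f a * f b) → (∀ a ∈ Yf S 0, f a = 1) →
    (∀ h ∈ Tf S 4, ∀ a ∈ Xf S 0, f (h * a * h⁻¹) = h * f a * h⁻¹) → ∀ a ∈ Xf S 0, f a = 1 := by
  intro f f1 f2 f3 f4
  rw [Q2_eq] at f1
  rw [Yf0] at f3
  have : Finite F := Nat.finite_of_card_ne_zero (by omega)
  have hσs : Function.Surjective σ := Finite.surjective_of_injective σ.injective
  have fz : ∀ p w, f (S.e 2 p w) = f (S.e 2 p 0) := by
    intro p w
    have e1 : S.e 2 p w = S.e 2 p 0 * S.e 2 0 w := by rw [S.e_mul]; simp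
    rw [e1, f2 _ (S.mX4 p 0) _ (S.mX4 0 w), f3 _ ⟨w, rfl⟩, mul_one]
  have ex : ∀ p, ∃ u s v w z, qq S u s v w z = f (S.e 2 p 0) := fun p => (mem_Q2 S).1 (f1 _ (S.mX4 p 0))
  choose g1 g2 g3 g4 g5 hg using ex
  have hadd : ∀ x y, qq S (g1 (x + y)) (g2 (x + y)) (g3 (x + y)) (g4 (x + y)) (g5 (x + y)) =
      qq S (g1 x + g1 y) (g2 x + g2 y) (g3 x + g3 y) (g4 x + g4 y) (g5 x + g5 y) := by
    intro x y
    rw [← qq_mul, hg, hg, hg, ← f2 _ (S.mX4 x 0) _ (S.mX4 y 0), S.e_mul]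
    exact (fz (x + y) _).symm
  have hw : ∀ r : F, r ≠ 0 → ∀ x, qq S (g1 (σ r * x)) (g2 (σ r * x)) (g3 (σ r * x)) (g4 (σ r * x)) (g5 (σ r * x)) =
      qq S (r * σ r * g1 x) (r * σ r * g2 x) (σ (r * σ r) * g3 x) (r * σ r * g4 x) (r * σ r * g5 x) := by
    intro r hr x
    have h1 := f4 _ (T8_mem S (Units.mk0 r hr)) _ (S.mX4 x 0)
    rw [T8_act4, ← hg x, T8_qq] at h1
    rw [hg]
    exact h1
  have k1 := NH S hq σ (RingHom.id F) hσs g1 (fun x y => (qq_inj S (hadd x y)).1)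
    (fun r hr x => (qq_inj S (hw r hr x)).1)
  have k2 := NH S hq σ (RingHom.id F) hσs g2 (fun x y => (qq_inj S (hadd x y)).2.1)
    (fun r hr x => (qq_inj S (hw r hr x)).2.1)
  have k3 := NH S hq σ σ hσs g3 (fun x y => (qq_inj S (hadd x y)).2.2.1)
    (fun r hr x => (qq_inj S (hw r hr x)).2.2.1)
  have k4 := NH S hq σ (RingHom.id F) hσs g4 (fun x y => (qq_inj S (hadd x y)).2.2.2.1)
    (fun r hr x => (qq_inj S (hw r hr x)).2.2.2.1)
  have k5 := NH S hq σ (RingHom.id F) hσs g5 (fun x y => (qq_inj S (hadd x y)).2.2.2.2)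
    (fun r hr x => (qq_inj S (hw r hr x)).2.2.2.2)
  intro a ha
  obtain ⟨p, w, rfl⟩ := S.X4 ha
  rw [fz, ← hg, k1, k2, k3, k4, k5, qq_zero]

end Cfsg.Agent.OddHalf.D7TwF4.Growth.KInst

end

-- merged: Cfsg.Agent.OddHalf.D7TwF4.Growth.KGenr
section

/-!
# Growth of the doubled root groups of `²F₄(q)`: generation of `NK` (helper517)

* `k2` : `NK` is generated by `Z_8`, the conjugates of `Z_2` under `X_9`, and `EK`.
-/

set_option autoImplicit false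
set_option linter.unusedSectionVars false

namespace Cfsg.Agent.OddHalf.D7TwF4.Growth.KInst

open Cfsg.Agent.KFacts.TwF4 Cfsg.Agent.SplitTwo.ZS Cfsg.Agent.OddHalf.D7TwF4.Growth.Defs
open scoped commutatorElement

universe u

variable {F : Type*} [Field F] {σ : F →+* F} {G : Type u} [Group G] (S : Full σ G)

include S in
/-- the algebra of `k2`, in an abelian group -/
theorem alg0 (hq : 4 < Nat.card F) {M : Type*} [AddCommGroup M] (f3 f4 f6 f7 : F →+ M)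
    (h : ∀ t v, f7 (t * σ t * σ v) + f6 (σ t * v) + f4 (t * v) + f3 (t * σ v) = 0) :
    (∀ x, f3 x = 0) ∧ (∀ x, f4 x = 0) ∧ (∀ x, f6 x = 0) ∧ ∀ x, f7 x = 0 := by
  classical
  have hfin : Finite F := Nat.finite_of_card_ne_zero (by omega)
  have hσs : Function.Surjective σ := Finite.surjective_of_injective σ.injective
  have c2 : ∀ (f : F →+ M) x, f x + f x = 0 := fun f x => by rw [← map_add, S.add_self, map_zero]
  obtain ⟨x, hx0, hx1, hx⟩ := exists_moved S (by omega)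
  -- `f7 = 0`
  have h7 : ∀ y, f7 y = 0 := by
    intro y
    obtain ⟨v, hv⟩ := hσs (y / (x + σ x))
    have e1 := h (1 + x) v
    have e2 := h 1 v
    have e3 := h x v
    have e0 : (1 + x) * σ (1 + x) * σ v = 1 * σ 1 * σ v + x * σ x * σ v + y := by
      have : y = (x + σ x) * σ v := by rw [hv, mul_div_cancel₀ _ hx]
      rw [this, map_add, map_one]; ring
    rw [e0, map_add σ, add_mul (σ 1), add_mul 1 x, add_mul 1 x, map_add, map_add, map_add, map_add, map_add] at e1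
    have e4 : f7 y = (f7 (1 * σ 1 * σ v) + f7 (x * σ x * σ v) + f7 y + (f6 (σ 1 * v) + f6 (σ x * v)) +
      (f4 (1 * v) + f4 (x * v)) + (f3 (1 * σ v) + f3 (x * σ v))) -
      (f7 (1 * σ 1 * σ v) + f6 (σ 1 * v) + f4 (1 * v) + f3 (1 * σ v)) -
      (f7 (x * σ x * σ v) + f6 (σ x * v) + f4 (x * v) + f3 (x * σ v)) := by abel
    rw [e4, e1, e2, e3, sub_zero, sub_zero]
  -- the form in `r`, `w`
  have hr : ∀ r : F, r ≠ 0 → ∀ w, f6 (r * w) + f4 w + f3 (r⁻¹ * σ w) = 0 := by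
    intro r hr w
    have hσr : σ r ≠ 0 := (map_ne_zero σ).2 hr
    have e1 := h (r * σ r) (w / (r * σ r))
    rw [h7, zero_add] at e1
    have a1 : σ (r * σ r) * (w / (r * σ r)) = r * w := by
      rw [map_mul, S.sq]; field_simp
    have a2 : r * σ r * (w / (r * σ r)) = w := by field_simp
    have a3 : r * σ r * σ (w / (r * σ r)) = r⁻¹ * σ w := by
      rw [map_div₀, map_mul, S.sq]; field_simp
    rw [a1, a2, a3] at e1
    exact e1
  -- `f4 w = f3 (κ σ w)`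
  have hk : ∀ r : F, r ≠ 0 → r ≠ 1 → ∀ w, f4 w + f3 ((1 + r⁻¹ + (1 + r)⁻¹) * σ w) = 0 := by
    intro r hr0 hr1 w
    have hr2 : 1 + r ≠ 0 := by
      intro h0
      apply hr1
      have h2 := S.add_self (1 : F)
      linear_combination h0 - h2
    have e1 := hr 1 one_ne_zero w
    have e2 := hr r hr0 w
    have e3 := hr (1 + r) hr2 w
    rw [add_mul, map_add] at e3
    rw [inv_one] at e1
    have e4 : f4 w + f3 ((1 + r⁻¹ + (1 + r)⁻¹) * σ w) = (f6 (1 * w) + f4 w + f3 (1 * σ w)) +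
        (f6 (r * w) + f4 w + f3 (r⁻¹ * σ w)) + (f6 (1 * w) + f6 (r * w) + f4 w + f3 ((1 + r)⁻¹ * σ w)) -
        (f6 (1 * w) + f6 (1 * w)) - (f6 (r * w) + f6 (r * w)) - (f4 w + f4 w) := by
      rw [add_mul, add_mul, map_add, map_add]; abel
    rw [e4, e1, e2, e3, c2, c2, c2]
    simp
  -- `f3 = 0`
  have h3 : ∀ y, f3 y = 0 := by
    obtain ⟨y, hy⟩ : ∃ y : F, y ∉ ({0, 1, x, x + 1} : Finset F) := by
      by_contra hcon
      push Not at hcon
      have := Fintype.ofFinite F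
      have h1 : (Finset.univ : Finset F) ⊆ {0, 1, x, x + 1} := fun a _ => hcon a
      have h2 := Finset.card_le_card h1
      rw [Finset.card_univ, ← Nat.card_eq_fintype_card] at h2
      have h3 : ({0, 1, x, x + 1} : Finset F).card ≤ 4 := Finset.card_le_four
      omega
    simp only [Finset.mem_insert, Finset.mem_singleton, not_or] at hy
    obtain ⟨hy0, hy1, hy2, hy3⟩ := hy
    have n1 : 1 + x ≠ 0 := by
      intro h0
      apply hx1
      have h2 := S.add_self (1 : F)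
      linear_combination h0 - h2
    have n2 : 1 + y ≠ 0 := by
      intro h0
      apply hy1
      have h2 := S.add_self (1 : F)
      linear_combination h0 - h2
    have n3 : x + y ≠ 0 := by
      intro h0
      apply hy2
      have h2 := S.add_self (x : F)
      linear_combination h0 - h2
    have n4 : 1 + x + y ≠ 0 := by
      intro h0
      apply hy3
      have h2 := S.add_self (1 + x : F)
      linear_combination h0 - h2
    have k1 : (1 + x⁻¹ + (1 + x)⁻¹) - (1 + y⁻¹ + (1 + y)⁻¹) ≠ 0 := by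
      have e : ((1 + x⁻¹ + (1 + x)⁻¹) - (1 + y⁻¹ + (1 + y)⁻¹)) * (x * (1 + x) * y * (1 + y)) =
          (x + y) * (1 + x + y) := by
        have h2 : (1 : F) + 1 = 0 := S.add_self 1
        have e1 : (1 + x⁻¹ + (1 + x)⁻¹) * (x * (1 + x)) = x * (1 + x) + (1 + x) + x := by field_simp
        have e2 : (1 + y⁻¹ + (1 + y)⁻¹) * (y * (1 + y)) = y * (1 + y) + (1 + y) + y := by field_simp
        linear_combination (y * (1 + y)) * e1 - (x * (1 + x)) * e2 + (-x - x^2 - x*y + x*y^2 - x^2*y) * h2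
      intro h0
      rw [h0, zero_mul] at e
      exact mul_ne_zero n3 n4 e.symm
    intro z
    obtain ⟨w, hw⟩ := hσs (z / ((1 + x⁻¹ + (1 + x)⁻¹) - (1 + y⁻¹ + (1 + y)⁻¹)))
    have e1 := hk x hx0 hx1 w
    have e2 := hk y hy0 hy1 w
    have e3 : z = (1 + x⁻¹ + (1 + x)⁻¹) * σ w - (1 + y⁻¹ + (1 + y)⁻¹) * σ w := by
      rw [← sub_mul, hw, mul_div_cancel₀ _ k1]
    rw [e3, map_sub]
    have e4 := congrArg₂ (fun a b => a - b) e1 e2
    simp only [add_sub_add_left_eq_sub, sub_zero] at e4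
    exact e4
  have h4 : ∀ w, f4 w = 0 := by
    intro w
    have := hk x hx0 hx1 w
    rwa [h3, add_zero] at this
  refine ⟨h3, h4, fun w => ?_, h7⟩
  have := hr 1 one_ne_zero w
  rwa [h3, h4, add_zero, add_zero, one_mul] at this

include S in
/-- the algebra of `k2` -/
theorem alg (hq : 4 < Nat.card F) {M : Type*} [AddCommGroup M] (B : AddSubgroup M) (f3 f4 f6 f7 : F →+ M)
    (h : ∀ t v, f7 (t * σ t * σ v) + f6 (σ t * v) + f4 (t * v) + f3 (t * σ v) ∈ B) :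
    (∀ x, f3 x ∈ B) ∧ (∀ x, f4 x ∈ B) ∧ (∀ x, f6 x ∈ B) ∧ ∀ x, f7 x ∈ B := by
  have h1 := alg0 S hq ((QuotientAddGroup.mk' B).comp f3) ((QuotientAddGroup.mk' B).comp f4)
    ((QuotientAddGroup.mk' B).comp f6) ((QuotientAddGroup.mk' B).comp f7) (fun t v => by
      simp only [AddMonoidHom.comp_apply]
      rw [← map_add, ← map_add, ← map_add]
      exact (QuotientAddGroup.eq_zero_iff _).2 (h t v))
  exact ⟨fun x => (QuotientAddGroup.eq_zero_iff _).1 (h1.1 x), fun x => (QuotientAddGroup.eq_zero_iff _).1 (h1.2.1 x),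
    fun x => (QuotientAddGroup.eq_zero_iff _).1 (h1.2.2.1 x), fun x => (QuotientAddGroup.eq_zero_iff _).1 (h1.2.2.2 x)⟩


/-! ### the group -/

/-- `X_3 ⋯ X_7` centralises `EK` -/
theorem EK_cent {y : G} (hy : y ∈ J S.XZ 3 7) {E : G} (hE : E ∈ EK (Yf S)) : y * E = E * y := by
  have h5 : ∀ b, J S.XZ 3 7 ≤ Subgroup.centralizer {S.o 2 b} := by
    intro b
    refine J_le fun k h1 h2 x hx => Subgroup.mem_centralizer_singleton_iff.2 ?_
    interval_cases k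
    · obtain ⟨t, rfl⟩ := S.X3 hx
      exact S.o_o1 1 t b
    · obtain ⟨p, u, rfl⟩ := S.X4 hx
      exact S.e_o0 2 p u b
    · obtain ⟨t, rfl⟩ := S.X5 hx
      rw [S.o_add, S.o_add, add_comm]
    · obtain ⟨p, u, rfl⟩ := S.X6 hx
      exact (S.o_e1 2 b p u).symm
    · obtain ⟨t, rfl⟩ := S.X7 hx
      exact (S.o_o1 2 b t).symm
  have hy' : y ∈ J S.XZ 2 8 := J_mono (by norm_num) (by norm_num) hy
  have h : EK (Yf S) ≤ Subgroup.centralizer {y} := by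
    rw [EK_eq]
    refine sup_le (sup_le ?_ ?_) ?_
    · rintro _ ⟨u, rfl⟩
      exact Subgroup.mem_centralizer_singleton_iff.2 (S.W46_comm hy' (S.Z4_W46 u)).symm
    · intro x hx
      obtain ⟨t, rfl⟩ := S.X5 hx
      exact Subgroup.mem_centralizer_singleton_iff.2 (Subgroup.mem_centralizer_singleton_iff.1 (h5 t hy)).symm
    · rintro _ ⟨u, rfl⟩
      exact Subgroup.mem_centralizer_singleton_iff.2 (S.W46_comm hy' (S.Z6_W46 u)).symm
  exact (Subgroup.mem_centralizer_singleton_iff.1 (h hE)).symm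

/-- representatives of `X_3 ⋯ X_7` modulo `EK` -/
def rq (a p c s : F) : G := S.o 1 a * (S.e 2 p 0 * (S.e 3 c 0 * S.o 3 s))

theorem rq_mem (a p c s : F) : rq S a p c s ∈ J S.XZ 3 7 :=
  mul_mem (mem_J (S.mX3 a) (by norm_num) (by norm_num)) (mul_mem (mem_J (S.mX4 p 0) (by norm_num) (by norm_num))
    (mul_mem (mem_J (S.mX6 c 0) (by norm_num) (by norm_num)) (mem_J (S.mX7 s) (by norm_num) (by norm_num))))

theorem mmE {a₁ R₁ a₂ R₂ E : G} (h : R₁ * a₂ = a₂ * R₁ * E) (hE : R₂ * E = E * R₂) :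
    (a₁ * R₁) * (a₂ * R₂) = (a₁ * a₂) * (R₁ * R₂) * E := by
  calc (a₁ * R₁) * (a₂ * R₂) = a₁ * (R₁ * a₂) * R₂ := by group
    _ = a₁ * (a₂ * R₁) * (E * R₂) := by rw [h]; group
    _ = _ := by rw [← hE]; group

theorem inv_self_mul {x c z : G} {y : G} (h : x * y = y * x * c) (hc : c * c = 1) (hz : x * y = z) : y * x = z * c := by
  rw [← hz, h, mul_assoc, hc, mul_one]

theorem rq_mul (a p c s a' p' c' s' : F) : ∃ E ∈ EK (Yf S), rq S a p c s * rq S a' p' c' s' =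
    rq S (a + a') (p + p') (c + c') (s + s') * E := by
  have j3 : ∀ t, S.o 1 t ∈ J S.XZ 3 7 := fun t => mem_J (S.mX3 t) (by norm_num) (by norm_num)
  have j4 : ∀ t u, S.e 2 t u ∈ J S.XZ 3 7 := fun t u => mem_J (S.mX4 t u) (by norm_num) (by norm_num)
  have j6 : ∀ t u, S.e 3 t u ∈ J S.XZ 3 7 := fun t u => mem_J (S.mX6 t u) (by norm_num) (by norm_num)
  have j7 : ∀ t, S.o 3 t ∈ J S.XZ 3 7 := fun t => mem_J (S.mX7 t) (by norm_num) (by norm_num)
  have sq4 : ∀ u, S.e 2 0 u * S.e 2 0 u = 1 := fun u => by rw [S.e_mul_Zc, S.add_self, S.e_zero]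
  have sq6 : ∀ u, S.e 3 0 u * S.e 3 0 u = 1 := fun u => by rw [S.e_mul_Zc, S.add_self, S.e_zero]
  have sq5 : ∀ u, S.o 2 u * S.o 2 u = 1 := fun u => by rw [S.o_add, S.add_self, S.o_zero]
  -- the last two factors
  have l1 : (S.e 3 c 0 * S.o 3 s) * (S.e 3 c' 0 * S.o 3 s') =
      (S.e 3 (c + c') 0 * S.o 3 (s + s')) * S.e 3 0 (c * σ c') := by
    rw [mmc (S.e_o0 3 c' 0 s).symm, S.o_add, S.e_mul, zero_add, zero_add]
    have e1 : S.e 3 (c + c') (c * σ c') = S.e 3 (c + c') 0 * S.e 3 0 (c * σ c') := by rw [S.e_mul]; simp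
    rw [e1, mul_assoc, mul_assoc, EK_cent S (j7 _) (EK_six S _)]
  -- the last three
  have c76 : S.o 3 s * S.e 2 p' 0 = S.e 2 p' 0 * S.o 3 s * S.e 3 0 (p' * s) := by
    have h1 : S.e 2 p' 0 * S.o 3 s = S.o 3 s * S.e 2 p' 0 * S.e 3 0 (p' * s) := S.e_o1 2 p' 0 s
    exact inv_self_mul h1 (sq6 _) rfl
  have c64 : S.e 3 c 0 * S.e 2 p' 0 = S.e 2 p' 0 * S.e 3 c 0 * S.o 2 (p' * c) := by
    have h1 : S.e 2 p' 0 * S.e 3 c 0 = S.e 3 c 0 * S.e 2 p' 0 * S.o 2 (p' * c) := S.e_e1 2 p' 0 c 0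
    exact inv_self_mul h1 (sq5 _) rfl
  have r2 : (S.e 3 c 0 * S.o 3 s) * S.e 2 p' 0 = S.e 2 p' 0 * (S.e 3 c 0 * S.o 3 s) *
      (S.o 2 (p' * c) * S.e 3 0 (p' * s)) := by
    calc (S.e 3 c 0 * S.o 3 s) * S.e 2 p' 0 = S.e 3 c 0 * (S.o 3 s * S.e 2 p' 0) := by group
      _ = (S.e 3 c 0 * S.e 2 p' 0) * S.o 3 s * S.e 3 0 (p' * s) := by rw [c76]; group
      _ = S.e 2 p' 0 * S.e 3 c 0 * (S.o 2 (p' * c) * S.o 3 s) * S.e 3 0 (p' * s) := by rw [c64]; group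
      _ = _ := by rw [← EK_cent S (j7 _) (EK_five S _)]; group
  have E2 : S.o 2 (p' * c) * S.e 3 0 (p' * s) ∈ EK (Yf S) := mul_mem (EK_five S _) (EK_six S _)
  have l2 : (S.e 2 p 0 * (S.e 3 c 0 * S.o 3 s)) * (S.e 2 p' 0 * (S.e 3 c' 0 * S.o 3 s')) =
      (S.e 2 (p + p') 0 * (S.e 3 (c + c') 0 * S.o 3 (s + s'))) *
        (S.e 2 0 (p * σ p') * S.e 3 0 (c * σ c') * (S.o 2 (p' * c) * S.e 3 0 (p' * s))) := by
    rw [mmE r2 (EK_cent S (mul_mem (j6 _ _) (j7 _)) E2), l1, S.e_mul, zero_add, zero_add]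
    have e1 : S.e 2 (p + p') (p * σ p') = S.e 2 (p + p') 0 * S.e 2 0 (p * σ p') := by rw [S.e_mul]; simp
    rw [e1]
    have e2 := EK_cent S (mul_mem (j6 (c + c') 0) (j7 (s + s'))) (EK_four S (p * σ p'))
    calc S.e 2 (p + p') 0 * S.e 2 0 (p * σ p') * (S.e 3 (c + c') 0 * S.o 3 (s + s') * S.e 3 0 (c * σ c')) *
          (S.o 2 (p' * c) * S.e 3 0 (p' * s)) =
        S.e 2 (p + p') 0 * (S.e 2 0 (p * σ p') * (S.e 3 (c + c') 0 * S.o 3 (s + s'))) * S.e 3 0 (c * σ c') *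
          (S.o 2 (p' * c) * S.e 3 0 (p' * s)) := by group
      _ = _ := by rw [← e2]; group
  -- all
  have c31 : S.o 3 s * S.o 1 a' = S.o 1 a' * S.o 3 s := (S.o_o2 1 a' s).symm
  have c63 : S.e 3 c 0 * S.o 1 a' = S.o 1 a' * S.e 3 c 0 * S.e 2 0 (a' * c) := by
    have h1 : S.o 1 a' * S.e 3 c 0 = S.e 3 c 0 * S.o 1 a' * S.e 2 0 (a' * c) := S.o_e2 1 a' c 0
    exact inv_self_mul h1 (sq4 _) rfl
  have c43 : S.e 2 p 0 * S.o 1 a' = S.o 1 a' * S.e 2 p 0 := (S.o_e1 1 a' p 0).symm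
  have r1 : (S.e 2 p 0 * (S.e 3 c 0 * S.o 3 s)) * S.o 1 a' = S.o 1 a' * (S.e 2 p 0 * (S.e 3 c 0 * S.o 3 s)) *
      S.e 2 0 (a' * c) := by
    calc (S.e 2 p 0 * (S.e 3 c 0 * S.o 3 s)) * S.o 1 a' = S.e 2 p 0 * (S.e 3 c 0 * (S.o 3 s * S.o 1 a')) := by group
      _ = S.e 2 p 0 * (S.e 3 c 0 * S.o 1 a') * S.o 3 s := by rw [c31]; group
      _ = (S.e 2 p 0 * S.o 1 a') * S.e 3 c 0 * (S.e 2 0 (a' * c) * S.o 3 s) := by rw [c63]; group
      _ = _ := by rw [c43, ← EK_cent S (j7 _) (EK_four S _)]; group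
  refine ⟨(S.e 2 0 (p * σ p') * S.e 3 0 (c * σ c') * (S.o 2 (p' * c) * S.e 3 0 (p' * s))) * S.e 2 0 (a' * c),
    mul_mem (mul_mem (mul_mem (EK_four S _) (EK_six S _)) E2) (EK_four S _), ?_⟩
  unfold rq
  rw [mmE r1 (EK_cent S (mul_mem (j4 _ _) (mul_mem (j6 _ _) (j7 _))) (EK_four S _)), l2, S.o_add]
  group

/-- `⟨Z_8, Z_2^{X_9}⟩ EK` -/
noncomputable def AK : Subgroup G := Subgroup.closure {g | g ∈ Yf S 4 ∨ ∃ x ∈ Xf S 5, ∃ y ∈ Yf S (-2), g = x * y * x⁻¹} ⊔ EK (Yf S)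

theorem AK_EK {x : G} (h : x ∈ EK (Yf S)) : x ∈ AK S := Subgroup.mem_sup_right h

theorem AK_Z8 (v : F) : S.e 4 0 v ∈ AK S :=
  Subgroup.mem_sup_left (Subgroup.subset_closure (Or.inl (by rw [Yf4]; exact ⟨v, rfl⟩)))

theorem AK_conj (t v : F) : S.o 4 t * S.e 1 0 v * (S.o 4 t)⁻¹ ∈ AK S := by
  refine Subgroup.mem_sup_left (Subgroup.subset_closure (Or.inr ⟨S.o 4 t, ?_, S.e 1 0 v, ?_, rfl⟩))
  · have := S.o_mem 4 t
    exact this
  · rw [Yfm2]; exact ⟨v, rfl⟩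

theorem AK_Z2 (v : F) : S.e 1 0 v ∈ AK S := by
  have := AK_conj S 0 v
  rwa [S.o_zero, one_mul, inv_one, mul_one] at this

theorem e_inv (a : ZMod 8) (p u : F) : (S.e a p u)⁻¹ = S.e a p 0 * S.e a 0 (u + p * σ p) := by
  rw [inv_eq_iff_mul_eq_one, S.e_mul, S.e_mul, add_zero, S.add_self, map_zero, mul_zero, add_zero, zero_add]
  have h1 := S.add_self (u + p * σ p)
  rw [show u + (u + p * σ p) + p * σ p = u + p * σ p + (u + p * σ p) by ring, h1, S.e_zero]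

/-- the relation for `X_9` and `Z_2` -/
theorem rel9 (t v : F) : S.o 4 t * S.e 1 0 v = S.e 1 0 v * S.o 4 t * S.e 4 0 (t * σ t * v) * S.o 3 (t * σ t * σ v) *
    S.e 3 (σ t * v) (t * t * σ t * v * σ v) * S.o 2 (t * σ t * v * v) * S.e 2 (t * v) 0 * S.o 1 (t * σ v) := by
  have h1 := S.o_e4 0 t 0 v
  simp only [mul_zero, zero_mul, map_zero, zero_add, add_zero] at h1
  have h2 := congrArg (fun x => S.n1 * x * S.n1⁻¹) h1
  simp only [conj_mul', S.n1_o, S.n1_e] at h2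
  exact h2

/-- `⟨Z_8, Z_2^{X_9}⟩ EK` contains the commutators -/
theorem c_mem (t v : F) : rq S (t * σ v) (t * v) (σ t * v) (t * σ t * σ v) ∈ AK S := by
  have j3 : ∀ t, S.o 1 t ∈ J S.XZ 3 7 := fun t => mem_J (S.mX3 t) (by norm_num) (by norm_num)
  have j6 : ∀ t u, S.e 3 t u ∈ J S.XZ 3 7 := fun t u => mem_J (S.mX6 t u) (by norm_num) (by norm_num)
  have j7 : ∀ t, S.o 3 t ∈ J S.XZ 3 7 := fun t => mem_J (S.mX7 t) (by norm_num) (by norm_num)
  have h := rel9 S t v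
  generalize t * σ v = a at h ⊢
  generalize t * t * σ t * v * σ v = A3 at h
  generalize t * σ t * v * v = A4 at h
  generalize t * v = p at h ⊢
  generalize σ t * v = c at h ⊢
  generalize t * σ t * σ v = s at h ⊢
  generalize t * σ t * v = A1 at h
  have oi : ∀ (k : ZMod 8) x, (S.o k x)⁻¹ = S.o k x := fun k x => by
    rw [inv_eq_iff_mul_eq_one, S.o_add, S.add_self, S.o_zero]
  have e1 : S.o 3 s * S.e 3 c A3 * S.o 2 A4 * S.e 2 p 0 * S.o 1 a =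
      (S.e 4 0 A1)⁻¹ * ((S.o 4 t)⁻¹ * (S.e 1 0 v)⁻¹ * S.o 4 t * S.e 1 0 v) := by
    have e2 : (S.o 4 t)⁻¹ * (S.e 1 0 v)⁻¹ * S.o 4 t * S.e 1 0 v = (S.o 4 t)⁻¹ * (S.e 1 0 v)⁻¹ * (S.o 4 t * S.e 1 0 v) := by
      group
    rw [e2, h]
    group
  have m1 : S.o 3 s * S.e 3 c A3 * S.o 2 A4 * S.e 2 p 0 * S.o 1 a ∈ AK S := by
    rw [e1]
    refine mul_mem (inv_mem (AK_Z8 S _)) (mul_mem ?_ (AK_Z2 S v))
    have := inv_mem (AK_conj S t v)
    rw [mul_inv_rev, mul_inv_rev, inv_inv, ← mul_assoc] at this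
    rw [oi] at this ⊢
    exact this
  have m2 := inv_mem m1
  rw [mul_inv_rev, mul_inv_rev, mul_inv_rev, mul_inv_rev, oi, oi, oi, e_inv, e_inv, zero_add] at m2
  have e3 : S.o 1 a * (S.e 2 p 0 * S.e 2 0 (p * σ p) * (S.o 2 A4 * (S.e 3 c 0 * S.e 3 0 (A3 + c * σ c) * S.o 3 s))) =
      rq S a p c s * (S.e 2 0 (p * σ p) * S.o 2 A4 * S.e 3 0 (A3 + c * σ c)) := by
    have c1 := EK_cent S (j7 s) (EK_six S (A3 + c * σ c))
    have c2 := EK_cent S (mul_mem (j6 c 0) (j7 s)) (EK_five S A4)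
    have c3 := EK_cent S (mul_mem (j6 c 0) (j7 s)) (EK_four S (p * σ p))
    unfold rq
    calc S.o 1 a * (S.e 2 p 0 * S.e 2 0 (p * σ p) * (S.o 2 A4 * (S.e 3 c 0 * S.e 3 0 (A3 + c * σ c) * S.o 3 s))) =
        S.o 1 a * S.e 2 p 0 * S.e 2 0 (p * σ p) * S.o 2 A4 * S.e 3 c 0 * (S.e 3 0 (A3 + c * σ c) * S.o 3 s) := by group
      _ = S.o 1 a * S.e 2 p 0 * S.e 2 0 (p * σ p) * (S.o 2 A4 * (S.e 3 c 0 * S.o 3 s)) * S.e 3 0 (A3 + c * σ c) := by
        rw [← c1]; group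
      _ = S.o 1 a * S.e 2 p 0 * (S.e 2 0 (p * σ p) * (S.e 3 c 0 * S.o 3 s)) * S.o 2 A4 * S.e 3 0 (A3 + c * σ c) := by
        rw [← c2]; group
      _ = _ := by rw [← c3]; group
  rw [e3] at m2
  exact (Subgroup.mul_mem_cancel_right _ (AK_EK S (mul_mem (mul_mem (EK_four S _) (EK_five S _)) (EK_six S _)))).1 m2

/-- the parameters -/
noncomputable def BK : AddSubgroup (F × F × F × F) where
  carrier := {m | rq S m.1 m.2.1 m.2.2.1 m.2.2.2 ∈ AK S}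
  zero_mem' := by
    show rq S 0 0 0 0 ∈ AK S
    unfold rq
    rw [S.o_zero, S.e_zero, S.e_zero, S.o_zero]
    simp only [mul_one]
    exact one_mem _
  add_mem' := by
    rintro ⟨a, p, c, s⟩ ⟨a', p', c', s'⟩ h h'
    obtain ⟨E, hE, e⟩ := rq_mul S a p c s a' p' c' s'
    have h1 := mul_mem (show rq S a p c s ∈ AK S from h) (show rq S a' p' c' s' ∈ AK S from h')
    rw [e] at h1
    exact (Subgroup.mul_mem_cancel_right _ (AK_EK S hE)).1 h1
  neg_mem' := by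
    rintro ⟨a, p, c, s⟩ h
    have hn : ∀ x : F, -x = x := fun x => by
      have := S.add_self x
      exact (neg_eq_of_add_eq_zero_left this)
    show rq S (-a) (-p) (-c) (-s) ∈ AK S
    rw [hn, hn, hn, hn]
    exact h

theorem J37_le_AK (hq : 4 < Nat.card F) : J S.XZ 3 7 ≤ AK S := by
  obtain ⟨h3, h4, h6, h7⟩ := alg S hq (BK S) (AddMonoidHom.inl F (F × F × F))
    ((AddMonoidHom.inr F (F × F × F)).comp (AddMonoidHom.inl F (F × F)))
    ((AddMonoidHom.inr F (F × F × F)).comp ((AddMonoidHom.inr F (F × F)).comp (AddMonoidHom.inl F F)))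
    ((AddMonoidHom.inr F (F × F × F)).comp ((AddMonoidHom.inr F (F × F)).comp (AddMonoidHom.inr F F))) (by
      intro t v
      have := c_mem S t v
      have e : (((AddMonoidHom.inr F (F × F × F)).comp ((AddMonoidHom.inr F (F × F)).comp (AddMonoidHom.inr F F)))
          (t * σ t * σ v) + ((AddMonoidHom.inr F (F × F × F)).comp ((AddMonoidHom.inr F (F × F)).comp
          (AddMonoidHom.inl F F))) (σ t * v) + ((AddMonoidHom.inr F (F × F × F)).comp (AddMonoidHom.inl F (F × F)))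
          (t * v) + (AddMonoidHom.inl F (F × F × F)) (t * σ v)) = (t * σ v, t * v, σ t * v, t * σ t * σ v) := by
        simp
      rw [e]
      exact this)
  have k3 : ∀ x, S.o 1 x ∈ AK S := by
    intro x
    have : rq S x 0 0 0 ∈ AK S := h3 x
    unfold rq at this
    rw [S.e_zero, S.e_zero, S.o_zero, mul_one, mul_one, mul_one] at this
    exact this
  have k4 : ∀ x, S.e 2 x 0 ∈ AK S := by
    intro x
    have : rq S 0 x 0 0 ∈ AK S := h4 x
    unfold rq at this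
    rw [S.e_zero, S.o_zero, S.o_zero, mul_one, mul_one, one_mul] at this
    exact this
  have k6 : ∀ x, S.e 3 x 0 ∈ AK S := by
    intro x
    have : rq S 0 0 x 0 ∈ AK S := h6 x
    unfold rq at this
    rw [S.e_zero, S.o_zero, S.o_zero, mul_one, one_mul, one_mul] at this
    exact this
  have k7 : ∀ x, S.o 3 x ∈ AK S := by
    intro x
    have : rq S 0 0 0 x ∈ AK S := h7 x
    unfold rq at this
    rw [S.e_zero, S.e_zero, S.o_zero, one_mul, one_mul, one_mul] at this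
    exact this
  refine J_le fun k h1 h2 x hx => ?_
  interval_cases k
  · obtain ⟨t, rfl⟩ := S.X3 hx
    exact k3 t
  · obtain ⟨p, u, rfl⟩ := S.X4 hx
    have e : S.e 2 p u = S.e 2 p 0 * S.e 2 0 u := by rw [S.e_mul]; simp
    rw [e]
    exact mul_mem (k4 p) (AK_EK S (EK_four S u))
  · obtain ⟨t, rfl⟩ := S.X5 hx
    exact AK_EK S (EK_five S t)
  · obtain ⟨p, u, rfl⟩ := S.X6 hx
    have e : S.e 3 p u = S.e 3 p 0 * S.e 3 0 u := by rw [S.e_mul]; simp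
    rw [e]
    exact mul_mem (k6 p) (AK_EK S (EK_six S u))
  · obtain ⟨t, rfl⟩ := S.X7 hx
    exact k7 t

theorem k2 (hq : 4 < Nat.card F) : NK (Xf S) (Yf S) ≤
    Subgroup.closure {g | g ∈ Yf S 4 ∨ ∃ x ∈ Xf S 5, ∃ y ∈ Yf S (-2), g = x * y * x⁻¹} ⊔ EK (Yf S) := by
  rw [NK_eq]
  intro q hq'
  obtain ⟨u, v, r, hr, rfl⟩ := S.mem_NO_iff.1 hq'
  exact mul_mem (mul_mem (AK_Z2 S u) (J37_le_AK S hq hr)) (AK_Z8 S v)

end Cfsg.Agent.OddHalf.D7TwF4.Growth.KInst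

end

-- merged: Cfsg.Agent.OddHalf.D7TwF4.Growth.KAll
section

/-!
# Growth of the doubled root groups of `²F₄(q)`: all frames (helper517)

* `kbaseStd` : `KBase` in the standard frame; `kbase` : in all frames `k ↦ 2 c + ε k`, and in an overgroup `i : G → G'`;
* `KGen`, `kgen` : the fields of `Gen` which only speak about the root groups and the torus.
-/

set_option autoImplicit false
set_option linter.unusedSectionVars false

namespace Cfsg.Agent.OddHalf.D7TwF4.Growth.KInst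

open Cfsg.Agent.KFacts.TwF4 Cfsg.Agent.SplitTwo.ZS Cfsg.Agent.OddHalf.D7TwF4.Growth.Defs
open scoped commutatorElement

universe u

variable {F : Type*} [Field F] {σ : F →+* F} {G : Type u} [Group G] (S : Full σ G)

/-- **`KBase` in the standard frame.** -/
theorem kbaseStd (hq : 4 < Nat.card F) : KBase (Xf S) (Yf S) (Tf S) where
  x13 := x13 S
  x04 := x04 S
  r14 := r14 S
  r24z := r24z S
  r24 := r24 S
  r33 := r33 S
  r34z := r34z S
  r34 := r34 S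
  nk5 := nk5 S
  nk4 := nk4 S
  ka := ka S
  kb := kb S
  kc := kc S
  kJ := kJ S (by omega)
  kT := kT S (by omega)
  tf := tf S
  k2 := k2 S hq
  i01 := i01 S
  i012 := i012 S
  i1 := i1 S
  i2 := i2 S
  i3 := i3 S
  i4 := i4 S
  i5 := i5 S
  i6 := i6 S
  i7 := i7 S
  i8 := i8 S
  i9 := i9 S
  nh1 := nh1 S (by omega)
  nh2 := nh2 S (by omega)

/-! ### rotations -/

theorem YZ_ck (m k : ℤ) : (YZ S k).map (S.ck m).toMonoidHom = YZ S (k + 2 * m) := by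
  obtain ⟨a, h | h⟩ := Int.even_or_odd' k
  · rw [h, YZ_even, S.map_Zc, ← mul_add, YZ_even]
    push_cast
    rfl
  · rw [h, YZ_odd, S.map_X, show 2 * a + 1 + 2 * m = 2 * (a + m) + 1 by ring, YZ_odd]

theorem Tk_ck (m k : ℤ) : (S.Tk k).map (S.ck m).toMonoidHom = S.Tk (k + 2 * m) := by
  apply le_antisymm
  · rintro _ ⟨t, ht, rfl⟩
    exact S.ck_Tk m ht
  · intro t ht
    have h1 := S.ck_Tk (-m) ht
    rw [show k + 2 * m + 2 * -m = k by ring] at h1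
    refine ⟨S.ck (-m) t, h1, ?_⟩
    show S.ck m (S.ck (-m) t) = t
    rw [S.ck_apply, S.ck_apply]
    group

/-! ### the reflection `k ↦ 8 - k` -/

theorem XZ_n2 (k : ℤ) : (S.XZ k).map (MulAut.conj S.n2).toMonoidHom = S.XZ (8 - k) := by
  apply le_antisymm
  · rintro _ ⟨x, hx, rfl⟩
    exact S.n2_refl.mem hx
  · intro x hx
    have h1 := S.n2_refl.mem_inv (k := k) hx (by ring)
    refine ⟨S.n2⁻¹ * x * S.n2, h1, ?_⟩
    show S.n2 * (S.n2⁻¹ * x * S.n2) * S.n2⁻¹ = x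
    group

theorem YZ_n2 (k : ℤ) : (YZ S k).map (MulAut.conj S.n2).toMonoidHom = YZ S (8 - k) := by
  obtain ⟨a, h | h⟩ := Int.even_or_odd' k
  · rw [h, YZ_even, show 8 - 2 * a = 2 * (4 - a) by ring, YZ_even]
    have e : ((4 - a : ℤ) : ZMod 8) = 4 - (a : ZMod 8) := by push_cast; rfl
    rw [e]
    apply le_antisymm
    · rintro _ ⟨_, ⟨u, rfl⟩, rfl⟩
      exact ⟨u, (S.n2_e a 0 u).symm⟩
    · rintro _ ⟨u, rfl⟩
      exact ⟨S.e a 0 u, ⟨u, rfl⟩, S.n2_e a 0 u⟩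
  · rw [h, YZ_odd, XZ_n2, show 8 - (2 * a + 1) = 2 * (3 - a) + 1 by ring, YZ_odd]

theorem n2_Tk_mem {k : ℤ} {t : G} (ht : t ∈ S.Tk k) : S.n2 * t * S.n2⁻¹ ∈ S.Tk (8 - k) := by
  refine ⟨?_, Subgroup.mem_centralizer_iff.2 fun x hx => ?_⟩
  · obtain ⟨c, d, rfl⟩ := S.mem_T.1 ht.1
    rw [S.n2_h]
    exact S.mem_T.2 ⟨_, _, rfl⟩
  · have h1 := S.n2_refl.mem_inv (k := k) hx (by ring)
    have h2 := S.Tk_comm ht h1
    calc x * (S.n2 * t * S.n2⁻¹) = S.n2 * ((S.n2⁻¹ * x * S.n2) * t) * S.n2⁻¹ := by group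
      _ = _ := by rw [← h2]; group

theorem Tk_n2 (k : ℤ) : (S.Tk k).map (MulAut.conj S.n2).toMonoidHom = S.Tk (8 - k) := by
  apply le_antisymm
  · rintro _ ⟨t, ht, rfl⟩
    exact n2_Tk_mem S ht
  · intro t ht
    have h1 := n2_Tk_mem S ht
    rw [sub_sub_cancel] at h1
    refine ⟨_, h1, ?_⟩
    show S.n2 * (S.n2 * t * S.n2⁻¹) * S.n2⁻¹ = t
    have e : S.n2⁻¹ * S.n2⁻¹ = 1 := by rw [← mul_inv_rev, S.n2_sq, inv_one]
    calc S.n2 * (S.n2 * t * S.n2⁻¹) * S.n2⁻¹ = (S.n2 * S.n2) * t * (S.n2⁻¹ * S.n2⁻¹) := by group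
      _ = t := by rw [S.n2_sq, e, one_mul, mul_one]

/-! ### the frames -/

theorem kbaseP (hq : 4 < Nat.card F) (c : ℤ) :
    KBase (fun k => S.XZ (2 * c + 1 * k)) (fun k => YZ S (2 * c + 1 * k)) (fun k => S.Tk (2 * c + 1 * k)) := by
  have h := (kbaseStd S hq).map (f := (S.ck (c - 2)).toMonoidHom) (S.ck (c - 2)).injective
  have e : ∀ k : ℤ, 4 + k + 2 * (c - 2) = 2 * c + 1 * k := fun k => by ring
  have e1 : (fun k => (Xf S k).map (S.ck (c - 2)).toMonoidHom) = fun k => S.XZ (2 * c + 1 * k) := by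
    funext k; rw [S.map_X, e]
  have e2 : (fun k => (Yf S k).map (S.ck (c - 2)).toMonoidHom) = fun k => YZ S (2 * c + 1 * k) := by
    funext k; rw [YZ_ck, e]
  have e3 : (fun k => (Tf S k).map (S.ck (c - 2)).toMonoidHom) = fun k => S.Tk (2 * c + 1 * k) := by
    funext k; rw [Tk_ck, e]
  rwa [e1, e2, e3] at h

theorem kbaseM (hq : 4 < Nat.card F) (c : ℤ) :
    KBase (fun k => S.XZ (2 * c + -1 * k)) (fun k => YZ S (2 * c + -1 * k)) (fun k => S.Tk (2 * c + -1 * k)) := by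
  have h := ((kbaseStd S hq).map (f := (MulAut.conj S.n2).toMonoidHom) (MulAut.conj S.n2).injective).map
    (f := (S.ck (c - 2)).toMonoidHom) (S.ck (c - 2)).injective
  have e : ∀ k : ℤ, 8 - (4 + k) + 2 * (c - 2) = 2 * c + -1 * k := fun k => by ring
  have e1 : (fun k => ((Xf S k).map (MulAut.conj S.n2).toMonoidHom).map (S.ck (c - 2)).toMonoidHom) =
      fun k => S.XZ (2 * c + -1 * k) := by
    funext k; rw [XZ_n2, S.map_X, e]
  have e2 : (fun k => ((Yf S k).map (MulAut.conj S.n2).toMonoidHom).map (S.ck (c - 2)).toMonoidHom) =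
      fun k => YZ S (2 * c + -1 * k) := by
    funext k; rw [YZ_n2, YZ_ck, e]
  have e3 : (fun k => ((Tf S k).map (MulAut.conj S.n2).toMonoidHom).map (S.ck (c - 2)).toMonoidHom) =
      fun k => S.Tk (2 * c + -1 * k) := by
    funext k; rw [Tk_n2, Tk_ck, e]
  rwa [e1, e2, e3] at h

/-- **`KBase` in all frames, in an overgroup.** -/
theorem kbase (hq : 4 < Nat.card F) {G' : Type*} [Group G'] {i : G →* G'} (hi : Function.Injective i) (c e : ℤ)
    (he : e = 1 ∨ e = -1) : KBase (fun k => (S.XZ (2 * c + e * k)).map i) (fun k => (YZ S (2 * c + e * k)).map i)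
      (fun k => (S.Tk (2 * c + e * k)).map i) := by
  rcases he with rfl | rfl
  · exact (kbaseP S hq c).map hi
  · exact (kbaseM S hq c).map hi

/-! ### the general facts -/

end Cfsg.Agent.OddHalf.D7TwF4.Growth.KInst

namespace Cfsg.Agent.OddHalf.D7TwF4.Growth.Defs

variable {G : Type*} [Group G]

/-- the fields of `Gen` which only speak about the root groups and the torus of `K` -/
structure KGen (X Y T : ℤ → Subgroup G) : Prop where
  YX : ∀ i, Y i ≤ X i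
  Yo : ∀ c, Y (2 * c + 1) = X (2 * c + 1)
  TX : ∀ i j, Nz (T i) (X j)
  TY : ∀ i j, Nz (T i) (Y j)
  TT : ∀ i j, Cm (T i) (T j)
  TXc : ∀ i, Cm (T i) (X i)
  Todd : ∀ i, Odd (Nat.card (T i))
  hf : ∀ i j : ℤ, ¬ (8 : ℤ) ∣ j - i → ∃ h ∈ T i, ∀ x ∈ X j, h * x * h⁻¹ = x → x = 1

theorem KGen.map {G' : Type*} [Group G'] {f : G →* G'} {X Y T : ℤ → Subgroup G} (H : KGen X Y T)
    (hf : Function.Injective f) : KGen (fun k => (X k).map f) (fun k => (Y k).map f) (fun k => (T k).map f) where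
  YX i := Subgroup.map_mono (H.YX i)
  Yo c := by
    show (Y (2 * c + 1)).map f = (X (2 * c + 1)).map f
    rw [H.Yo]
  TX i j := (H.TX i j).map f
  TY i j := (H.TY i j).map f
  TT i j := (H.TT i j).map f
  TXc i := (H.TXc i).map f
  Todd i := by
    have h := H.Todd i
    rwa [← Subgroup.card_map_of_injective hf] at h
  hf i j hij := by
    obtain ⟨h, hh, h1⟩ := H.hf i j hij
    refine ⟨f h, ⟨h, hh, rfl⟩, ?_⟩
    rintro _ ⟨x, hx, rfl⟩ h2
    rw [← map_inv, ← map_mul, ← map_mul] at h2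
    rw [h1 x hx (hf h2), map_one]

end Cfsg.Agent.OddHalf.D7TwF4.Growth.Defs

namespace Cfsg.Agent.OddHalf.D7TwF4.Growth.KInst

open Cfsg.Agent.KFacts.TwF4 Cfsg.Agent.SplitTwo.ZS Cfsg.Agent.OddHalf.D7TwF4.Growth.Defs

universe u

variable {F : Type*} [Field F] {σ : F →+* F} {G : Type u} [Group G] (S : Full σ G)

theorem YZ_le (k : ℤ) : YZ S k ≤ S.XZ k := by
  obtain ⟨a, h | h⟩ := Int.even_or_odd' k
  · rw [h, YZ_even]
    rintro _ ⟨u, rfl⟩
    exact S.e_mem a 0 u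
  · rw [h, YZ_odd]

theorem finite_T (hq : 4 < Nat.card F) : Finite S.T := by
  have : Finite F := Nat.finite_of_card_ne_zero (by omega)
  have h : Function.Surjective (fun x : Fˣ × Fˣ => (⟨S.h x.1 x.2, S.mem_T.2 ⟨_, _, rfl⟩⟩ : S.T)) := by
    rintro ⟨t, ht⟩
    obtain ⟨c, d, rfl⟩ := S.mem_T.1 ht
    exact ⟨(c, d), rfl⟩
  exact Finite.of_surjective _ h

theorem Tk_odd (hq : 4 < Nat.card F) (k : ℤ) : Odd (Nat.card (S.Tk k)) := by
  have := finite_T S hq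
  have hfin : Finite (S.Tk k) := Finite.of_injective (Subgroup.inclusion (S.Tk_le k)) (Subgroup.inclusion_injective _)
  by_contra h
  rw [Nat.not_odd_iff_even] at h
  have : Fact (Nat.Prime 2) := ⟨Nat.prime_two⟩
  obtain ⟨x, hx⟩ := exists_prime_orderOf_dvd_card' 2 h.two_dvd
  obtain ⟨c, d, hcd⟩ := S.mem_T.1 (S.Tk_le k x.2)
  have h2 : (x : G) ^ 2 = 1 := by
    have := pow_orderOf_eq_one x
    rw [hx] at this
    have h3 := congrArg Subtype.val this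
    exact h3
  rw [← hcd, pow_two, S.h_mul, ← S.h_one] at h2
  obtain ⟨h3, h4⟩ := S.h_inj _ _ _ _ h2
  have key : ∀ c : Fˣ, c * c = 1 → c = 1 := by
    intro c hc
    have h5 : (c : F) * c = 1 := congrArg Units.val hc
    have h6 : ((c : F) + 1) * ((c : F) + 1) = 0 := by
      have h7 := S.add_self (1 : F)
      have h8 := S.add_self (c : F)
      linear_combination h5 + h8 + h7
    have h9 := mul_self_eq_zero.1 h6
    apply Units.ext
    have h7 := S.add_self (1 : F)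
    rw [Units.val_one]
    linear_combination h9 - h7
  rw [key c h3, key d h4, S.h_one] at hcd
  have h5 : x = 1 := Subtype.ext hcd.symm
  rw [h5, orderOf_one] at hx
  omega

theorem kgen0 (hq : 4 < Nat.card F) : KGen S.XZ (YZ S) S.Tk where
  YX := YZ_le S
  Yo c := YZ_odd S c
  TX i j t ht x hx := S.T_conj ht.1 j hx
  TY i j t ht x hx := by
    obtain ⟨a, h | h⟩ := Int.even_or_odd' j
    · rw [h, YZ_even] at hx ⊢
      exact S.T_conj_Zc ht.1 hx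
    · rw [h, YZ_odd] at hx ⊢
      exact S.T_conj ht.1 _ hx
  TT i j t ht s hs := S.T_comm ht.1 hs.1
  TXc i t ht x hx := S.Tk_comm ht hx
  Todd := Tk_odd S hq
  hf i j hij := by
    obtain ⟨t, ht, ht1⟩ := exists_Tk_ne S (by omega) i
    exact ⟨t, ht, fun x hx h => S.fpf hij ht ht1 hx h⟩

/-- **the general facts, in an overgroup** -/
theorem kgen (hq : 4 < Nat.card F) {G' : Type*} [Group G'] {i : G →* G'} (hi : Function.Injective i) :
    KGen (fun k => (S.XZ k).map i) (fun k => (YZ S k).map i) (fun k => (S.Tk k).map i) := (kgen0 S hq).map hi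

end Cfsg.Agent.OddHalf.D7TwF4.Growth.KInst

end
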