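import Cfsg.Agent.OddHalf.D7TwF4.Growth.Inp
import Cfsg.Agent.OddHalf.D7TwF4.Growth.Hom
import Cfsg.Agent.OddHalf.D7TwF4.Growth.Mq
import Cfsg.Agent.OddHalf.D7TwF4.Growth.Two
import Cfsg.Agent.OddHalf.D7TwF4.Defs
import Cfsg.Agent.OddHalf.SpTwoN.SemiGrow

-- merged: Cfsg.Agent.OddHalf.D7TwF4.Growth.Avg
section

/-!
# Growth for `²F₄(q)`: averaging over a group of odd order (helper702)
-/

set_option autoImplicit false
set_option linter.unusedVariables false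

namespace Cfsg.Agent.OddHalf.D7TwF4.Growth.Avg

open Cfsg.Agent.OddHalf.D7TwF4.Growth.Defs Cfsg.Agent.OddHalf.D7TwF4.Growth.Tools

/-- averaging in an elementary abelian group -/
theorem avg {G T : Type*} [Group G] [Group T] [Finite T] (hodd : Odd (Nat.card T)) (ψ : T →* G) {V : Subgroup G}
    (hV : Cm V V) (h2 : ∀ v ∈ V, v * v = 1) (hTV : ∀ t, ∀ v ∈ V, ψ t * v * (ψ t)⁻¹ ∈ V) {n : G}
    (hn : ∀ t, n⁻¹ * (ψ t * n * (ψ t)⁻¹) ∈ V) :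
    ∃ v ∈ V, ∀ t, ψ t * (n * v) * (ψ t)⁻¹ = n * v := by
  classical
  let _ : CommGroup V := { (inferInstance : Group V) with
    mul_comm := fun x y => Subtype.ext (hV x x.2 y y.2) }
  have := Fintype.ofFinite T
  let e : T → V := fun t => ⟨n⁻¹ * (ψ t * n * (ψ t)⁻¹), hn t⟩
  let c : T → V →* V := fun t =>
    { toFun := fun v => ⟨ψ t * v * (ψ t)⁻¹, hTV t v v.2⟩
      map_one' := Subtype.ext (by show ψ t * ((1 : V) : G) * (ψ t)⁻¹ = ((1 : V) : G); simp)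
      map_mul' := fun a b => Subtype.ext (by
        show ψ t * ((a * b : V) : G) * (ψ t)⁻¹ = (ψ t * (a : G) * (ψ t)⁻¹) * (ψ t * (b : G) * (ψ t)⁻¹)
        rw [Subgroup.coe_mul]; group) }
  have he : ∀ g h, e (g * h) = e g * c g (e h) := by
    intro g h
    apply Subtype.ext
    show n⁻¹ * (ψ (g * h) * n * (ψ (g * h))⁻¹) =
      (n⁻¹ * (ψ g * n * (ψ g)⁻¹)) * (ψ g * (n⁻¹ * (ψ h * n * (ψ h)⁻¹)) * (ψ g)⁻¹)
    rw [map_mul]; group
  have hsq : ∀ v : V, v * v = 1 := fun v => Subtype.ext (h2 v v.2)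
  have hpow : ∀ v : V, v ^ Nat.card T = v := by
    intro v
    obtain ⟨k, hk⟩ := hodd
    rw [hk, pow_succ, pow_mul, pow_two, hsq, one_pow, one_mul]
  let s : V := ∏ t : T, e t
  have hs : ∀ g, s = e g * c g s := by
    intro g
    have h1 : s = ∏ t : T, e (g * t) := (Fintype.prod_equiv (Equiv.mulLeft g) _ _ (fun t => rfl)).symm
    have h3 : ∏ t : T, e (g * t) = (e g) ^ Nat.card T * c g s := by
      simp only [he]
      rw [Finset.prod_mul_distrib, Finset.prod_const, Finset.card_univ, Nat.card_eq_fintype_card, map_prod]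
    rw [h3, hpow] at h1
    exact h1
  refine ⟨s, s.2, fun t => ?_⟩
  have h1 : (s : G) = (n⁻¹ * (ψ t * n * (ψ t)⁻¹)) * (ψ t * s * (ψ t)⁻¹) := congrArg Subtype.val (hs t)
  calc ψ t * (n * s) * (ψ t)⁻¹ = n * ((n⁻¹ * (ψ t * n * (ψ t)⁻¹)) * (ψ t * s * (ψ t)⁻¹)) := by group
    _ = n * s := by rw [← h1]

/-- the version for a subgroup `T` -/
theorem avg' {G : Type*} [Group G] {T V : Subgroup G} [Finite T] (hodd : Odd (Nat.card T)) (hV : Cm V V)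
    (h2 : ∀ v ∈ V, v * v = 1) (hTV : Nz T V) {n : G} (hn : ∀ t ∈ T, n⁻¹ * (t * n * t⁻¹) ∈ V) :
    ∃ v ∈ V, ∀ t ∈ T, t * (n * v) = n * v * t := by
  obtain ⟨v, hv, h1⟩ := avg hodd T.subtype hV h2 (fun t v hv => hTV t t.2 v hv) (fun t => hn t t.2)
  exact ⟨v, hv, fun t ht => mul_inv_eq_iff_eq_mul.1 (h1 ⟨t, ht⟩)⟩

/-- two steps: `E ≤ V`, `E` and `V / E` elementary abelian -/
theorem avg2 {G : Type*} [Group G] {T E V : Subgroup G} [Finite T] (hodd : Odd (Nat.card T)) (hE : Cm E E)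
    (h2 : ∀ v ∈ E, v * v = 1) (hTE : Nz T E) (hEV : E ≤ V) (hV : Cl V V E) (hV2 : ∀ v ∈ V, v * v ∈ E)
    (hTV : Nz T V) {n : G} (hnE : n ∈ Subgroup.normalizer (E : Set G))
    (hn : ∀ t ∈ T, n⁻¹ * (t * n * t⁻¹) ∈ V) :
    ∃ v ∈ V, ∀ t ∈ T, t * (n * v) = n * v * t := by
  have hVE : V ≤ Subgroup.normalizer (E : Set G) := (hV.mono le_rfl hEV le_rfl).nz le_rfl |>.le
  let H : Subgroup G := Subgroup.normalizer (E : Set G)
  let Q := H ⧸ E.subgroupOf H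
  let π : H →* Q := QuotientGroup.mk' (E.subgroupOf H)
  have hker : ∀ x : H, π x = 1 ↔ (x : G) ∈ E := by
    intro x
    rw [QuotientGroup.mk'_apply, QuotientGroup.eq_one_iff, Subgroup.mem_subgroupOf]
  have hTH : T ≤ H := hTE.le
  let ψ : T →* Q := π.comp (Subgroup.inclusion hTH)
  let V' : Subgroup Q := (V.subgroupOf H).map π
  have hV' : Cm V' V' := by
    rintro _ ⟨a, ha, rfl⟩ _ ⟨b, hb, rfl⟩
    have : π (a * b * a⁻¹ * b⁻¹) = 1 := (hker _).2 (hV _ (Subgroup.mem_subgroupOf.1 ha) _ (Subgroup.mem_subgroupOf.1 hb))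
    simp only [map_mul, map_inv] at this
    have h3 := mul_inv_eq_one.1 this
    exact mul_inv_eq_iff_eq_mul.1 h3
  have hV2' : ∀ v ∈ V', v * v = 1 := by
    rintro _ ⟨a, ha, rfl⟩
    rw [← map_mul]
    exact (hker _).2 (hV2 _ (Subgroup.mem_subgroupOf.1 ha))
  obtain ⟨v', hv', h1⟩ := avg hodd ψ hV' hV2' (by
      rintro t _ ⟨a, ha, rfl⟩
      exact ⟨⟨t, hTH t.2⟩ * a * ⟨t, hTH t.2⟩⁻¹, Subgroup.mem_subgroupOf.2 (hTV t t.2 _ (Subgroup.mem_subgroupOf.1 ha)), by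
        simp only [map_mul, map_inv]; rfl⟩) (n := π ⟨n, hnE⟩) (by
      intro t
      refine ⟨⟨n, hnE⟩⁻¹ * (⟨t, hTH t.2⟩ * ⟨n, hnE⟩ * ⟨t, hTH t.2⟩⁻¹), Subgroup.mem_subgroupOf.2 (hn t t.2), ?_⟩
      simp only [map_mul, map_inv]; rfl)
  obtain ⟨a, ha, rfl⟩ := hv'
  have haV : (a : G) ∈ V := Subgroup.mem_subgroupOf.1 ha
  obtain ⟨v, hv, h3⟩ := avg' hodd hE h2 hTE (n := n * a) (by
    intro t ht
    have h4 := h1 ⟨t, ht⟩
    have h5 : π ((⟨n, hnE⟩ * a)⁻¹ * (⟨t, hTH ht⟩ * (⟨n, hnE⟩ * a) * ⟨t, hTH ht⟩⁻¹)) = 1 := by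
      have e : (⟨n, hnE⟩ : H) * a = (⟨n, hnE⟩ * a : H) := rfl
      simp only [map_mul, map_inv]
      rw [inv_mul_eq_one]
      simp only [← map_mul, ← map_inv]
      have h6 : π ⟨t, hTH ht⟩ * (π ⟨n, hnE⟩ * π a) * (π ⟨t, hTH ht⟩)⁻¹ = π ⟨n, hnE⟩ * π a := h4
      rw [← map_inv, ← map_mul, ← map_mul, ← map_mul] at h6
      exact h6.symm
    exact (hker _).1 h5)
  exact ⟨a * v, mul_mem haV (hEV hv), fun t ht => by rw [← mul_assoc n]; exact h3 t ht⟩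

end Cfsg.Agent.OddHalf.D7TwF4.Growth.Avg

end

-- merged: Cfsg.Agent.OddHalf.D7TwF4.Growth.One
section

/-!
# Growth for `²F₄(q)`: levels 1, 2 (helper702; text bb ODD 13178)
-/

set_option autoImplicit false
set_option linter.unusedVariables false

namespace Cfsg.Agent.OddHalf.D7TwF4.Growth.One

open Cfsg.Agent.OddHalf.D7TwF4.Growth.Defs Cfsg.Agent.OddHalf.D7TwF4.Growth.Tools
open Cfsg.Agent.OddHalf.D7TwF4.Growth.Frame Cfsg.Agent.OddHalf.D7TwF4.Growth.Two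
open Cfsg.Agent.OddHalf.D7TwF4.Growth

variable {G : Type*} [Group G] {τ : G →* G} {X Y W T : ℤ → Subgroup G}

/-! ### general facts -/

theorem dW (h : Gen τ X Y W T) (i : ℤ) : Dbl τ (W i) (Y i) :=
  dbl_W h.tt (h.Wab i) (h.Wsq i) (h.Wt i) (fun y hy => h.tX i y (h.YX i hy)) (h.YW i) (h.Wf i) (h.Ws i)

theorem brkW (h : Gen τ X Y W T) (i : ℤ) {w : G} (hw : w ∈ W i) : w⁻¹ * τ w ∈ Y i :=
  brk_mem h.tt (h.Wab i) (h.Wsq i) (h.Wt i) (h.Wf i) hw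

theorem dbl_bot (τ : G →* G) : Dbl τ (⊥ : Subgroup G) ⊥ where
  le := le_rfl
  inv := by
    intro r hr
    rw [Subgroup.mem_bot] at hr ⊢
    rw [hr, map_one]
  fixK := by
    intro r hr
    rw [Subgroup.mem_bot] at hr
    rw [hr, map_one]
  fix := fun r hr _ => hr
  free := by
    intro s hs _
    rw [Subgroup.mem_bot] at hs
    exact ⟨1, one_mem _, by rw [hs, map_one]; simp⟩

/-- the odd `W i` as doubles of `X i` -/
theorem dbo (h : Gen τ X Y W T) {i : ℤ} (hi : Y i = X i) : DB τ (W i) (X i) ⊥ ⊥ where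
  XB := hi ▸ h.YW i
  WB := bot_le
  Xf := h.tX i
  inv := h.Wt i
  fix := fun b hb hf => hi ▸ h.Wf i b hb hf
  brk := fun b hb => ⟨b⁻¹ * τ b, hi ▸ brkW h i hb, 1, one_mem _, (mul_one _).symm⟩
  surj := fun x hx => by
    obtain ⟨w, hw, h1⟩ := h.Ws i x (hi.symm ▸ hx)
    exact ⟨w, hw, 1, one_mem _, by rw [h1, mul_one]⟩
  comm := (h.Wab i).cl ⊥
  sq := fun b hb => by rw [h.Wsq i b hb]; exact one_mem _
  WD := dbl_bot τ

/-- `(O4)` -/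
theorem o4 (h : Inp τ X Y W T) : Cm (W 3) (X (-1)) := by
  have b := base h
  have c : Cl (W 3) (X (-1)) (W 2) := (base (rf h 1)).c13
  have w23 : Cm (W 2) (W 3) := (base (sh h 1)).w01
  have hY3 : Y 3 = X 3 := h.Yo 1
  have hx13 : Cm (X (-1)) (X 3) := b.x13
  intro w hw x hx
  have hDB := dbo h.toGen (i := 3) hY3
  refine Hom.nh h.tt (K := Y 2) hDB ((h.Wab 2).mono (h.YW 2) (h.YW 2)) ?_
    (w23.symm.mono le_rfl (h.YW 2)) (fun a ha => (hx13 x hx a ha).symm) ?_ (T := T (-1)) (h.TW _ _) ?_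
    (fun g hg => h.TXc _ g hg x hx) (h.TX _ _) (h.tT _) ?_ bot_le w hw
  · intro v hv
    obtain ⟨y, hy⟩ : ∃ y, y = v⁻¹ * τ v := ⟨_, rfl⟩
    have hyY : y ∈ X 3 := by rw [hy, ← hY3]; exact brkW h.toGen 3 hv
    have e1 : τ v = v * y := by rw [hy]; group
    apply h.Wf 2 _ (c v hv x hx)
    have e2 : τ (v * x * v⁻¹ * x⁻¹) = v * (y * x) * (v * y)⁻¹ * x⁻¹ := by
      simp only [map_mul, map_inv, e1, h.tX (-1) x hx]; group
    rw [e2, ← hx13 x hx y hyY]; group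
  · intro a ha
    rw [Subgroup.mem_bot] at ha
    rw [ha, one_mul, mul_one]
  · intro g hg a ha
    rw [Subgroup.mem_bot] at ha ⊢
    rw [ha]; group
  · intro f hf hm _ he
    exact b.nh1 f hf hm he

/-! ### the group `E = W₀ W₁ W₂` -/

theorem EK_ref (W : ℤ → Subgroup G) : EK (F 1 (-1) W) = EK W := by
  show W 2 ⊔ W 1 ⊔ W 0 = W 0 ⊔ W 1 ⊔ W 2
  ac_rfl

theorem NK_ref (X Y : ℤ → Subgroup G) : NK (F 1 (-1) X) (F 1 (-1) Y) = NK X Y := by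
  show Y 2 ⊔ Y 1 ⊔ Y 0 ⊔ Y 3 ⊔ Y 4 ⊔ X 2 ⊔ X 0 ⊔ Y (-1) ⊔ Y (-2) =
    Y 0 ⊔ Y 1 ⊔ Y 2 ⊔ Y (-1) ⊔ Y (-2) ⊔ X 0 ⊔ X 2 ⊔ Y 3 ⊔ Y 4
  ac_rfl

theorem w12' (h : Inp τ X Y W T) : Cm (W 1) (W 2) := (base (rf h 1)).w01.symm

/-- `W 3` and `W 4` centralise `E` -/
theorem c3E (h : Inp τ X Y W T) : Cm (W 3) (EK W) := by
  have b1 := base (sh h 1)
  have b2 := base (rf h 1)
  have e1 : Cm (W 3) (W 0) := b2.w12
  have e2 : Cm (W 3) (W 1) := b2.w11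
  have e3 : Cm (W 3) (W 2) := b1.w01.symm
  exact (e1.sup' e2).sup' e3

theorem c4E (h : Inp τ X Y W T) : Cm (W 4) (EK W) := by
  have b1 := base (sh h 1)
  have e1 : Cm (W 4) (W 0) := b1.w22.symm
  have e2 : Cm (W 4) (W 1) := b1.w12.symm
  have e3 : Cm (W 4) (W 2) := b1.w02.symm
  exact (e1.sup' e2).sup' e3

theorem cm1E (h : Inp τ X Y W T) : Cm (W (-1)) (EK W) := by
  have := c3E (rf h 1)
  rw [EK_ref] at this
  exact this

theorem cm2E (h : Inp τ X Y W T) : Cm (W (-2)) (EK W) := by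
  have := c4E (rf h 1)
  rw [EK_ref] at this
  exact this

theorem c0E (h : Inp τ X Y W T) : Cm (W 0) (EK W) :=
  ((h.Wab 0).sup' (base h).w01).sup' (base h).w02

theorem c2E (h : Inp τ X Y W T) : Cm (W 2) (EK W) := by
  have := c0E (rf h 1)
  rw [EK_ref] at this
  exact this

theorem c1E (h : Inp τ X Y W T) : Cm (W 1) (EK W) :=
  (((base h).w01.symm).sup' (h.Wab 1)).sup' (w12' h)

theorem cE (h : Inp τ X Y W T) : Cm (EK W) (EK W) := ((c0E h).sup (c1E h)).sup (c2E h)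

theorem x0E (h : Inp τ X Y W T) : Cm (X 0) (EK W) :=
  ((base h).x0w0.sup' (base h).x0w1).sup' (base h).x0w2

theorem x2E (h : Inp τ X Y W T) : Cm (X 2) (EK W) := by
  have := x0E (rf h 1)
  rw [EK_ref] at this
  exact this

theorem x5E (h : Inp τ X Y W T) : Nz (X 5) (EK W) := by
  have b1 := base (sh h 1)
  have e0 : Cl (W 0) (X 5) (W 2) := b1.c23
  have e1 : Cl (W 1) (X 5) (W 2) := b1.c13
  have e2 : Cm (X 5) (W 2) := b1.x3w0
  have hE : W 2 ≤ EK W := le_sup_right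
  intro x hx e he
  have key : EK W ≤ (EK W).comap (MulAut.conj x).toMonoidHom := by
    refine sup_le (sup_le ?_ ?_) ?_
    · intro w hw
      show x * w * x⁻¹ ∈ EK W
      have e : x * w * x⁻¹ = (w * x * w⁻¹ * x⁻¹)⁻¹ * w := by group
      rw [e]
      exact mul_mem (inv_mem (hE (e0 w hw x hx))) (Subgroup.mem_sup_left (Subgroup.mem_sup_left hw))
    · intro w hw
      show x * w * x⁻¹ ∈ EK W
      have e : x * w * x⁻¹ = (w * x * w⁻¹ * x⁻¹)⁻¹ * w := by group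
      rw [e]
      exact mul_mem (inv_mem (hE (e1 w hw x hx))) (Subgroup.mem_sup_left (Subgroup.mem_sup_right hw))
    · intro w hw
      show x * w * x⁻¹ ∈ EK W
      rw [e2 x hx w hw, mul_inv_cancel_right]
      exact hE hw
  exact key he

theorem xm3E (h : Inp τ X Y W T) : Nz (X (-3)) (EK W) := by
  have := x5E (rf h 1)
  rw [EK_ref] at this
  exact this

theorem x4E (h : Inp τ X Y W T) : Nz (X 4) (EK W) := by
  have b1 := base (sh h 1)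
  have b2 := base (rf h 2)
  have e0 : Cm (X 4) (W 0) := (base h).x4w0
  have e1 : Cl (W 1) (X 4) (W 2) := b1.c12
  have e2 : Cm (X 4) (W 2) := b2.x0w2
  have hE : W 2 ≤ EK W := le_sup_right
  intro x hx e he
  have key : EK W ≤ (EK W).comap (MulAut.conj x).toMonoidHom := by
    refine sup_le (sup_le ?_ ?_) ?_
    · intro w hw
      show x * w * x⁻¹ ∈ EK W
      rw [e0 x hx w hw, mul_inv_cancel_right]
      exact Subgroup.mem_sup_left (Subgroup.mem_sup_left hw)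
    · intro w hw
      show x * w * x⁻¹ ∈ EK W
      have e : x * w * x⁻¹ = (w * x * w⁻¹ * x⁻¹)⁻¹ * w := by group
      rw [e]
      exact mul_mem (inv_mem (hE (e1 w hw x hx))) (Subgroup.mem_sup_left (Subgroup.mem_sup_right hw))
    · intro w hw
      show x * w * x⁻¹ ∈ EK W
      rw [e2 x hx w hw, mul_inv_cancel_right]
      exact hE hw
  exact key he

theorem xm2E (h : Inp τ X Y W T) : Nz (X (-2)) (EK W) := by
  have := x4E (rf h 1)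
  rw [EK_ref] at this
  exact this

theorem TE (h : Gen τ X Y W T) (i : ℤ) : Nz (T i) (EK W) :=
  ((h.TW i 0).sup' (h.TW i 1)).sup' (h.TW i 2)

theorem dE (h : Inp τ X Y W T) : Dbl τ (EK W) (EK Y) := by
  have b := base h
  have d0 := dW h.toGen 0
  have n1 : Nz (W 1) (W 0) := b.w01.symm.nz
  have d1 := d0.sup_W h.tt (h.Wab 1) (h.Wsq 1) (h.Wt 1) (fun y hy => h.tX 1 y (h.YX 1 hy)) (h.YW 1) (h.Wf 1) (h.Ws 1)
    b.i01 n1
  have n2 : Nz (W 2) (W 0 ⊔ W 1) := b.w02.symm.nz.sup' (w12' h).symm.nz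
  exact d1.sup_W h.tt (h.Wab 2) (h.Wsq 2) (h.Wt 2) (fun y hy => h.tX 2 y (h.YX 2 hy)) (h.YW 2) (h.Wf 2) (h.Ws 2)
    b.i012 n2

theorem sqE (h : Inp τ X Y W T) : ∀ e ∈ EK W, e * e = 1 := by
  have key : ∀ A B : Subgroup G, Cm A B → (∀ a ∈ A, a * a = 1) → (∀ b ∈ B, b * b = 1) → ∀ e ∈ A ⊔ B, e * e = 1 := by
    intro A B hAB hA hB e he
    obtain ⟨a, ha, b, hb, rfl⟩ := mem_sup hAB.symm.nz he
    calc a * b * (a * b) = a * (b * a) * b := by group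
      _ = a * (a * b) * b := by rw [hAB a ha b hb]
      _ = (a * a) * (b * b) := by group
      _ = 1 := by rw [hA a ha, hB b hb, mul_one]
  exact key _ _ ((base h).w02.sup (w12' h)) (key _ _ (base h).w01 (h.Wsq 0) (h.Wsq 1)) (h.Wsq 2)

/-- `N_K` centralises `E` -/
theorem NKE (h : Inp τ X Y W T) : Cm (NK X Y) (EK W) := by
  have y (i : ℤ) (hi : Cm (W i) (EK W)) : Cm (Y i) (EK W) := hi.mono (h.YW i) le_rfl
  exact (((((((((y 0 (c0E h)).sup (y 1 (c1E h))).sup (y 2 (c2E h))).sup (y _ (cm1E h))).sup (y _ (cm2E h))).sup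
    (x0E h)).sup (x2E h)).sup (y 3 (c3E h))).sup (y 4 (c4E h)))

end Cfsg.Agent.OddHalf.D7TwF4.Growth.One

end

-- merged: Cfsg.Agent.OddHalf.D7TwF4.Growth.NOne
section

/-!
# Growth for `²F₄(q)`: level 2, the group `N₁` (helper702; text bb ODD 13178)
-/

set_option autoImplicit false
set_option linter.unusedVariables false

namespace Cfsg.Agent.OddHalf.D7TwF4.Growth.NOne

open Cfsg.Agent.OddHalf.D7TwF4.Growth.Defs Cfsg.Agent.OddHalf.D7TwF4.Growth.Tools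
open Cfsg.Agent.OddHalf.D7TwF4.Growth.Frame Cfsg.Agent.OddHalf.D7TwF4.Growth.Two
open Cfsg.Agent.OddHalf.D7TwF4.Growth.One

variable {G : Type*} [Group G] {τ : G →* G} {X Y W T : ℤ → Subgroup G}

/-- the set of the elements of `N₁` -/
def Sc (τ : G →* G) (X Y W : ℤ → Subgroup G) : Set G :=
  {b | (∀ e ∈ EK W, b * e = e * b) ∧ b⁻¹ * τ b ∈ NK X Y ⊔ EK W}

/-- `N₁` -/
def Nc (τ : G →* G) (X Y W : ℤ → Subgroup G) : Subgroup G := Subgroup.closure (Sc τ X Y W)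

/-- the generators `W₄`, `W₋₂ ^ X₅` -/
def gs (X W : ℤ → Subgroup G) : Set G := {g | g ∈ W 4 ∨ ∃ x ∈ X 5, ∃ w ∈ W (-2), g = x * w * x⁻¹}

def Ng (X W : ℤ → Subgroup G) : Subgroup G := Subgroup.closure (gs X W ∪ EK W)

theorem E_le_Ng : EK W ≤ Ng X W := fun e he => Subgroup.subset_closure (Or.inr he)

/-- `g ∈ X₅` : `W₋₂ ^ g = W₄ ^ h`, `h ∈ X₋₃` -/
theorem tri' (h : Inp τ X Y W T) : ∀ g ∈ X 5, g ≠ 1 → ∃ k ∈ X (-3), ∀ w, w ∈ W (-2) ↔ k⁻¹ * (g * w * g⁻¹) * k ∈ W 4 :=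
  (base (rf h 1)).tri

theorem cEgs (h : Inp τ X Y W T) : ∀ g ∈ gs X W, ∀ e ∈ EK W, g * e = e * g := by
  rintro g (hg | ⟨x, hx, w, hw, rfl⟩) e he
  · exact c4E h g hg e he
  · have h1 : x⁻¹ * e * x ∈ EK W := (x5E h).inv hx he
    have h2 := cm2E h w hw _ h1
    calc x * w * x⁻¹ * e = x * (w * (x⁻¹ * e * x)) * x⁻¹ := by group
      _ = x * ((x⁻¹ * e * x) * w) * x⁻¹ := by rw [h2]
      _ = e * (x * w * x⁻¹) := by group

theorem cNg (h : Inp τ X Y W T) : Cm (Ng X W) (EK W) := by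
  apply cm_of_le
  apply (Subgroup.closure_le _).2
  rintro g (hg | hg)
  · exact Subgroup.mem_centralizer_iff.2 fun e he => (cEgs h g hg e he).symm
  · exact Subgroup.mem_centralizer_iff.2 fun e he => (cE h g hg e he).symm

/-- `⁅W₋₂, W₋₂ ^ x⁆ ≤ E` -/
theorem comm22 (h : Inp τ X Y W T) {x : G} (hx : x ∈ X 5) {u v : G} (hu : u ∈ W (-2)) (hv : v ∈ W (-2)) :
    u * (x * v * x⁻¹) * u⁻¹ * (x * v * x⁻¹)⁻¹ ∈ EK W := by
  by_cases h1 : x = 1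
  · subst h1
    have e : u * (1 * v * 1⁻¹) * u⁻¹ * (1 * v * 1⁻¹)⁻¹ = u * v * u⁻¹ * v⁻¹ := by group
    rw [e, h.Wab (-2) u hu v hv, mul_inv_cancel_right, mul_inv_cancel]
    exact one_mem _
  · obtain ⟨k, hk, hkw⟩ := tri' h x hx h1
    have h2 := (hkw v).1 hv
    obtain ⟨w, hw⟩ : ∃ w, w = k⁻¹ * (x * v * x⁻¹) * k := ⟨_, rfl⟩
    rw [← hw] at h2
    have e1 : x * v * x⁻¹ = k * w * k⁻¹ := by rw [hw]; group
    have hku : k * u = u * k := by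
      have h0 := (base (rf h (-1))).w01
      have : Cm (W (-2)) (W (-3)) := h0
      exact (this u hu k (h.YW _ (by have := h.Yo (-2); exact this.symm ▸ hk))).symm
    have e2 : u * (k * w * k⁻¹) * u⁻¹ * (k * w * k⁻¹)⁻¹ = k * (u * w * u⁻¹ * w⁻¹) * k⁻¹ := by
      have e3 : k⁻¹ * u⁻¹ = u⁻¹ * k⁻¹ := by rw [← mul_inv_rev, ← hku, mul_inv_rev]
      calc u * (k * w * k⁻¹) * u⁻¹ * (k * w * k⁻¹)⁻¹ = (u * k) * w * (k⁻¹ * u⁻¹) * k * w⁻¹ * k⁻¹ := by group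
        _ = (k * u) * w * (u⁻¹ * k⁻¹) * k * w⁻¹ * k⁻¹ := by rw [hku, e3]
        _ = _ := by group
    rw [e1, e2]
    exact xm3E h k hk _ ((base h).w24 u hu w h2)

theorem comm24 (h : Inp τ X Y W T) {x : G} (hx : x ∈ X 5) {u v : G} (hu : u ∈ W 4) (hv : v ∈ W (-2)) :
    (x * v * x⁻¹) * u * (x * v * x⁻¹)⁻¹ * u⁻¹ ∈ EK W := by
  have hxu : x * u = u * x := by
    have : Cm (W 4) (W 5) := (base (sh h 2)).w01
    exact (this u hu x (h.YW _ (by have := h.Yo 2; exact this.symm ▸ hx))).symm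
  have e3 : x⁻¹ * u = u * x⁻¹ := comm_inv hxu
  have e4 : x⁻¹ * u⁻¹ = u⁻¹ * x⁻¹ := by rw [← mul_inv_rev, ← hxu, mul_inv_rev]
  have e2 : (x * v * x⁻¹) * u * (x * v * x⁻¹)⁻¹ * u⁻¹ = x * (v * u * v⁻¹ * u⁻¹) * x⁻¹ := by
    calc (x * v * x⁻¹) * u * (x * v * x⁻¹)⁻¹ * u⁻¹ = x * v * (x⁻¹ * u) * x * v⁻¹ * (x⁻¹ * u⁻¹) := by group
      _ = x * v * (u * x⁻¹) * x * v⁻¹ * (u⁻¹ * x⁻¹) := by rw [e3, e4]
      _ = _ := by group
  rw [e2]
  exact x5E h x hx _ ((base h).w24 v hv u hu)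

theorem inv_E {a b : G} (hab : a * b * a⁻¹ * b⁻¹ ∈ EK W) : b * a * b⁻¹ * a⁻¹ ∈ EK W := by
  have := inv_mem hab
  have e : (a * b * a⁻¹ * b⁻¹)⁻¹ = b * a * b⁻¹ * a⁻¹ := by group
  rwa [e] at this

theorem comm_gs (h : Inp τ X Y W T) : ∀ a ∈ gs X W, ∀ b ∈ gs X W, a * b * a⁻¹ * b⁻¹ ∈ EK W := by
  rintro a (ha | ⟨x, hx, u, hu, rfl⟩) b (hb | ⟨y, hy, v, hv, rfl⟩)
  · rw [h.Wab 4 a ha b hb, mul_inv_cancel_right, mul_inv_cancel]
    exact one_mem _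
  · exact inv_E (comm24 h hy ha hv)
  · exact comm24 h hx hb hu
  · have h1 := comm22 h (mul_mem (inv_mem hx) hy) hu hv
    have h2 := x5E h x hx _ h1
    have e : x * (u * (x⁻¹ * y * v * (x⁻¹ * y)⁻¹) * u⁻¹ * (x⁻¹ * y * v * (x⁻¹ * y)⁻¹)⁻¹) * x⁻¹ =
        x * u * x⁻¹ * (y * v * y⁻¹) * (x * u * x⁻¹)⁻¹ * (y * v * y⁻¹)⁻¹ := by group
    rwa [e] at h2

theorem clNg (h : Inp τ X Y W T) : Cl (Ng X W) (Ng X W) (EK W) := by
  -- all generators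
  have hg : ∀ a ∈ gs X W ∪ (EK W : Set G), ∀ b ∈ gs X W ∪ (EK W : Set G), a * b * a⁻¹ * b⁻¹ ∈ EK W := by
    rintro a ha b hb
    rcases hb with hb | hb
    · rcases ha with ha | ha
      · exact comm_gs h a ha b hb
      · rw [← cEgs h b hb a ha, mul_inv_cancel_right, mul_inv_cancel]; exact one_mem _
    · have : a * b = b * a := cNg h a (Subgroup.subset_closure ha) b hb
      rw [this, mul_inv_cancel_right, mul_inv_cancel]; exact one_mem _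
  have key : ∀ s : Set G, ∀ b : G, (∀ a ∈ s, a * b * a⁻¹ * b⁻¹ ∈ EK W) → s ⊆ Ng X W →
      ∀ a ∈ Subgroup.closure s, a * b * a⁻¹ * b⁻¹ ∈ EK W := by
    intro s b hs hsN a ha
    have hsub : Subgroup.closure s ≤ Ng X W := (Subgroup.closure_le _).2 hsN
    have nE : ∀ a ∈ Ng X W, ∀ r ∈ EK W, a * r * a⁻¹ ∈ EK W := fun a ha r hr => by
      rw [cNg h a ha r hr, mul_inv_cancel_right]; exact hr
    have : a ∈ Ng X W ∧ a * b * a⁻¹ * b⁻¹ ∈ EK W := by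
      refine Subgroup.closure_induction (p := fun a _ => a ∈ Ng X W ∧ a * b * a⁻¹ * b⁻¹ ∈ EK W) ?_ ?_ ?_ ?_ ha
      · intro x hx; exact ⟨hsN hx, hs x hx⟩
      · exact ⟨one_mem _, by simp⟩
      · rintro x y _ _ ⟨hx, hx'⟩ ⟨hy, hy'⟩
        exact ⟨mul_mem hx hy, cl_mul hy' hx' (nE x hx)⟩
      · rintro x _ ⟨hx, hx'⟩
        refine ⟨inv_mem hx, ?_⟩
        have h2 := nE _ (inv_mem hx) _ (inv_mem hx')
        have e : x⁻¹ * (x * b * x⁻¹ * b⁻¹)⁻¹ * x⁻¹⁻¹ = x⁻¹ * b * x⁻¹⁻¹ * b⁻¹ := by group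
        rwa [e] at h2
    exact this.2
  intro a ha b hb
  apply key _ b ?_ Subgroup.subset_closure a ha
  intro a ha
  apply inv_E
  exact key _ a (fun b hb => hg b hb a ha) Subgroup.subset_closure b hb

theorem sqNg (h : Inp τ X Y W T) : ∀ n ∈ Ng X W, n * n ∈ EK W := by
  intro n hn
  have : n ∈ Ng X W ∧ n * n ∈ EK W := by
    refine Subgroup.closure_induction (p := fun a _ => a ∈ Ng X W ∧ a * a ∈ EK W) ?_ ?_ ?_ ?_ hn
    · rintro x (hx | hx)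
      · refine ⟨Subgroup.subset_closure (Or.inl hx), ?_⟩
        rcases hx with hx | ⟨y, hy, w, hw, rfl⟩
        · rw [h.Wsq 4 x hx]; exact one_mem _
        · have e : y * w * y⁻¹ * (y * w * y⁻¹) = y * (w * w) * y⁻¹ := by group
          rw [e, h.Wsq _ w hw, mul_one, mul_inv_cancel]; exact one_mem _
      · exact ⟨E_le_Ng hx, mul_mem hx hx⟩
    · exact ⟨one_mem _, by simp⟩
    · rintro x y _ _ ⟨hx, hx'⟩ ⟨hy, hy'⟩
      refine ⟨mul_mem hx hy, ?_⟩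
      have e : x * y * (x * y) = (x * x) * (x⁻¹ * y * x⁻¹⁻¹ * y⁻¹) * (y * y) := by group
      rw [e]
      exact mul_mem (mul_mem hx' (clNg h _ (inv_mem hx) _ hy)) hy'
    · rintro x _ ⟨hx, hx'⟩
      refine ⟨inv_mem hx, ?_⟩
      have e : x⁻¹ * x⁻¹ = (x * x)⁻¹ := by group
      rw [e]; exact inv_mem hx'
  exact this.2

theorem NK_le_Ng (h : Inp τ X Y W T) : NK X Y ≤ Ng X W := by
  refine (base h).k2.trans (sup_le ((Subgroup.closure_le _).2 ?_) ?_)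
  · rintro g (hg | ⟨x, hx, y, hy, rfl⟩)
    · exact Subgroup.subset_closure (Or.inl (Or.inl (h.YW 4 hg)))
    · exact Subgroup.subset_closure (Or.inl (Or.inr ⟨x, hx, y, h.YW _ hy, rfl⟩))
  · exact (dE h).le.trans E_le_Ng

theorem y4NK (Y : ℤ → Subgroup G) : Y 4 ≤ NK X Y := le_sup_right
theorem x3NK (Y : ℤ → Subgroup G) : Y 3 ≤ NK X Y := le_sup_of_le_left le_sup_right
theorem x2NK (Y : ℤ → Subgroup G) : X 2 ≤ NK X Y := le_sup_of_le_left (le_sup_of_le_left le_sup_right)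
theorem x0NK (Y : ℤ → Subgroup G) : X 0 ≤ NK X Y :=
  le_sup_of_le_left (le_sup_of_le_left (le_sup_of_le_left le_sup_right))
theorem Q2NK (Y : ℤ → Subgroup G) : Q2 Y ≤ NK X Y :=
  le_sup_of_le_left (le_sup_of_le_left (le_sup_of_le_left le_sup_left))
theorem ym2Q2 (Y : ℤ → Subgroup G) : Y (-2) ≤ Q2 Y := le_sup_right
theorem RQ2 (Y : ℤ → Subgroup G) : RK Y ≤ Q2 Y := le_sup_left
theorem ym1Q2 (Y : ℤ → Subgroup G) : Y (-1) ≤ Q2 Y := le_sup_of_le_left le_sup_right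
theorem EQ2 (Y : ℤ → Subgroup G) : EK Y ≤ Q2 Y := le_sup_of_le_left le_sup_left
theorem y0E (Y : ℤ → Subgroup G) : Y 0 ≤ EK Y := le_sup_of_le_left le_sup_left
theorem y1E (Y : ℤ → Subgroup G) : Y 1 ≤ EK Y := le_sup_of_le_left le_sup_right
theorem y2E (Y : ℤ → Subgroup G) : Y 2 ≤ EK Y := le_sup_right

/-- brackets: the map is multiplicative modulo `E` -/
theorem brk_mul (h : Inp τ X Y W T) {a b m k : G} (ha : a ∈ Ng X W) (hb : b ∈ Ng X W) (hm : m ∈ Ng X W)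
    (hk : k ∈ Ng X W) (h1 : m⁻¹ * (a⁻¹ * τ a) ∈ EK W) (h2 : k⁻¹ * (b⁻¹ * τ b) ∈ EK W) :
    (m * k)⁻¹ * ((a * b)⁻¹ * τ (a * b)) ∈ EK W := by
  obtain ⟨e, he⟩ : ∃ e, e = m⁻¹ * (a⁻¹ * τ a) := ⟨_, rfl⟩
  obtain ⟨f, hf⟩ : ∃ f, f = k⁻¹ * (b⁻¹ * τ b) := ⟨_, rfl⟩
  rw [← he] at h1
  rw [← hf] at h2
  have e1 : τ a = a * (m * e) := by rw [he]; group
  have e2 : τ b = b * (k * f) := by rw [hf]; group
  have e3 : (m * k)⁻¹ * ((a * b)⁻¹ * τ (a * b)) =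
      (k⁻¹ * (m⁻¹ * b⁻¹ * m⁻¹⁻¹ * b⁻¹⁻¹) * k⁻¹⁻¹) * (((b * k)⁻¹ * e * (b * k)⁻¹⁻¹)) * f := by
    rw [map_mul, e1, e2]; group
  rw [e3]
  have nE : ∀ a ∈ Ng X W, ∀ r ∈ EK W, a * r * a⁻¹ ∈ EK W := fun a ha r hr => by
    rw [cNg h a ha r hr, mul_inv_cancel_right]; exact hr
  refine mul_mem (mul_mem (nE _ (inv_mem hk) _ (clNg h _ (inv_mem hm) _ (inv_mem hb))) ?_) h2
  exact nE _ (inv_mem (mul_mem hb hk)) _ h1

theorem brk_inv (h : Inp τ X Y W T) {a m : G} (ha : a ∈ Ng X W) (hm : m ∈ Ng X W)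
    (h1 : m⁻¹ * (a⁻¹ * τ a) ∈ EK W) : m⁻¹⁻¹ * (a⁻¹⁻¹ * τ a⁻¹) ∈ EK W := by
  obtain ⟨e, he⟩ : ∃ e, e = m⁻¹ * (a⁻¹ * τ a) := ⟨_, rfl⟩
  rw [← he] at h1
  have e1 : τ a = a * (m * e) := by rw [he]; group
  have e3 : m⁻¹⁻¹ * (a⁻¹⁻¹ * τ a⁻¹) = m * (a * e⁻¹ * a⁻¹) * m⁻¹ * (m * a * m⁻¹ * a⁻¹) := by
    rw [map_inv, e1]; group
  rw [e3]
  have nE : ∀ a ∈ Ng X W, ∀ r ∈ EK W, a * r * a⁻¹ ∈ EK W := fun a ha r hr => by
    rw [cNg h a ha r hr, mul_inv_cancel_right]; exact hr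
  exact mul_mem (nE _ hm _ (nE _ ha _ (inv_mem h1))) (clNg h _ hm _ ha)

/-- brackets of elements of `Ng` -/
theorem brk_Ng (h : Inp τ X Y W T) : ∀ n ∈ Ng X W, ∃ m ∈ NK X Y, m⁻¹ * (n⁻¹ * τ n) ∈ EK W := by
  intro n hn
  have : n ∈ Ng X W ∧ ∃ m ∈ NK X Y, m⁻¹ * (n⁻¹ * τ n) ∈ EK W := by
    refine Subgroup.closure_induction (p := fun n _ => n ∈ Ng X W ∧ ∃ m ∈ NK X Y, m⁻¹ * (n⁻¹ * τ n) ∈ EK W)
      ?_ ?_ ?_ ?_ hn
    · rintro x (hx | hx)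
      · refine ⟨Subgroup.subset_closure (Or.inl hx), x⁻¹ * τ x, ?_, by rw [inv_mul_cancel]; exact one_mem _⟩
        rcases hx with hx | ⟨y, hy, w, hw, rfl⟩
        · exact y4NK Y (brkW h.toGen 4 hx)
        · have e : (y * w * y⁻¹)⁻¹ * τ (y * w * y⁻¹) = y * (w⁻¹ * τ w) * y⁻¹ := by
            simp only [map_mul, map_inv, h.tX 5 y hy]; group
          rw [e]
          exact (base h).nk5 y hy _ (Q2NK Y (ym2Q2 Y (brkW h.toGen _ hw)))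
      · exact ⟨E_le_Ng hx, 1, one_mem _, by rw [inv_one, one_mul]; exact mul_mem (inv_mem hx) ((dE h).inv x hx)⟩
    · exact ⟨one_mem _, 1, one_mem _, by simp⟩
    · rintro x y _ _ ⟨hx, m, hm, h1⟩ ⟨hy, k, hk, h2⟩
      exact ⟨mul_mem hx hy, m * k, mul_mem hm hk, brk_mul h hx hy (NK_le_Ng h hm) (NK_le_Ng h hk) h1 h2⟩
    · rintro x _ ⟨hx, m, hm, h1⟩
      exact ⟨inv_mem hx, m⁻¹, inv_mem hm, brk_inv h hx (NK_le_Ng h hm) h1⟩
  exact this.2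

/-- every element of `N_K` is a bracket modulo `E` -/
theorem surj_Ng (h : Inp τ X Y W T) : ∀ m ∈ NK X Y, ∃ n ∈ Ng X W, m⁻¹ * (n⁻¹ * τ n) ∈ EK W := by
  let S : Subgroup G :=
    { carrier := {m | m ∈ Ng X W ∧ ∃ n ∈ Ng X W, m⁻¹ * (n⁻¹ * τ n) ∈ EK W}
      one_mem' := ⟨one_mem _, 1, one_mem _, by simp⟩
      mul_mem' := by
        rintro a b ⟨ha, m, hm, h1⟩ ⟨hb, k, hk, h2⟩
        exact ⟨mul_mem ha hb, m * k, mul_mem hm hk, brk_mul h hm hk ha hb h1 h2⟩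
      inv_mem' := by
        rintro a ⟨ha, m, hm, h1⟩
        exact ⟨inv_mem ha, m⁻¹, inv_mem hm, brk_inv h hm ha h1⟩ }
  have hle : NK X Y ≤ S := by
    refine (base h).k2.trans (sup_le ((Subgroup.closure_le _).2 ?_) ?_)
    · rintro g (hg | ⟨x, hx, y, hy, rfl⟩)
      · obtain ⟨w, hw, h1⟩ := h.Ws 4 g hg
        exact ⟨Subgroup.subset_closure (Or.inl (Or.inl (h.YW 4 hg))), w,
          Subgroup.subset_closure (Or.inl (Or.inl hw)), by rw [h1, inv_mul_cancel]; exact one_mem _⟩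
      · obtain ⟨w, hw, h1⟩ := h.Ws _ y hy
        refine ⟨Subgroup.subset_closure (Or.inl (Or.inr ⟨x, hx, y, h.YW _ hy, rfl⟩)), x * w * x⁻¹,
          Subgroup.subset_closure (Or.inl (Or.inr ⟨x, hx, w, hw, rfl⟩)), ?_⟩
        have e : (x * w * x⁻¹)⁻¹ * τ (x * w * x⁻¹) = x * (w⁻¹ * τ w) * x⁻¹ := by
          simp only [map_mul, map_inv, h.tX 5 x hx]; group
        rw [e, h1, inv_mul_cancel]; exact one_mem _
    · intro e he
      have heE := (dE h).le he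
      refine ⟨E_le_Ng heE, 1, one_mem _, ?_⟩
      rw [map_one, inv_one, mul_one, mul_one]; exact inv_mem heE
  exact fun m hm => (hle hm).2

/-- `(DC)` -/
theorem Sc_sub (h : Inp τ X Y W T) : Sc τ X Y W ⊆ Ng X W := by
  rintro b ⟨hb, h1⟩
  obtain ⟨m, hm, e, he, hme⟩ := mem_sup' (NKE h).nz (show b⁻¹ * τ b ∈ EK W ⊔ NK X Y by rw [sup_comm]; exact h1)
  -- `b⁻¹ τ b = e m` in some order
  obtain ⟨n, hn, h2⟩ := surj_Ng h e he
  obtain ⟨f, hf⟩ : ∃ f, f = e⁻¹ * (n⁻¹ * τ n) := ⟨_, rfl⟩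
  rw [← hf] at h2
  have e1 : τ n = n * (e * f) := by rw [hf]; group
  have e2 : τ b = b * (e * m) := by rw [← hme]; group
  have hnE := cNg h n hn
  have heE := NKE h e he
  have e3 : (b * n⁻¹)⁻¹ * τ (b * n⁻¹) = (n * e) * (m * f⁻¹) * (n * e)⁻¹ := by
    rw [map_mul, map_inv, e1, e2]; group
  have h3 : (b * n⁻¹)⁻¹ * τ (b * n⁻¹) ∈ EK W := by
    have h4 : m * f⁻¹ ∈ EK W := mul_mem hm (inv_mem h2)
    rw [e3, comm_mul (hnE _ h4) (heE _ h4), mul_inv_cancel_right]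
    exact h4
  obtain ⟨r, hr, h5⟩ := (dE h).exists_fix h.tt h3
  have h6 : ∀ e ∈ EK W, b * n⁻¹ * r * e = e * (b * n⁻¹ * r) := fun e he =>
    comm_mul (comm_mul (hb e he) (comm_inv (hnE e he))) (cE h r hr e he)
  have h7 := (base h).k1 _ h5 (fun w hw => h6 w (y0E W hw))
    (fun x hx => h6 x (y1E W (h.YW 1 (by have := h.Yo 0; exact this.symm ▸ hx))))
    (fun y hy => h6 y (y2E W (h.YW 2 hy)))
  have e8 : b = (b * n⁻¹ * r) * r⁻¹ * n := by group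
  rw [e8]
  exact mul_mem (mul_mem (NK_le_Ng h h7) (inv_mem (E_le_Ng hr))) hn

theorem Ng_sub (h : Inp τ X Y W T) : ∀ n ∈ Ng X W, n ∈ Sc τ X Y W := by
  intro n hn
  refine ⟨cNg h n hn, ?_⟩
  obtain ⟨m, hm, h1⟩ := brk_Ng h n hn
  have e : n⁻¹ * τ n = m * (m⁻¹ * (n⁻¹ * τ n)) := by group
  rw [e]
  exact Subgroup.mul_mem_sup hm h1

theorem Nc_eq (h : Inp τ X Y W T) : Nc τ X Y W = Ng X W :=
  le_antisymm ((Subgroup.closure_le _).2 (Sc_sub h)) fun n hn => Subgroup.subset_closure (Ng_sub h n hn)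

theorem mem_Nc (h : Inp τ X Y W T) {b : G} : b ∈ Nc τ X Y W ↔ b ∈ Sc τ X Y W :=
  ⟨fun hb => Ng_sub h b (Nc_eq h ▸ hb), fun hb => Subgroup.subset_closure hb⟩

/-- `N₁` is a double of `N_K` over `E` -/
theorem dbN (h : Inp τ X Y W T) : DB τ (Nc τ X Y W) (NK X Y) (EK W) (EK Y) := by
  rw [Nc_eq h]
  refine ⟨NK_le_Ng h, E_le_Ng, ?_, ?_, ?_, ?_, ?_, clNg h, sqNg h, dE h⟩
  · intro x hx
    have y (i : ℤ) : Y i ≤ τ.eqLocus (MonoidHom.id G) := fun y hy => h.tX i y (h.YX i hy)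
    have x' (i : ℤ) : X i ≤ τ.eqLocus (MonoidHom.id G) := fun y hy => h.tX i y hy
    have : NK X Y ≤ τ.eqLocus (MonoidHom.id G) :=
      sup_le (sup_le (sup_le (sup_le (sup_le (sup_le (sup_le (sup_le (y 0) (y 1)) (y 2)) (y _)) (y _)) (x' 0))
        (x' 2)) (y 3)) (y 4)
    exact this hx
  · intro b hb
    obtain ⟨m, hm, h1⟩ := brk_Ng h b hb
    have e : τ b = b * (m * (m⁻¹ * (b⁻¹ * τ b))) := by group
    rw [e]
    exact mul_mem hb (mul_mem (NK_le_Ng h hm) (E_le_Ng h1))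
  · intro b hb h1
    have h2 := cNg h b hb
    exact (base h).k1 _ h1 (fun w hw => h2 w (y0E W hw))
      (fun x hx => h2 x (y1E W (h.YW 1 (by have := h.Yo 0; exact this.symm ▸ hx))))
      (fun y hy => h2 y (y2E W (h.YW 2 hy)))
  · intro b hb
    obtain ⟨m, hm, h1⟩ := brk_Ng h b hb
    exact ⟨m, hm, _, h1, by group⟩
  · intro x hx
    obtain ⟨n, hn, h1⟩ := surj_Ng h x hx
    exact ⟨n, hn, _, h1, by group⟩

theorem cNc (h : Inp τ X Y W T) : Cm (Nc τ X Y W) (EK W) := by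
  rw [Nc_eq h]; exact cNg h

/-- `N₁` is `t`-free -/
theorem dN (h : Inp τ X Y W T) : Dbl τ (Nc τ X Y W) (NK X Y) := by
  have hd := dbN h
  have hEN : EK W ≤ Nc τ X Y W := hd.WB
  have h1 := (dE h).sup_B h.tt hd le_rfl inf_le_left (cNc h).nz
  have h2 := h1.1
  have hEK : EK Y ≤ NK X Y := (EQ2 Y).trans (Q2NK Y)
  rwa [sup_eq_right.2 hEN, sup_eq_right.2 hEK] at h2

/-- groups normalising `E`, `N_K` and fixed by `τ` normalise `N₁` -/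
theorem nzN (h : Inp τ X Y W T) {A : Subgroup G} (hA : ∀ a ∈ A, τ a = a) (hE : Nz A (EK W)) (hN : Nz A (NK X Y)) :
    Nz A (Nc τ X Y W) := by
  intro a ha n hn
  rw [mem_Nc h] at hn ⊢
  refine ⟨fun e he => ?_, ?_⟩
  · have h1 := hn.1 _ (hE.inv ha he)
    calc a * n * a⁻¹ * e = a * (n * (a⁻¹ * e * a)) * a⁻¹ := by group
      _ = a * ((a⁻¹ * e * a) * n) * a⁻¹ := by rw [h1]
      _ = e * (a * n * a⁻¹) := by group
  · have e : (a * n * a⁻¹)⁻¹ * τ (a * n * a⁻¹) = a * (n⁻¹ * τ n) * a⁻¹ := by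
      simp only [map_mul, map_inv, hA a ha]; group
    rw [e]
    exact (hN.sup' hE) a ha _ hn.2

theorem Nc_ref (τ : G →* G) (X Y W : ℤ → Subgroup G) : Nc τ (F 1 (-1) X) (F 1 (-1) Y) (F 1 (-1) W) = Nc τ X Y W := by
  unfold Nc Sc
  rw [EK_ref, NK_ref]

theorem nk5' (h : Inp τ X Y W T) : Nz (X (-3)) (NK X Y) := by
  have : Nz (X (-3)) (NK (F 1 (-1) X) (F 1 (-1) Y)) := (base (rf h 1)).nk5
  rwa [NK_ref] at this

theorem nk4' (h : Inp τ X Y W T) : Nz (X (-2)) (NK X Y) := by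
  have : Nz (X (-2)) (NK (F 1 (-1) X) (F 1 (-1) Y)) := (base (rf h 1)).nk4
  rwa [NK_ref] at this

theorem TNK (h : Gen τ X Y W T) (i : ℤ) : Nz (T i) (NK X Y) := by
  have y := h.TY i
  have x := h.TX i
  exact ((((((((y 0).sup' (y 1)).sup' (y 2)).sup' (y _)).sup' (y _)).sup' (x 0)).sup' (x 2)).sup' (y 3)).sup' (y 4)

theorem n5 (h : Inp τ X Y W T) : Nz (X 5) (Nc τ X Y W) := nzN h (h.tX 5) (x5E h) (base h).nk5
theorem nm3 (h : Inp τ X Y W T) : Nz (X (-3)) (Nc τ X Y W) := nzN h (h.tX _) (xm3E h) (nk5' h)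
theorem n4 (h : Inp τ X Y W T) : Nz (X 4) (Nc τ X Y W) := nzN h (h.tX 4) (x4E h) (base h).nk4
theorem nm2 (h : Inp τ X Y W T) : Nz (X (-2)) (Nc τ X Y W) := nzN h (h.tX _) (xm2E h) (nk4' h)
theorem nT (h : Inp τ X Y W T) (i : ℤ) : Nz (T i) (Nc τ X Y W) := nzN h (h.tT i) (TE h.toGen i) (TNK h.toGen i)

theorem W_le_N (h : Inp τ X Y W T) {i : ℤ} (hE : Cm (W i) (EK W)) (hK : Y i ≤ NK X Y) : W i ≤ Nc τ X Y W := by
  intro w hw
  exact Subgroup.subset_closure ⟨hE w hw, Subgroup.mem_sup_left (hK (brkW h.toGen i hw))⟩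

theorem w3N (h : Inp τ X Y W T) : W 3 ≤ Nc τ X Y W := W_le_N h (c3E h) (x3NK Y)
theorem w4N (h : Inp τ X Y W T) : W 4 ≤ Nc τ X Y W := W_le_N h (c4E h) (y4NK Y)

theorem Q2N (h : Inp τ X Y W T) : Q2 W ≤ Nc τ X Y W := by
  have hE : EK W ≤ Nc τ X Y W := (dbN h).WB
  exact sup_le (sup_le hE (W_le_N h (cm1E h) ((ym1Q2 Y).trans (Q2NK Y))))
    (W_le_N h (cm2E h) ((ym2Q2 Y).trans (Q2NK Y)))

end Cfsg.Agent.OddHalf.D7TwF4.Growth.NOne

end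

-- merged: Cfsg.Agent.OddHalf.D7TwF4.Growth.Three
section

/-!
# Growth for `²F₄(q)`: level 3, the double `B₀` of `X₀` (helper702; text bb ODD 13178)
-/

set_option autoImplicit false
set_option linter.unusedVariables false

namespace Cfsg.Agent.OddHalf.D7TwF4.Growth.Three

open Cfsg.Agent.OddHalf.D7TwF4.Growth.Defs Cfsg.Agent.OddHalf.D7TwF4.Growth.Tools
open Cfsg.Agent.OddHalf.D7TwF4.Growth.Frame Cfsg.Agent.OddHalf.D7TwF4.Growth.Two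
open Cfsg.Agent.OddHalf.D7TwF4.Growth.One Cfsg.Agent.OddHalf.D7TwF4.Growth.NOne
open Cfsg.Agent.OddHalf.D7TwF4.Growth

variable {G : Type*} [Group G] {τ : G →* G} {X Y W T : ℤ → Subgroup G}

/-! ### `A₀ = W₋₂ ⋯ W₂` -/

theorem dQ2 (h : Inp τ X Y W T) : Dbl τ (Q2 W) (Q2 Y) := by
  have b := base h
  have n1 : Nz (W (-1)) (EK W) := (cm1E h).nz
  have d1 := (dE h).sup_W h.tt (h.Wab _) (h.Wsq _) (h.Wt _) (fun y hy => h.tX _ y (h.YX _ hy)) (h.YW _) (h.Wf _)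
    (h.Ws _) b.i1 n1
  have c1 : Cm (W (-2)) (W (-1)) := by
    have h0 := (base (rf h 0)).w01
    have h1 := (base (rf h (-1))).w01
    have h2 := (base (sh h (-1))).w01
    exact h2
  have n2 : Nz (W (-2)) (EK W ⊔ W (-1)) := (cm2E h).nz.sup' c1.nz
  exact d1.sup_W h.tt (h.Wab _) (h.Wsq _) (h.Wt _) (fun y hy => h.tX _ y (h.YX _ hy)) (h.YW _) (h.Wf _)
    (h.Ws _) b.i2 n2

theorem cm12 (h : Inp τ X Y W T) : Cm (W (-2)) (W (-1)) := by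
  have h2 := (base (sh h (-1))).w01
  exact h2

/-- `A₀` is abelian -/
theorem cA (h : Inp τ X Y W T) : Cm (Q2 W) (Q2 W) := by
  have e1 : Cm (EK W) (Q2 W) := ((cE h).sup' (cm1E h).symm).sup' (cm2E h).symm
  have e2 : Cm (W (-1)) (Q2 W) := ((cm1E h).sup' (h.Wab _)).sup' (cm12 h).symm
  have e3 : Cm (W (-2)) (Q2 W) := ((cm2E h).sup' (cm12 h)).sup' (h.Wab _)
  exact (e1.sup e2).sup e3

theorem x4A (h : Inp τ X Y W T) : Nz (X 4) (Q2 W) := by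
  have hE : EK W ≤ Q2 W := EQ2 W
  intro x hx e he
  have key : Q2 W ≤ (Q2 W).comap (MulAut.conj x).toMonoidHom := by
    refine sup_le (sup_le ?_ ?_) ?_
    · intro w hw
      exact hE (x4E h x hx w hw)
    · intro w hw
      show x * w * x⁻¹ ∈ Q2 W
      have e : x * w * x⁻¹ = (w * x * w⁻¹ * x⁻¹)⁻¹ * w := by group
      rw [e]
      exact mul_mem (inv_mem ((base h).a14 w hw x hx)) (ym1Q2 W hw)
    · intro w hw
      show x * w * x⁻¹ ∈ Q2 W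
      have e : x * w * x⁻¹ = (w * x * w⁻¹ * x⁻¹)⁻¹ * w := by group
      rw [e]
      exact mul_mem (inv_mem ((base h).a24 w hw x hx)) (ym2Q2 W hw)
  exact key he

/-- groups fixed by `τ` normalising `R` normalise the fixed points -/
theorem nz_fix {R K A : Subgroup G} (hR : Dbl τ R K) (hA : ∀ a ∈ A, τ a = a) (hn : Nz A R) : Nz A K := by
  intro a ha k hk
  apply hR.fix _ (hn a ha k (hR.le hk))
  rw [map_mul, map_mul, map_inv, hA a ha, hR.fixK k hk]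

/-! ### `C_E(T₀) = W₀` -/

theorem cT (h : Inp τ X Y W T) : ∀ e ∈ EK W, (∀ t ∈ T 0, e * t = t * e) → e ∈ W 0 := by
  have key : ∀ e ∈ EK W, (∀ t ∈ T 0, e * t = t * e) → τ e = e → e ∈ Y 0 := by
    intro e he ht hτ
    have h1 : e ∈ EK Y := (dE h).fix e he hτ
    have h2 : e ∈ X 0 := (base h).kT e (Q2NK Y (EQ2 Y h1)) ht
    exact (base h).i3 ⟨EQ2 Y h1, h2⟩
  intro e he ht
  have h1 : e⁻¹ * τ e ∈ Y 0 := by
    apply key _ (mul_mem (inv_mem he) ((dE h).inv e he))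
    · intro t ht'
      refine comm_mul (comm_inv (ht t ht')) ?_
      have := congrArg τ (ht t ht')
      rwa [map_mul, map_mul, h.tT 0 t ht'] at this
    · have e1 := (inv_eq_of_mul_eq_one_left (sqE h e he))
      have e2 := (inv_eq_of_mul_eq_one_left (sqE h _ ((dE h).inv e he)))
      rw [map_mul, map_inv, h.tt, e1, e2]
      exact cE h _ ((dE h).inv e he) e he
  obtain ⟨w, hw, h2⟩ := h.Ws 0 _ h1
  have hwE : w ∈ EK W := y0E W hw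
  have h3 : τ (e * w⁻¹) = e * w⁻¹ := by
    have e1 : τ e = e * (e⁻¹ * τ e) := by group
    have e2 : τ w = w * (w⁻¹ * τ w) := by group
    rw [map_mul, map_inv, e1, e2, h2]; group
  have h4 := key _ (mul_mem he (inv_mem hwE)) (fun t ht' => comm_mul (ht t ht')
    (comm_inv ((h.TWc 0 t ht' w hw).symm))) h3
  have e5 : e = e * w⁻¹ * w := by group
  rw [e5]; exact mul_mem (h.YW 0 h4) hw

/-! ### `B₀` -/

/-- `C_{N₁}(T₀)` -/
def Bp (τ : G →* G) (X Y W T : ℤ → Subgroup G) : Subgroup G := Nc τ X Y W ⊓ Subgroup.centralizer (T 0 : Set G)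

theorem mem_Bp {b : G} : b ∈ Bp τ X Y W T ↔ b ∈ Nc τ X Y W ∧ ∀ t ∈ T 0, b * t = t * b := by
  rw [Bp, Subgroup.mem_inf, Subgroup.mem_centralizer_iff]
  exact and_congr_right fun _ => ⟨fun h t ht => (h t ht).symm, fun h t ht => (h t ht).symm⟩

theorem finT (h : Gen τ X Y W T) (i : ℤ) : Finite (T i) := by
  apply Nat.finite_of_card_ne_zero
  intro h0
  have := h.Todd i
  rw [h0] at this
  exact absurd this (by decide)

theorem dbP (h : Inp τ X Y W T) : DB τ (Bp τ X Y W T) (X 0) (W 0) (Y 0) := by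
  have hd := dbN h
  have hτ : ∀ b ∈ Bp τ X Y W T, τ b ∈ Bp τ X Y W T := by
    intro b hb
    rw [mem_Bp] at hb ⊢
    refine ⟨hd.inv b hb.1, fun t ht => ?_⟩
    have := congrArg τ (hb.2 t ht)
    rwa [map_mul, map_mul, h.tT 0 t ht] at this
  have hXB : X 0 ≤ Bp τ X Y W T := fun x hx =>
    mem_Bp.2 ⟨hd.XB (x0NK Y hx), fun t ht => (h.TXc 0 t ht x hx).symm⟩
  have hWB : W 0 ≤ Bp τ X Y W T := fun x hx =>
    mem_Bp.2 ⟨hd.WB (y0E W hx), fun t ht => (h.TWc 0 t ht x hx).symm⟩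
  have hfix : ∀ b ∈ Bp τ X Y W T, τ b = b → b ∈ X 0 := fun b hb h1 =>
    (base h).kT b (hd.fix b (mem_Bp.1 hb).1 h1) (mem_Bp.1 hb).2
  have hsq : ∀ b ∈ Bp τ X Y W T, b * b ∈ W 0 := fun b hb =>
    cT h _ (hd.sq b (mem_Bp.1 hb).1) fun t ht => comm_mul ((mem_Bp.1 hb).2 t ht) ((mem_Bp.1 hb).2 t ht)
  refine ⟨hXB, hWB, h.tX 0, hτ, hfix, ?_, ?_, ?_, hsq, dW h.toGen 0⟩
  · intro b hb
    obtain ⟨g, hg⟩ : ∃ g, g = b⁻¹ * τ b := ⟨_, rfl⟩
    have hgB : g ∈ Bp τ X Y W T := hg ▸ mul_mem (inv_mem hb) (hτ b hb)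
    have h1 : g⁻¹ * τ g ∈ W 0 := by
      have e : g⁻¹ * τ g = (g * g)⁻¹ := by rw [hg, map_mul, map_inv, h.tt]; group
      rw [e]; exact inv_mem (hsq g hgB)
    obtain ⟨r, hr, h2⟩ := (dW h.toGen 0).exists_fix h.tt h1
    exact ⟨g * r, hfix _ (mul_mem hgB (hWB hr)) h2, r⁻¹, inv_mem hr, by rw [← hg]; group⟩
  · intro x hx
    have := finT h.toGen 0
    obtain ⟨n, hn, e, he, h1⟩ := hd.surj x (x0NK Y hx)
    have hEN : EK W ≤ Nc τ X Y W := hd.WB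
    have hKN : NK X Y ≤ Nc τ X Y W := hd.XB
    have hV : NK X Y ⊔ EK W ≤ Nc τ X Y W := sup_le hKN hEN
    obtain ⟨v, hv, h2⟩ := Avg.avg2 (T := T 0) (E := EK W) (V := NK X Y ⊔ EK W) (h.Todd 0) (cE h) (sqE h)
      (TE h.toGen 0) le_sup_right (hd.comm.mono hV hV le_rfl) (fun v hv => hd.sq v (hV hv))
      ((TNK h.toGen 0).sup' (TE h.toGen 0)) (n := n) ((cNc h).nz.le hn) (by
        intro t ht
        have htn : t * n * t⁻¹ ∈ Nc τ X Y W := nT h 0 t ht n hn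
        have hgN : n⁻¹ * (t * n * t⁻¹) ∈ Nc τ X Y W := mul_mem (inv_mem hn) htn
        have e1 : τ n = n * (x * e) := by rw [← h1]; group
        have etx : t * x * t⁻¹ = x := by rw [h.TXc 0 t ht x hx, mul_inv_cancel_right]
        have e2 : (n⁻¹ * (t * n * t⁻¹))⁻¹ * τ (n⁻¹ * (t * n * t⁻¹)) =
            ((n⁻¹ * (t * n * t⁻¹))⁻¹ * (e⁻¹ * x⁻¹) * (n⁻¹ * (t * n * t⁻¹))⁻¹⁻¹ * (e⁻¹ * x⁻¹)⁻¹) *
            (e⁻¹ * (x⁻¹ * (t * x * t⁻¹)) * (t * e * t⁻¹)) := by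
          simp only [map_mul, map_inv, e1, h.tT 0 t ht]; group
        have h3 : (n⁻¹ * (t * n * t⁻¹))⁻¹ * τ (n⁻¹ * (t * n * t⁻¹)) ∈ EK W := by
          rw [e2, etx, inv_mul_cancel, mul_one]
          refine mul_mem (hd.comm _ (inv_mem hgN) _ (mul_mem (inv_mem (hEN he)) (inv_mem (hKN (x0NK Y hx))))) ?_
          exact mul_mem (inv_mem he) (TE h.toGen 0 t ht e he)
        obtain ⟨y, hy, w, hw, h4⟩ := hd.mem_of_brk h.tt hgN h3
        rw [h4]; exact Subgroup.mul_mem_sup hy hw)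
    have hnv : n * v ∈ Bp τ X Y W T := mem_Bp.2 ⟨mul_mem hn (hV hv), fun t ht => (h2 t ht).symm⟩
    refine ⟨n * v, hnv, x⁻¹ * ((n * v)⁻¹ * τ (n * v)), ?_, by group⟩
    -- the bracket is in `x E`
    obtain ⟨y, hy, w, hw, rfl⟩ := mem_sup (NKE h).symm.nz hv
    apply cT h
    · have e1 : τ n = n * (x * e) := by rw [← h1]; group
      have e2 : x⁻¹ * ((n * (y * w))⁻¹ * τ (n * (y * w))) =
          (x⁻¹ * (y * w)⁻¹ * x⁻¹⁻¹ * (y * w)⁻¹⁻¹) * ((y * w)⁻¹ * e * (y * w)⁻¹⁻¹) * (w⁻¹ * τ w) := by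
        simp only [map_mul, e1, hd.Xf y hy]; group
      rw [e2]
      have hyw : y * w ∈ Nc τ X Y W := mul_mem (hKN hy) (hEN hw)
      refine mul_mem (mul_mem (hd.comm _ (inv_mem (hKN (x0NK Y hx))) _ (inv_mem hyw)) ?_) ?_
      · exact (cNc h).nz _ (inv_mem hyw) _ he
      · exact mul_mem (inv_mem hw) ((dE h).inv w hw)
    · intro t ht
      refine comm_mul (comm_inv (h.TXc 0 t ht x hx).symm) (comm_mul (comm_inv ((mem_Bp.1 hnv).2 t ht)) ?_)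
      exact (mem_Bp.1 (hτ _ hnv)).2 t ht
  · intro a ha b hb
    exact cT h _ (hd.comm a (mem_Bp.1 ha).1 b (mem_Bp.1 hb).1) fun t ht =>
      comm_comm ((mem_Bp.1 ha).2 t ht) ((mem_Bp.1 hb).2 t ht)

/-- `B₊ ≤ B₋` -/
theorem Bp_le (h : Inp τ X Y W T) :
    Bp τ X Y W T ≤ Bp τ (F 0 (-1) X) (F 0 (-1) Y) (F 0 (-1) W) (F 0 (-1) T) := by
  have h' := neg h
  have dp := dbP h
  have dm : DB τ (Bp τ (F 0 (-1) X) (F 0 (-1) Y) (F 0 (-1) W) (F 0 (-1) T)) (X 0) (W 0) (Y 0) := by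
    have := dbP h'
    exact this
  have cm0 : ∀ b ∈ Bp τ (F 0 (-1) X) (F 0 (-1) Y) (F 0 (-1) W) (F 0 (-1) T), ∀ w ∈ W 0, b * w = w * b := by
    intro b hb w hw
    have h1 : w ∈ EK (F 0 (-1) W) := y0E (F 0 (-1) W) (by exact hw)
    exact cNc h' b (mem_Bp.1 hb).1 w h1
  have cmT : ∀ b ∈ Bp τ (F 0 (-1) X) (F 0 (-1) Y) (F 0 (-1) W) (F 0 (-1) T), ∀ t ∈ T 0, b * t = t * b := by
    intro b hb t ht
    exact (mem_Bp.1 hb).2 t (by exact ht)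
  intro a ha
  obtain ⟨x, hx, w, hw, h1⟩ := dp.brk a ha
  obtain ⟨b, hb, w', hw', h2⟩ := dm.surj x hx
  have e1 : τ a = a * (x * w) := by rw [← h1]; group
  have e2 : τ b = b * (x * w') := by rw [← h2]; group
  have hww : w * w'⁻¹ ∈ W 0 := mul_mem hw (inv_mem hw')
  have e3 : (a * b⁻¹)⁻¹ * τ (a * b⁻¹) = (b * x) * (w * w'⁻¹) * (b * x)⁻¹ := by
    rw [map_mul, map_inv, e1, e2]; group
  have h3 : (a * b⁻¹)⁻¹ * τ (a * b⁻¹) ∈ W 0 := by
    rw [e3, comm_mul (cm0 b hb _ hww) ((base h).x0w0 x hx _ hww), mul_inv_cancel_right]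
    exact hww
  obtain ⟨r, hr, h4⟩ := (dW h.toGen 0).exists_fix h.tt h3
  obtain ⟨y, hy, g, hg, h5⟩ := (base h).k4 (a * b⁻¹ * r) h4
    (fun w hw => comm_mul (comm_mul (cNc h a (mem_Bp.1 ha).1 w (y0E W hw)) (comm_inv (cm0 b hb w hw)))
      (h.Wab 0 r hr w hw))
    (fun t ht => comm_mul (comm_mul ((mem_Bp.1 ha).2 t ht) (comm_inv (cmT b hb t ht))) (h.TWc 0 t ht r hr).symm)
  -- `a = g * b1`
  obtain ⟨b1, hb1⟩ : ∃ b1, b1 = y * r⁻¹ * b := ⟨_, rfl⟩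
  have hb1B : b1 ∈ Bp τ (F 0 (-1) X) (F 0 (-1) Y) (F 0 (-1) W) (F 0 (-1) T) :=
    hb1 ▸ mul_mem (mul_mem (dm.XB hy) (inv_mem (dm.WB hr))) hb
  have hgr : g * r⁻¹ = r⁻¹ * g := (comm_inv (h.TWc 0 g hg r hr).symm).symm
  have e6 : a = g * b1 := by
    calc a = (a * b⁻¹ * r) * r⁻¹ * b := by group
      _ = (y * g) * r⁻¹ * b := by rw [h5]
      _ = (g * y) * r⁻¹ * b := by rw [h.TXc 0 g hg y hy]
      _ = g * b1 := by rw [hb1]; group
  have hbg : b1 * g = g * b1 := cmT b1 hb1B g hg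
  have pow4 : ∀ B : Subgroup G, ∀ c ∈ B, (∀ b ∈ B, b * b ∈ W 0) → c ^ 4 = 1 := by
    intro B c hc hB
    have h7 := hB c hc
    have h8 := h.Wsq 0 _ h7
    calc c ^ 4 = (c * c) * (c * c) := by simp only [pow_succ, pow_zero, one_mul, mul_assoc]
      _ = 1 := h8
  have e7 : g ^ 4 = 1 := by
    have h8 := pow4 _ a ha dp.sq
    have h9 := pow4 _ b1 hb1B dm.sq
    have hc : Commute g b1 := hbg.symm
    rw [e6, hc.mul_pow, h9, mul_one] at h8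
    exact h8
  have h10 : g = 1 := by
    have := finT h.toGen 0
    have h11 : orderOf g ∣ 4 := orderOf_dvd_of_pow_eq_one e7
    have h12 : orderOf g ∣ Nat.card (T 0) := by
      have := orderOf_dvd_natCard (⟨g, hg⟩ : T 0)
      rwa [Subgroup.orderOf_mk] at this
    have h13 : Nat.Coprime 4 (Nat.card (T 0)) := by
      have : Nat.Coprime 2 (Nat.card (T 0)) := (Nat.coprime_two_left).2 (h.Todd 0)
      exact Nat.Coprime.pow_left 2 this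
    exact orderOf_eq_one_iff.1 (Nat.eq_one_of_dvd_coprimes h13 h11 h12)
  rw [e6, h10, one_mul]
  exact hb1B

/-! ### the families -/

/-- `N i` -/
def Nf (τ : G →* G) (X Y W : ℤ → Subgroup G) : ℤ → Subgroup G := fun i =>
  Nc τ (fun k => X (i - 1 + k)) (fun k => Y (i - 1 + k)) (fun k => W (i - 1 + k))

/-- `B i` -/
def Bf (τ : G →* G) (X Y W T : ℤ → Subgroup G) : ℤ → Subgroup G := fun i =>
  Nf τ X Y W (i + 1) ⊓ Nf τ X Y W (i - 1) ⊓ Subgroup.centralizer (T i : Set G)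

theorem Nf_nat (τ : G →* G) (X Y W : ℤ → Subgroup G) (c : ℤ) {e : ℤ} (he : e = 1 ∨ e = -1) :
    F c e (Nf τ X Y W) = Nf τ (F c e X) (F c e Y) (F c e W) := by
  rcases he with rfl | rfl
  · funext k
    have key : ∀ X : ℤ → Subgroup G, (fun j => X (2 * c + 1 * k - 1 + j)) = fun j => X (2 * c + 1 * (k - 1 + j)) := by
      intro X; funext j; congr 1; ring
    show Nc τ (fun j => X (2 * c + 1 * k - 1 + j)) (fun j => Y (2 * c + 1 * k - 1 + j))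
      (fun j => W (2 * c + 1 * k - 1 + j)) = Nc τ (fun j => X (2 * c + 1 * (k - 1 + j)))
      (fun j => Y (2 * c + 1 * (k - 1 + j))) (fun j => W (2 * c + 1 * (k - 1 + j)))
    rw [key, key, key]
  · funext k
    have key : ∀ X : ℤ → Subgroup G, F 1 (-1) (fun j => X (2 * c + (-1) * k - 1 + j)) =
        fun j => X (2 * c + (-1) * (k - 1 + j)) := by
      intro X; funext j
      show X (2 * c + (-1) * k - 1 + (2 * 1 + (-1) * j)) = _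
      congr 1; ring
    show Nc τ (fun j => X (2 * c + (-1) * k - 1 + j)) (fun j => Y (2 * c + (-1) * k - 1 + j))
      (fun j => W (2 * c + (-1) * k - 1 + j)) = Nc τ (fun j => X (2 * c + (-1) * (k - 1 + j)))
      (fun j => Y (2 * c + (-1) * (k - 1 + j))) (fun j => W (2 * c + (-1) * (k - 1 + j)))
    rw [← Nc_ref, key, key, key]

theorem Bf_nat (τ : G →* G) (X Y W T : ℤ → Subgroup G) (c : ℤ) {e : ℤ} (he : e = 1 ∨ e = -1) :
    F c e (Bf τ X Y W T) = Bf τ (F c e X) (F c e Y) (F c e W) (F c e T) := by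
  funext k
  show Nf τ X Y W (2 * c + e * k + 1) ⊓ Nf τ X Y W (2 * c + e * k - 1) ⊓
      Subgroup.centralizer (T (2 * c + e * k) : Set G) =
    Nf τ (F c e X) (F c e Y) (F c e W) (k + 1) ⊓ Nf τ (F c e X) (F c e Y) (F c e W) (k - 1) ⊓
      Subgroup.centralizer (T (2 * c + e * k) : Set G)
  rw [← Nf_nat τ X Y W c he]
  show _ = Nf τ X Y W (2 * c + e * (k + 1)) ⊓ Nf τ X Y W (2 * c + e * (k - 1)) ⊓ _
  rcases he with rfl | rfl
  · have e1 : 2 * c + 1 * k + 1 = 2 * c + 1 * (k + 1) := by ring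
    have e2 : 2 * c + 1 * k - 1 = 2 * c + 1 * (k - 1) := by ring
    rw [e1, e2]
  · have e1 : 2 * c + (-1) * k + 1 = 2 * c + (-1) * (k - 1) := by ring
    have e2 : 2 * c + (-1) * k - 1 = 2 * c + (-1) * (k + 1) := by ring
    rw [e1, e2, inf_comm (Nf τ X Y W (2 * c + -1 * (k - 1)))]

theorem Nf_one (τ : G →* G) (X Y W : ℤ → Subgroup G) : Nf τ X Y W 1 = Nc τ X Y W := by
  have key : ∀ X : ℤ → Subgroup G, (fun k => X (1 - 1 + k)) = X := by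
    intro X; funext k; congr 1; ring
  unfold Nf
  rw [key, key, key]

theorem Nf_neg (τ : G →* G) (X Y W : ℤ → Subgroup G) :
    Nf τ X Y W (-1) = Nc τ (F 0 (-1) X) (F 0 (-1) Y) (F 0 (-1) W) := by
  rw [← Nf_one, ← Nf_nat τ X Y W 0 (Or.inr rfl)]
  rfl

/-- `B₀` -/
theorem Bf_zero (h : Inp τ X Y W T) : Bf τ X Y W T 0 = Bp τ X Y W T := by
  have h1 : Bf τ X Y W T 0 = Nf τ X Y W 1 ⊓ Nf τ X Y W (-1) ⊓ Subgroup.centralizer (T 0 : Set G) := rfl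
  rw [h1, Nf_one, Nf_neg]
  apply le_antisymm
  · exact fun b hb => ⟨hb.1.1, hb.2⟩
  · intro b hb
    exact ⟨⟨hb.1, (Bp_le h hb).1⟩, hb.2⟩

end Cfsg.Agent.OddHalf.D7TwF4.Growth.Three

end

-- merged: Cfsg.Agent.OddHalf.D7TwF4.Growth.FiveDef
section

/-!
# Growth for `²F₄(q)`: level 5, interface of (s1) - (r4) (helper583; text bb ODD 13178)

`FiveA.base5A : Inp5 τ X Y W T B N → Base5A τ X Y W T B N` (in all frames by `inp5`).
-/

set_option autoImplicit false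
set_option linter.unusedVariables false

namespace Cfsg.Agent.OddHalf.D7TwF4.Growth.FiveDef

open Cfsg.Agent.OddHalf.D7TwF4.Growth.Defs Cfsg.Agent.OddHalf.D7TwF4.Growth.Tools
open Cfsg.Agent.OddHalf.D7TwF4.Growth.Frame Cfsg.Agent.OddHalf.D7TwF4.Growth.Two
open Cfsg.Agent.OddHalf.D7TwF4.Growth.Inp

variable {G : Type*} [Group G]

/-- Level 5 (s1) - (r4): relations of `W₋₃`, `W₃` with `X₋₃ W₋₃`, `W₁ W₂` -/
structure Base5A (τ : G →* G) (X Y W T B N : ℤ → Subgroup G) : Prop where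
  /-- (s1) -/
  s1 : Cl (W 3) (X (-3)) (D W B)
  /-- (s2) -/
  s2 : Cl (W (-3)) (X 3) (D W B)
  /-- (s3) -/
  s3 : Cl (W 3) (W (-3)) (D W B)
  /-- (r2) -/
  r2 : Cl (W (-3)) (W 1) (W 0)
  /-- (r3) -/
  r3 : Cl (W (-3)) (Y 2) (W 0)
  /-- (r4) -/
  r4 : Cl (W (-3)) (W 2) (W 0)

end Cfsg.Agent.OddHalf.D7TwF4.Growth.FiveDef

end

-- merged: Cfsg.Agent.OddHalf.D7TwF4.Growth.FiveA
section

/-!
# Growth for `²F₄(q)`: level 5 (s1) - (r4) (helper583; text bb ODD 13178)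

`base5A : Inp5 τ X Y W T B N → Base5A τ X Y W T B N`.
-/

set_option autoImplicit false
set_option linter.unusedVariables false

namespace Cfsg.Agent.OddHalf.D7TwF4.Growth.FiveA

open Cfsg.Agent.OddHalf.D7TwF4.Growth.Defs Cfsg.Agent.OddHalf.D7TwF4.Growth.Tools
open Cfsg.Agent.OddHalf.D7TwF4.Growth.Frame Cfsg.Agent.OddHalf.D7TwF4.Growth.Two
open Cfsg.Agent.OddHalf.D7TwF4.Growth.Inp Cfsg.Agent.OddHalf.D7TwF4.Growth.FiveDef
open Cfsg.Agent.OddHalf.D7TwF4.Growth.NOne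
open Cfsg.Agent.OddHalf.D7TwF4.Growth

variable {G : Type*} [Group G] {τ : G →* G} {X Y W T B N : ℤ → Subgroup G}

/-! ### positions -/

theorem Fk {c e k j : ℤ} (Z : ℤ → Subgroup G) (hj : 2 * c + e * k = j) : F c e Z k = Z j := by subst hj; rfl

theorem nX3 : F 0 (-1) X (-3) = X 3 := Fk X (by norm_num)
theorem nX3' : F 0 (-1) X 3 = X (-3) := Fk X (by norm_num)
theorem nX2 : F 0 (-1) X (-2) = X 2 := Fk X (by norm_num)

theorem EK_neg (W : ℤ → Subgroup G) : EK (F 0 (-1) W) = W 0 ⊔ W (-1) ⊔ W (-2) := by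
  show F 0 (-1) W 0 ⊔ F 0 (-1) W 1 ⊔ F 0 (-1) W 2 = _
  rw [Fk (j := 0) W (by norm_num), Fk (j := -1) W (by norm_num), Fk (j := -2) W (by norm_num)]

theorem Q2_neg (W : ℤ → Subgroup G) : Q2 (F 0 (-1) W) = Q2 W := by
  show EK (F 0 (-1) W) ⊔ F 0 (-1) W (-1) ⊔ F 0 (-1) W (-2) = W 0 ⊔ W 1 ⊔ W 2 ⊔ W (-1) ⊔ W (-2)
  rw [EK_neg, Fk (j := 1) W (by norm_num), Fk (j := 2) W (by norm_num)]
  ac_rfl

theorem D_neg (W B : ℤ → Subgroup G) : D (F 0 (-1) W) (F 0 (-1) B) = D W B := by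
  show Q2 (F 0 (-1) W) ⊔ F 0 (-1) B 0 = Q2 W ⊔ B 0
  rw [Q2_neg, Fk (j := 0) B (by norm_num)]

/-! ### odd indices -/

theorem X3W (h : Gen τ X Y W T) : X 3 ≤ W 3 := by
  have e : Y 3 = X 3 := h.Yo 1
  rw [← e]; exact h.YW 3

theorem Xm3Y (h : Gen τ X Y W T) : Y (-3) = X (-3) := by
  have e := h.Yo (-2)
  norm_num at e; exact e

theorem Xm3W (h : Gen τ X Y W T) : X (-3) ≤ W (-3) := by
  rw [← Xm3Y h]; exact h.YW _

theorem Xm1Y (h : Gen τ X Y W T) : Y (-1) = X (-1) := by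
  have e := h.Yo (-1)
  norm_num at e; exact e

theorem X1Y (h : Gen τ X Y W T) : Y 1 = X 1 := h.Yo 0

theorem X1Q (h : Gen τ X Y W T) : X 1 ≤ Q2 W := by
  rw [← X1Y h]; exact (h.YW 1).trans ((y1E W).trans (EQ2 W))

theorem Xm1Q (h : Gen τ X Y W T) : X (-1) ≤ Q2 W := by
  rw [← Xm1Y h]; exact (h.YW (-1)).trans (ym1Q2 W)

theorem W0Q : W 0 ≤ Q2 W := (y0E W).trans (EQ2 W)
theorem W1Q : W 1 ≤ Q2 W := (y1E W).trans (EQ2 W)
theorem W2Q : W 2 ≤ Q2 W := (y2E W).trans (EQ2 W)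

/-! ### `D₀` -/

theorem cD (h : Inp2 τ X Y W T B N) : Cm (D W B) (Q2 W) := (Three.cA h.toInp).sup (base2 h).bA

theorem dD (h : Inp2 τ X Y W T B N) : Dbl τ (D W B) (Q1 X Y) :=
  ((Three.dQ2 h.toInp).sup_B h.tt (base2 h).db W0Q (base h.toInp).i3 (base2 h).bA.nz).1

theorem D_le_N (h : Inp2 τ X Y W T B N) : D W B ≤ N 1 := sup_le (base2 h).nA (base2 h).nB

theorem W3_le_N (h : Inp2 τ X Y W T B N) : W 3 ≤ N 1 := by
  rw [(base2 h).ndec]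
  exact le_sup_right.trans le_sup_left

theorem E_le_D (W B : ℤ → Subgroup G) : EK W ≤ D W B := (EQ2 W).trans le_sup_left

theorem nzN (h : Inp2 τ X Y W T B N) : Nz (N 1) (D W B) :=
  ((base2 h).ncomm.mono le_rfl (D_le_N h) le_rfl).nz (E_le_D W B)

theorem nz3 (h : Inp2 τ X Y W T B N) : Nz (W 3) (D W B) := (nzN h).mono (W3_le_N h)

theorem nzm3 (h : Inp2 τ X Y W T B N) : Nz (W (-3)) (D W B) := by
  have h1 := nz3 (rf2 h 0)
  rwa [D_neg, Fk (j := -3) W (by norm_num)] at h1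

theorem nzT (h : Inp2 τ X Y W T B N) (i : ℤ) : Nz (T i) (D W B) :=
  (((((h.TW i 0).sup' (h.TW i 1)).sup' (h.TW i 2)).sup' (h.TW i (-1))).sup' (h.TW i (-2))).sup' ((base2 h).bTn i)

/-- `X₋₃` normalises `Q1` -/
theorem nzQ1 (h : Inp2 τ X Y W T B N) : Nz (X (-3)) (Q1 X Y) :=
  Three.nz_fix (dD h) (h.tX _) ((nzm3 h).mono (Xm3W h.toGen))

theorem Q1_le_D (h : Inp2 τ X Y W T B N) : Q1 X Y ≤ D W B := (dD h).le

/-! ### the centraliser of `W₀`, `X₁`, `X₋₁`, `Z₂` -/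

theorem w32 (h : Inp τ X Y W T) : Cm (W 3) (W 2) := (base (sh h 1)).w01.symm
theorem w31 (h : Inp τ X Y W T) : Cm (W 3) (W 1) := (base (sh h 1)).w11.symm
theorem w30 (h : Inp τ X Y W T) : Cm (W 3) (W 0) := (base (rf h 1)).w12

theorem wm30 (h : Inp τ X Y W T) : Cm (W (-3)) (W 0) := by
  have h1 := w30 (rf h 0)
  rwa [Fk (j := -3) W (by norm_num), Fk (j := 0) W (by norm_num)] at h1

theorem wm31 (h : Inp τ X Y W T) : Cm (W (-3)) (W (-1)) := by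
  have h1 := w31 (rf h 0)
  rwa [Fk (j := -3) W (by norm_num), Fk (j := -1) W (by norm_num)] at h1

theorem nr33 (h : Inp2 τ X Y W T B N) : Cl (X (-3)) (Y 3) (Q1 X Y ⊔ Y 3) := by
  have e : Y 3 = X 3 := h.Yo 1
  rw [e]
  refine (base h.toInp).r33.symm.mono3 (le_trans ?_ le_sup_left)
  exact sup_le ((ym1Q2 Y).trans le_sup_left) (((y1E Y).trans (EQ2 Y)).trans le_sup_left)

theorem nzQ13 (h : Inp2 τ X Y W T B N) : Nz (X (-3)) (Q1 X Y ⊔ Y 3) := by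
  rw [sup_comm]
  exact Cl.nz' (by rw [sup_comm]; exact nr33 h) (nzQ1 h)

/-- (k5) without the part in `X₋₃` -/
theorem k5' (h : Inp2 τ X Y W T B N) {c : G} (hc : τ c = c) (h0 : ∀ w ∈ W 0, c * w = w * c)
    (h1 : ∀ x ∈ X (-1), c * x = x * c) (h2 : ∀ x ∈ X 1, c * x = x * c) (h3 : ∀ y ∈ Y 2, c * y = y * c) :
    c ∈ Q1 X Y ⊔ Y 3 := by
  have b := base h.toInp
  obtain ⟨q, hq, y, hy, rfl⟩ := mem_sup (by rw [Xm3Y h.toGen]; exact nzQ13 h) (b.k5 c hc h0 h1 h2)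
  have hq2 : ∀ z ∈ Y 2, q * z = z * q := by
    have h4 : Cm (Q1 X Y ⊔ Y 3) (Y 2) := by
      refine Cm.sup ?_ (((w32 h.toInp).mono (h.YW 3) (h.YW 2)))
      exact (cD h).mono (Q1_le_D h) ((h.YW 2).trans W2Q)
    exact h4 q hq
  have hy1 : y = 1 := b.kc y (by rw [← Xm3Y h.toGen]; exact hy) fun z hz => comm_of_mul (h3 z hz) (hq2 z hz)
  rw [hy1, mul_one]
  exact hq

/-! ### (s1) -/

theorem xm3_w2 (h : Inp τ X Y W T) : Cl (W 2) (X (-3)) (W 0) := by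
  have h1 := (base (rf h 0)).c23
  rwa [Fk (j := 2) W (by norm_num), Fk (j := -3) X (by norm_num), Fk (j := 0) W (by norm_num)] at h1

/-- `[X₋₃, W₁] = 1` -/
theorem xm3_w1 (h : Inp2 τ X Y W T B N) : Cm (W 1) (X (-3)) := by
  have h1 := (base2 (sh2 h (-1))).o4
  rwa [Fk (j := 1) W (by norm_num), Fk (j := -3) X (by norm_num)] at h1

/-- `[W₋₃, X₁] = 1` -/
theorem wm3_x1 (h : Inp2 τ X Y W T B N) : Cm (W (-3)) (X 1) := by
  have h1 := (base2 (rf2 h 0)).o4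
  rwa [Fk (j := -3) W (by norm_num), Fk (j := 1) X (by norm_num)] at h1

/-- a commutator commutes with `y`: `y a y⁻¹ ∈ a R`, `R` centralises `b` -/
theorem cc_left {R : Subgroup G} {a b y : G} (ha : a⁻¹ * y * a * y⁻¹ ∈ R) (hb : b * y = y * b)
    (hR : ∀ r ∈ R, r * b = b * r) : (a * b * a⁻¹ * b⁻¹) * y = y * (a * b * a⁻¹ * b⁻¹) :=
  comm_comm_left (g := a⁻¹ * y * a * y⁻¹) (by group) hb (hR _ ha)

theorem cc_right {R : Subgroup G} {a b y : G} (hb : b⁻¹ * y * b * y⁻¹ ∈ R) (ha : a * y = y * a)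
    (hR : ∀ r ∈ R, r * a = a * r) : (a * b * a⁻¹ * b⁻¹) * y = y * (a * b * a⁻¹ * b⁻¹) :=
  comm_comm_right (g := b⁻¹ * y * b * y⁻¹) (by group) ha (hR _ hb)

theorem s1_mem (h : Inp2 τ X Y W T B N) {w x : G} (hw : w ∈ W 3) (hx : x ∈ X (-3)) :
    w * x * w⁻¹ * x⁻¹ ∈ D W B ⊔ Y 3 := by
  have b := base h.toInp
  have nw := (nz3 h).le hw
  have nx := (nzm3 h).le (Xm3W h.toGen hx)
  have tx : τ x = x := h.tX _ x hx
  have hy : w⁻¹ * τ w ∈ Y 3 := One.brkW h.toGen 3 hw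
  have hy' : w⁻¹ * τ w ∈ X 3 := h.YX 3 hy
  have hD : (w * x * w⁻¹ * x⁻¹)⁻¹ * τ (w * x * w⁻¹ * x⁻¹) ∈ D W B := by
    refine tau_comm (a' := w⁻¹ * τ w) (b' := 1) (by group) (by rw [tx, mul_one]) nw nx ?_ (by simp) (by simp)
    refine (le_trans ?_ (Q1_le_D h)) (b.r33 _ hy' x hx)
    exact sup_le ((ym1Q2 Y).trans le_sup_left) (((y1E Y).trans (EQ2 Y)).trans le_sup_left)
  obtain ⟨r, hr, hcr⟩ := (dD h).exists_fix h.tt hD
  have hrA : ∀ a ∈ Q2 W, r * a = a * r := cD h r hr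
  have c0 : ∀ z ∈ W 0, (w * x * w⁻¹ * x⁻¹) * z = z * (w * x * w⁻¹ * x⁻¹) := fun z hz =>
    comm_comm (w30 h.toInp w hw z hz) (wm30 h.toInp x (Xm3W h.toGen hx) z hz)
  have c1 : ∀ z ∈ X (-1), (w * x * w⁻¹ * x⁻¹) * z = z * (w * x * w⁻¹ * x⁻¹) := fun z hz =>
    comm_comm ((base2 h).o4 w hw z hz) (wm31 h.toInp x (Xm3W h.toGen hx) z (by
      rw [← Xm1Y h.toGen] at hz; exact h.YW _ hz))
  have c2 : ∀ z ∈ X 1, (w * x * w⁻¹ * x⁻¹) * z = z * (w * x * w⁻¹ * x⁻¹) := fun z hz =>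
    comm_comm (w31 h.toInp w hw z (by rw [← X1Y h.toGen] at hz; exact h.YW _ hz))
      (wm3_x1 h x (Xm3W h.toGen hx) z hz)
  have c3 : ∀ z ∈ Y 2, (w * x * w⁻¹ * x⁻¹) * z = z * (w * x * w⁻¹ * x⁻¹) := fun z hz => by
    have hz2 := h.YW 2 hz
    refine cc_right (R := W 0) ?_ (w32 h.toInp w hw z hz2) fun r hr => ((w30 h.toInp) w hw r hr).symm
    have h1 := (xm3_w2 h.toInp).symm x⁻¹ (inv_mem hx) z hz2
    rwa [inv_inv] at h1
  have hk := k5' h hcr (fun z hz => comm_mul (c0 z hz) (hrA z (W0Q hz)))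
    (fun z hz => comm_mul (c1 z hz) (hrA z (Xm1Q h.toGen hz)))
    (fun z hz => comm_mul (c2 z hz) (hrA z (X1Q h.toGen hz)))
    (fun z hz => comm_mul (c3 z hz) (hrA z (W2Q (h.YW 2 hz))))
  have e : w * x * w⁻¹ * x⁻¹ = (w * x * w⁻¹ * x⁻¹ * r) * r⁻¹ := by group
  rw [e]
  exact mul_mem ((sup_le_sup_right (Q1_le_D h) _) hk) (Subgroup.mem_sup_left (inv_mem hr))

theorem s1 [Finite G] (h : Inp2 τ X Y W T B N) : Cl (W 3) (X (-3)) (D W B) := by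
  refine Cl.symm fun x hx w hw => ?_
  obtain ⟨t, ht, h1⟩ := h.hf 3 (-3) (by norm_num)
  refine kill (B := X (-3)) (R := D W B) (h := t) (x := w) (h.TX 3 (-3) t ht) h1 (h.TWc 3 t ht w hw)
    ((nzm3 h).mono (Xm3W h.toGen)) (nz3 h w hw) (fun x hx => ?_) x hx
  have h2 := inv_mem (s1_mem h hw hx)
  have e : (w * x * w⁻¹ * x⁻¹)⁻¹ = x * w * x⁻¹ * w⁻¹ := by group
  rw [e] at h2
  exact AlBase.brk_sup ((nz3 h).mono (h.YW 3)) (nzT h 3 t ht) (fun a ha => h.TWc 3 t ht a (h.YW 3 ha)) h2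

/-! ### (s2) -/

theorem s2 [Finite G] (h : Inp2 τ X Y W T B N) : Cl (W (-3)) (X 3) (D W B) := by
  have h1 := s1 (rf2 h 0)
  rwa [D_neg, Fk (j := -3) W (by norm_num), Fk (j := 3) X (by norm_num)] at h1

/-! ### (s3) -/

theorem s3_mem [Finite G] (h : Inp2 τ X Y W T B N) {w v : G} (hw : w ∈ W 3) (hv : v ∈ W (-3)) :
    w * v * w⁻¹ * v⁻¹ ∈ D W B ⊔ Y 3 ⊔ Y (-3) := by
  have b := base h.toInp
  have nw := (nz3 h).le hw
  have nv := (nzm3 h).le hv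
  have hy : w⁻¹ * τ w ∈ X 3 := h.YX 3 (One.brkW h.toGen 3 hw)
  have hy' : v⁻¹ * τ v ∈ X (-3) := h.YX _ (One.brkW h.toGen (-3) hv)
  have hD : (w * v * w⁻¹ * v⁻¹)⁻¹ * τ (w * v * w⁻¹ * v⁻¹) ∈ D W B := by
    refine tau_comm (a' := w⁻¹ * τ w) (b' := v⁻¹ * τ v) (by group) (by group) nw nv ((s2 h).symm _ hy v hv)
      (s1 h w hw _ hy') (s1 h _ (X3W h.toGen hy) _ hy')
  obtain ⟨r, hr, hcr⟩ := (dD h).exists_fix h.tt hD
  have hrA : ∀ a ∈ Q2 W, r * a = a * r := cD h r hr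
  have c0 : ∀ z ∈ W 0, (w * v * w⁻¹ * v⁻¹) * z = z * (w * v * w⁻¹ * v⁻¹) := fun z hz =>
    comm_comm (w30 h.toInp w hw z hz) (wm30 h.toInp v hv z hz)
  have c1 : ∀ z ∈ X (-1), (w * v * w⁻¹ * v⁻¹) * z = z * (w * v * w⁻¹ * v⁻¹) := fun z hz =>
    comm_comm ((base2 h).o4 w hw z hz) (wm31 h.toInp v hv z (by
      rw [← Xm1Y h.toGen] at hz; exact h.YW _ hz))
  have c2 : ∀ z ∈ X 1, (w * v * w⁻¹ * v⁻¹) * z = z * (w * v * w⁻¹ * v⁻¹) := fun z hz =>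
    comm_comm (w31 h.toInp w hw z (by rw [← X1Y h.toGen] at hz; exact h.YW _ hz)) (wm3_x1 h v hv z hz)
  have hk := b.k5 _ hcr (fun z hz => comm_mul (c0 z hz) (hrA z (W0Q hz)))
    (fun z hz => comm_mul (c1 z hz) (hrA z (Xm1Q h.toGen hz)))
    (fun z hz => comm_mul (c2 z hz) (hrA z (X1Q h.toGen hz)))
  have e : w * v * w⁻¹ * v⁻¹ = (w * v * w⁻¹ * v⁻¹ * r) * r⁻¹ := by group
  rw [e]
  exact mul_mem ((sup_le_sup_right (sup_le_sup_right (Q1_le_D h) _) _) hk)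
    (Subgroup.mem_sup_left (Subgroup.mem_sup_left (inv_mem hr)))

theorem s3 [Finite G] (h : Inp2 τ X Y W T B N) : Cl (W 3) (W (-3)) (D W B) := by
  have e3 : Y 3 = X 3 := h.Yo 1
  -- `W₋₃` normalises `D₀ X₃`
  have n1 : Nz (W (-3)) (D W B ⊔ Y 3) := by
    rw [sup_comm, e3]
    exact Cl.nz' ((s2 h).mono3 le_sup_right) (nzm3 h)
  have n2 : Nz (W 3) (D W B ⊔ Y 3) := (nz3 h).sup' ((h.Wab 3).mono le_rfl (h.YW 3)).nz
  have tn (i : ℤ) : Nz (T i) (D W B ⊔ Y 3) := (nzT h i).sup' (h.TY i 3)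
  -- in `D₀ X₃`
  have k1 : Cl (W 3) (W (-3)) (D W B ⊔ Y 3) := by
    intro w hw v hv
    obtain ⟨t, ht, h1⟩ := h.hf (-3) 3 (by norm_num)
    have h1' : ∀ x ∈ W 3, t * x * t⁻¹ = x → x = 1 :=
      AlBase.free_W h.toGen (h.tT _ t ht) h1
    refine kill (B := W 3) (R := D W B ⊔ Y 3) (h := t) (x := v) (h.TW _ 3 t ht) h1' (h.TWc (-3) t ht v hv)
      n2 (n1 v hv) (fun w hw => ?_) w hw
    exact AlBase.brk_sup (n1.mono (h.YW _)) (tn _ t ht) (fun a ha => h.TWc _ t ht a (h.YW _ ha)) (s3_mem h hw hv)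
  refine Cl.symm fun v hv w hw => ?_
  obtain ⟨t, ht, h1⟩ := h.hf 3 (-3) (by norm_num)
  have h1' : ∀ x ∈ W (-3), t * x * t⁻¹ = x → x = 1 :=
    AlBase.free_W h.toGen (h.tT _ t ht) h1
  refine kill (B := W (-3)) (R := D W B) (h := t) (x := w) (h.TW _ (-3) t ht) h1' (h.TWc 3 t ht w hw)
    (nzm3 h) (nz3 h w hw) (fun v hv => ?_) v hv
  exact AlBase.brk_sup ((nz3 h).mono (h.YW 3)) (nzT h 3 t ht) (fun a ha => h.TWc 3 t ht a (h.YW 3 ha))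
    (k1.symm v hv w hw)

/-! ### (r2), (r3), (r4) -/

/-- `E₋₁` -/
theorem Em_le : EK (F 0 (-1) W) ≤ Q2 W := by
  rw [EK_neg]
  exact sup_le (sup_le W0Q (ym1Q2 W)) (ym2Q2 W)

theorem Wm3_le_N (h : Inp2 τ X Y W T B N) : W (-3) ≤ F 0 (-1) N 1 := by
  have h1 := W3_le_N (rf2 h 0)
  rwa [Fk (j := -3) W (by norm_num)] at h1

theorem A_le_N (h : Inp2 τ X Y W T B N) : Q2 W ≤ F 0 (-1) N 1 := by
  have h1 := (base2 (rf2 h 0)).nA
  rwa [Q2_neg] at h1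

/-- commutators of `W₋₃` and `A₀` -/
theorem comm_Em (h : Inp2 τ X Y W T B N) {v w : G} (hv : v ∈ W (-3)) (hw : w ∈ Q2 W) :
    v * w * v⁻¹ * w⁻¹ ∈ EK (F 0 (-1) W) :=
  (base2 (rf2 h 0)).ncomm v (Wm3_le_N h hv) w (A_le_N h hw)

/-- the elements of `E₋₁` fixed by `τ` and commuting with `X₂`, `X₃` -/
theorem mem_Y0 (h : Inp2 τ X Y W T B N) {c : G} (hc : c ∈ EK (F 0 (-1) W)) (hτ : τ c = c)
    (h2 : ∀ x ∈ X 2, c * x = x * c) (h3 : ∀ x ∈ X 3, c * x = x * c) : c ∈ Y 0 := by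
  have b := base h.toInp
  have h1 : c ∈ EK (F 0 (-1) Y) := (One.dE (rf h.toInp 0)).fix c hc hτ
  have hE : EK (F 0 (-1) Y) ≤ Q2 Y := by
    rw [EK_neg]
    exact sup_le (sup_le ((y0E Y).trans (EQ2 Y)) (ym1Q2 Y)) (ym2Q2 Y)
  have h4 : c ∈ RK Y := b.kb c (hE h1) h3
  have h5 := (base (rf h.toInp 0)).ka c h1 (by rw [nX2]; exact h2)
  rw [Fk (j := 0) Y (by norm_num), Fk (j := -2) Y (by norm_num)] at h5
  have n1 : Nz (Y (-2)) (Y 0) := by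
    have h6 : Cm (Q2 W) (Q2 W) := Three.cA h.toInp
    exact (h6.mono ((h.YW _).trans (ym2Q2 W)) ((h.YW 0).trans W0Q)).nz
  obtain ⟨a, ha, y, hy, rfl⟩ := mem_sup n1 h5
  have h7 : y ∈ RK Y ⊓ Y (-2) := by
    refine Subgroup.mem_inf.2 ⟨?_, hy⟩
    have e : y = a⁻¹ * (a * y) := by group
    have ha' : a ∈ RK Y := (show Y 0 ≤ RK Y from (y0E Y).trans le_sup_left) ha
    rw [e]
    exact mul_mem (inv_mem ha') h4
  rw [b.i2, Subgroup.mem_bot] at h7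
  rw [h7, mul_one]
  exact ha

/-- `[W₋₃, X₂] ≤ E₋₁` -/
theorem wm3_x2 (h : Inp4 τ X Y W T B N) : Cl (W (-3)) (X 2) (EK (F 0 (-1) W)) := by
  have h1 := (h.fr4 (-1) 1 (Or.inl rfl)).r54
  have d := (h.fr2 1 1 (Or.inl rfl)).db.XB
  rw [Fk (j := 2) X (by norm_num), Fk (j := 2) B (by norm_num)] at d
  rw [Fk (j := -3) W (by norm_num), Fk (j := 2) B (by norm_num)] at h1
  have e : EK (F (-1) 1 W) = EK (F 0 (-1) W) := by
    rw [EK_neg]
    show F (-1) 1 W 0 ⊔ F (-1) 1 W 1 ⊔ F (-1) 1 W 2 = _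
    rw [Fk (j := -2) W (by norm_num), Fk (j := -1) W (by norm_num), Fk (j := 0) W (by norm_num)]
    ac_rfl
  rw [e] at h1
  exact h1.mono le_rfl d le_rfl

/-- commutators of `W₋₃` with an element of `A₀` commuting with `X₂`, `X₃` commute with `X₂`, `X₃` -/
theorem comm_23 [Finite G] (h : Inp4 τ X Y W T B N) {v w : G} (hv : v ∈ W (-3)) (hw : w ∈ Q2 W)
    (h2 : ∀ x ∈ X 2, w * x = x * w) (h3 : ∀ x ∈ X 3, w * x = x * w) :
    (∀ x ∈ X 2, (v * w * v⁻¹ * w⁻¹) * x = x * (v * w * v⁻¹ * w⁻¹)) ∧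
    ∀ x ∈ X 3, (v * w * v⁻¹ * w⁻¹) * x = x * (v * w * v⁻¹ * w⁻¹) := by
  refine ⟨fun x hx => ?_, fun x hx => ?_⟩
  · refine cc_left (R := EK (F 0 (-1) W)) ?_ (h2 x hx) fun r hr =>
      Three.cA h.toInp r (Em_le hr) w hw
    have h1 := wm3_x2 h v⁻¹ (inv_mem hv) x hx
    rwa [inv_inv] at h1
  · refine cc_left (R := D W B) ?_ (h3 x hx) fun r hr => cD h.toInp2 r hr w hw
    have h1 := s2 h.toInp2 v⁻¹ (inv_mem hv) x hx
    rwa [inv_inv] at h1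

theorem x2w0 (h : Inp τ X Y W T) : Cm (X 2) (W 0) := by
  have h1 := (base (rf h 1)).x0w2
  rwa [Fk (j := 2) X (by norm_num), Fk (j := 0) W (by norm_num)] at h1

theorem x2w1 (h : Inp τ X Y W T) : Cm (X 2) (W 1) := by
  have h1 := (base (rf h 1)).x0w1
  rwa [Fk (j := 2) X (by norm_num), Fk (j := 1) W (by norm_num)] at h1

theorem x2w2 (h : Inp τ X Y W T) : Cm (X 2) (W 2) := by
  have h1 := (base (rf h 1)).x0w0
  rwa [Fk (j := 2) X (by norm_num), Fk (j := 2) W (by norm_num)] at h1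

theorem r2' [Finite G] (h : Inp4 τ X Y W T B N) : Cl (W (-3)) (W 1) (Y 0) := by
  intro v hv w hw
  have hy : v⁻¹ * τ v ∈ X (-3) := h.YX _ (One.brkW h.toGen (-3) hv)
  have hy' : w⁻¹ * τ w ∈ X 1 := h.YX _ (One.brkW h.toGen 1 hw)
  have nb : ∀ a : G, a ∈ Subgroup.normalizer ((⊥ : Subgroup G) : Set G) := fun a =>
    (nz_of_le (A := ⊤) (R := ⊥) (by
      rw [Subgroup.normalizer_eq_top_iff.2 (by infer_instance)])).le (Subgroup.mem_top a)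
  have cb : ∀ a b : G, a * b = b * a → a * b * a⁻¹ * b⁻¹ ∈ (⊥ : Subgroup G) := by
    intro a b hab
    rw [Subgroup.mem_bot, hab, mul_inv_cancel_right, mul_inv_cancel]
  have hτ : τ (v * w * v⁻¹ * w⁻¹) = v * w * v⁻¹ * w⁻¹ := by
    have h1 := tau_comm (τ := τ) (R := ⊥) (a := v) (b := w) (a' := v⁻¹ * τ v) (b' := w⁻¹ * τ w) (by group)
      (by group) (nb v) (nb w) (cb _ _ (xm3_w1 h.toInp2 w hw _ hy).symm) (cb _ _ (wm3_x1 h.toInp2 v hv _ hy'))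
      (cb _ _ (wm3_x1 h.toInp2 _ (Xm3W h.toGen hy) _ hy'))
    rw [Subgroup.mem_bot] at h1
    exact (inv_mul_eq_one.1 h1).symm
  have h2 := comm_23 h hv (W1Q hw) (fun x hx => (x2w1 h.toInp x hx w hw).symm)
    (fun x hx => (w31 h.toInp x (X3W h.toGen hx) w hw).symm)
  exact mem_Y0 h.toInp2 (comm_Em h.toInp2 hv (W1Q hw)) hτ h2.1 h2.2

theorem r2 [Finite G] (h : Inp4 τ X Y W T B N) : Cl (W (-3)) (W 1) (W 0) := (r2' h).mono3 (h.YW 0)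

/-- the step for (r3), (r4) -/
theorem r_step [Finite G] (h : Inp4 τ X Y W T B N) {v w : G} (hv : v ∈ W (-3)) (hw : w ∈ W 2)
    (h2 : v * (w⁻¹ * τ w) * v⁻¹ * (w⁻¹ * τ w)⁻¹ ∈ W 0) : v * w * v⁻¹ * w⁻¹ ∈ W 0 := by
  have hy : v⁻¹ * τ v ∈ X (-3) := h.YX _ (One.brkW h.toGen (-3) hv)
  have hy' : w⁻¹ * τ w ∈ W 2 := h.YW _ (One.brkW h.toGen 2 hw)
  have n1 : Nz (W (-3)) (W 0) := (wm30 h.toInp).nz
  have n2 : Nz (W 2) (W 0) := (base h.toInp).w02.symm.nz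
  have h1 : (v * w * v⁻¹ * w⁻¹)⁻¹ * τ (v * w * v⁻¹ * w⁻¹) ∈ W 0 :=
    tau_comm (a' := v⁻¹ * τ v) (b' := w⁻¹ * τ w) (by group) (by group) (n1.le hv) (n2.le hw)
      ((xm3_w2 h.toInp).symm _ hy w hw) h2 ((xm3_w2 h.toInp).symm _ hy _ hy')
  obtain ⟨r, hr, hcr⟩ := (One.dW h.toGen 0).exists_fix h.tt h1
  have h3 := comm_23 h hv (W2Q hw) (fun x hx => (x2w2 h.toInp x hx w hw).symm)
    (fun x hx => (w32 h.toInp x (X3W h.toGen hx) w hw).symm)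
  have hE : W 0 ≤ EK (F 0 (-1) W) := by rw [EK_neg]; exact le_sup_left.trans le_sup_left
  have h4 := mem_Y0 h.toInp2 (mul_mem (comm_Em h.toInp2 hv (W2Q hw)) (hE hr)) hcr
    (fun x hx => comm_mul (h3.1 x hx) (x2w0 h.toInp x hx r hr).symm)
    (fun x hx => comm_mul (h3.2 x hx) ((base h.toInp).x3w0 x hx r hr).symm)
  have e : v * w * v⁻¹ * w⁻¹ = (v * w * v⁻¹ * w⁻¹ * r) * r⁻¹ := by group
  rw [e]
  exact mul_mem (h.YW 0 h4) (inv_mem hr)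

theorem r3 [Finite G] (h : Inp4 τ X Y W T B N) : Cl (W (-3)) (Y 2) (W 0) := by
  intro v hv z hz
  refine r_step h hv (h.YW 2 hz) ?_
  rw [h.tX 2 z (h.YX 2 hz), inv_mul_cancel]
  simp

theorem r4 [Finite G] (h : Inp4 τ X Y W T B N) : Cl (W (-3)) (W 2) (W 0) := fun v hv w hw =>
  r_step h hv hw (r3 h v hv _ (One.brkW h.toGen 2 hw))

/-- Level 5 (s1) - (r4) from level 4 (a) - (l). -/
theorem base5A' [Finite G] (h : Inp4 τ X Y W T B N) : Base5A τ X Y W T B N where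
  s1 := s1 h.toInp2
  s2 := s2 h.toInp2
  s3 := s3 h.toInp2
  r2 := r2 h
  r3 := r3 h
  r4 := r4 h

/-- Level 5 (s1) - (r4). -/
theorem base5A [Finite G] (h : Inp5 τ X Y W T B N) : Base5A τ X Y W T B N := base5A' h.toInp4

end Cfsg.Agent.OddHalf.D7TwF4.Growth.FiveA

end

-- merged: Cfsg.Agent.OddHalf.D7TwF4.Growth.FiveB
section

/-!
# Growth for `²F₄(q)`, level 5 (t) - (z) (helper570; text `blueprints/ODD-D7-2F4-growth-helper702.md`)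

The relations of `W₋₃` with `B₄` modulo `Q' = B₋₂ W₋₁ B₀ W₁ B₂ W₃`.
-/

set_option autoImplicit false
set_option linter.unusedVariables false

namespace Cfsg.Agent.OddHalf.D7TwF4.Growth.FiveB

open Cfsg.Agent.OddHalf.D7TwF4.Growth.Defs Cfsg.Agent.OddHalf.D7TwF4.Growth.Tools
open Cfsg.Agent.OddHalf.D7TwF4.Growth.Frame Cfsg.Agent.OddHalf.D7TwF4.Growth.Two
open Cfsg.Agent.OddHalf.D7TwF4.Growth.One Cfsg.Agent.OddHalf.D7TwF4.Growth.NOne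
open Cfsg.Agent.OddHalf.D7TwF4.Growth.Three Cfsg.Agent.OddHalf.D7TwF4.Growth.Inp

variable {G : Type*} [Group G] {τ : G →* G} {X Y W T B N : ℤ → Subgroup G}

/-- the relations (s), (r) of level 5 -/
structure FiveIn (X Y W B : ℤ → Subgroup G) : Prop where
  s3 : Cl (W 3) (W (-3)) (D W B)
  r2 : Cl (W (-3)) (W 1) (W 0)
  r4 : Cl (W (-3)) (W 2) (W 0)

/-! ### conjugating pieces -/

/-- `a s a⁻¹ ∈ R` -/
def Cj (A S R : Subgroup G) : Prop := ∀ a ∈ A, ∀ s ∈ S, a * s * a⁻¹ ∈ R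

theorem Cj.sup {A S S' R : Subgroup G} (h : Cj A S R) (h' : Cj A S' R) : Cj A (S ⊔ S') R := by
  intro a ha s hs
  have : S ⊔ S' ≤ R.comap (MulAut.conj a).toMonoidHom := sup_le (fun x hx => h a ha x hx) (fun x hx => h' a ha x hx)
  exact this hs

theorem cj_cl {A S R C : Subgroup G} (h : Cl A S C) (hC : C ≤ R) (hS : S ≤ R) : Cj A S R := fun a ha s hs => by
  have e : a * s * a⁻¹ = (a * s * a⁻¹ * s⁻¹) * s := by group
  rw [e]; exact mul_mem (hC (h a ha s hs)) (hS hs)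

theorem cj_cm {A S R : Subgroup G} (h : Cm A S) (hS : S ≤ R) : Cj A S R := cj_cl (h.cl ⊥) bot_le hS

/-! ### inclusions -/

section Incl

variable (W B : ℤ → Subgroup G)

theorem w0E : W 0 ≤ EK W := le_sup_left.trans le_sup_left
theorem w1E : W 1 ≤ EK W := le_sup_right.trans le_sup_left
theorem w2E : W 2 ≤ EK W := le_sup_right
theorem ER : EK W ≤ RK W := le_sup_left
theorem R_Q2 : RK W ≤ Q2 W := le_sup_left
theorem E_Q2 : EK W ≤ Q2 W := (ER W).trans (R_Q2 W)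
theorem w0Q : W 0 ≤ Q2 W := (w0E W).trans (E_Q2 W)
theorem w1Q : W 1 ≤ Q2 W := (w1E W).trans (E_Q2 W)
theorem w2Q : W 2 ≤ Q2 W := (w2E W).trans (E_Q2 W)
theorem wm1Q : W (-1) ≤ Q2 W := le_sup_of_le_left le_sup_right
theorem wm2Q : W (-2) ≤ Q2 W := le_sup_right
theorem Q2D : Q2 W ≤ D W B := le_sup_left
theorem b0D : B 0 ≤ D W B := le_sup_right
theorem DP : D W B ≤ P W B := le_sup_left
theorem b2P : B 2 ≤ P W B := le_sup_right
theorem PM : P W B ≤ M W B := le_sup_left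
theorem w3M : W 3 ≤ M W B := le_sup_right
theorem DM : D W B ≤ M W B := (DP W B).trans (PM W B)
theorem Q2M : Q2 W ≤ M W B := (Q2D W B).trans (DM W B)
theorem b0M : B 0 ≤ M W B := (b0D W B).trans (DM W B)
theorem b2M : B 2 ≤ M W B := (b2P W B).trans (PM W B)
theorem MQ : M W B ≤ Qp W B := le_sup_left
theorem bm2Q : B (-2) ≤ Qp W B := le_sup_right
theorem Q2Q : Q2 W ≤ Qp W B := (Q2M W B).trans (MQ W B)

end Incl

/-! ### frames -/

theorem bs (h : Inp5 τ X Y W T B N) (c : ℤ) :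
    Base2 τ (F c 1 X) (F c 1 Y) (F c 1 W) (F c 1 T) (F c 1 B) (F c 1 N) := h.fr2 c 1 (Or.inl rfl)
theorem br (h : Inp5 τ X Y W T B N) (c : ℤ) :
    Base2 τ (F c (-1) X) (F c (-1) Y) (F c (-1) W) (F c (-1) T) (F c (-1) B) (F c (-1) N) := h.fr2 c (-1) (Or.inr rfl)
theorem fs (h : Inp5 τ X Y W T B N) (c : ℤ) :
    Base4 τ (F c 1 X) (F c 1 Y) (F c 1 W) (F c 1 T) (F c 1 B) (F c 1 N) := h.fr4 c 1 (Or.inl rfl)
theorem fr (h : Inp5 τ X Y W T B N) (c : ℤ) :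
    Base4 τ (F c (-1) X) (F c (-1) Y) (F c (-1) W) (F c (-1) T) (F c (-1) B) (F c (-1) N) := h.fr4 c (-1) (Or.inr rfl)
theorem b2 (h : Inp5 τ X Y W T B N) : Base2 τ X Y W T B N := base2 h.toInp2
theorem b4 (h : Inp5 τ X Y W T B N) : Base4 τ X Y W T B N := base4 h.toInp4

theorem yo3 (h : Inp5 τ X Y W T B N) : Y (-3) = X (-3) := by
  have h1 := h.Yo (-2)
  have e : (2 : ℤ) * (-2) + 1 = -3 := by norm_num
  rwa [e] at h1

/-! ### `B₀` centralises `A₀`, in all positions -/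

theorem b4_w3 (h : Inp5 τ X Y W T B N) : Cm (B 4) (W 3) := ((bs h 2).bA.mono le_rfl (wm1Q (F 2 1 W)) :)
theorem b4_w2 (h : Inp5 τ X Y W T B N) : Cm (B 4) (W 2) := ((bs h 2).bA.mono le_rfl (wm2Q (F 2 1 W)) :)
theorem b4_w4 (h : Inp5 τ X Y W T B N) : Cm (B 4) (W 4) := ((bs h 2).bA.mono le_rfl (w0Q (F 2 1 W)) :)
theorem b2_w0 (h : Inp5 τ X Y W T B N) : Cm (B 2) (W 0) := ((bs h 1).bA.mono le_rfl (wm2Q (F 1 1 W)) :)
theorem b2_w1 (h : Inp5 τ X Y W T B N) : Cm (B 2) (W 1) := ((bs h 1).bA.mono le_rfl (wm1Q (F 1 1 W)) :)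
theorem b2_w2 (h : Inp5 τ X Y W T B N) : Cm (B 2) (W 2) := ((bs h 1).bA.mono le_rfl (w0Q (F 1 1 W)) :)
theorem bm2_w0 (h : Inp5 τ X Y W T B N) : Cm (B (-2)) (W 0) := ((bs h (-1)).bA.mono le_rfl (w2Q (F (-1) 1 W)) :)
theorem bm2_wm1 (h : Inp5 τ X Y W T B N) : Cm (B (-2)) (W (-1)) :=
  ((bs h (-1)).bA.mono le_rfl (w1Q (F (-1) 1 W)) :)
theorem bm2_wm2 (h : Inp5 τ X Y W T B N) : Cm (B (-2)) (W (-2)) :=
  ((bs h (-1)).bA.mono le_rfl (w0Q (F (-1) 1 W)) :)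

/-! ### level 4, shifted -/

theorem b2_wm2 (h : Inp5 τ X Y W T B N) : Cm (B 2) (W (-2)) := (((fs h (-1)).r04).symm :)
theorem b2_wm1 (h : Inp5 τ X Y W T B N) : Cl (W (-1)) (B 2) (W 0) := ((fs h (-1)).r14 :)
theorem b0_b2 (h : Inp5 τ X Y W T B N) : Cl (B 0) (B 2) (W 1) := ((fs h (-1)).s24 :)
theorem bm2_b0 (h : Inp5 τ X Y W T B N) : Cl (B (-2)) (B 0) (W (-1)) := ((fs h (-2)).s24 :)
theorem bm2_b2 (h : Inp5 τ X Y W T B N) : Cm (B (-2)) (B 2) := ((fs h (-1)).s04 :)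
theorem bm2_w1 (h : Inp5 τ X Y W T B N) : Cl (W 1) (B (-2)) (W 0) := ((fr h 1).r14 :)
theorem bm2_w2 (h : Inp5 τ X Y W T B N) : Cm (W 2) (B (-2)) := ((fr h 1).r04 :)
theorem bm2_w3 (h : Inp5 τ X Y W T B N) : Cl (W 3) (B (-2)) (EK W) := by
  have := (fr h 1).r54
  rw [EK_ref] at this
  exact this
theorem wm3_b2 (h : Inp5 τ X Y W T B N) : Cl (W (-3)) (B 2) (EK (F (-1) 1 W)) := ((fs h (-1)).r54 :)

/-- `W₋₂ W₋₁ W₀` -/
theorem Em_le (W : ℤ → Subgroup G) : EK (F (-1) 1 W) ≤ Q2 W := by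
  show W (-2) ⊔ W (-1) ⊔ W 0 ≤ Q2 W
  exact sup_le (sup_le (wm2Q W) (wm1Q W)) (w0Q W)

/-! ### `N₁` -/

theorem cN (h : Inp5 τ X Y W T B N) {A S : Subgroup G} (hA : A ≤ N 1) (hS : S ≤ N 1) : Cl A S (EK W) :=
  (b2 h).ncomm.mono hA hS le_rfl

theorem M_le_N (h : Inp5 τ X Y W T B N) : M W B ≤ N 1 := by rw [(b2 h).ndec]; exact le_sup_left
theorem w4_le_N (h : Inp5 τ X Y W T B N) : W 4 ≤ N 1 := by rw [(b2 h).ndec]; exact le_sup_right

/-- subgroups between `E₁` and `N₁` are normal in `N₁` -/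
theorem nzN1 (h : Inp5 τ X Y W T B N) {A R : Subgroup G} (hA : A ≤ N 1) (hR : R ≤ N 1) (hE : EK W ≤ R) : Nz A R :=
  (cN h hA hR).nz hE

theorem xm3_N (h : Inp5 τ X Y W T B N) : Nz (X (-3)) (N 1) := ((br h 1).n5 :)

/-! ### `B₄` normalises `N''` and `Q'` -/

theorem q0 (h : Inp5 τ X Y W T B N) : Nz (B 4) (Q2 W) := by
  have c0 : Cj (B 4) (W 0) (Q2 W) := cj_cm (b4 h).r04.symm (w0Q W)
  have c1 : Cj (B 4) (W 1) (Q2 W) := cj_cl (b4 h).r14.symm (w2Q W) (w1Q W)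
  have c2 : Cj (B 4) (W 2) (Q2 W) := cj_cm (b4_w2 h) (w2Q W)
  have c3 : Cj (B 4) (W (-1)) (Q2 W) := cj_cl (b4 h).r54.symm (E_Q2 W) (wm1Q W)
  have c4 : Cj (B 4) (W (-2)) (Q2 W) := cj_cl (b4 h).r64.symm (R_Q2 W) (wm2Q W)
  exact (((c0.sup c1).sup c2).sup c3).sup c4

theorem qM (h : Inp5 τ X Y W T B N) : Nz (B 4) (M W B) := by
  have c0 : Cj (B 4) (Q2 W) (M W B) := fun a ha s hs => Q2M W B (q0 h a ha s hs)
  have c1 : Cj (B 4) (B 0) (M W B) := cj_cm (b4 h).s04.symm (b0M W B)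
  have c2 : Cj (B 4) (B 2) (M W B) := cj_cl (b4 h).s24.symm (w3M W B) (b2M W B)
  have c3 : Cj (B 4) (W 3) (M W B) := cj_cm (b4_w3 h) (w3M W B)
  exact ((c0.sup c1).sup c2).sup c3

theorem q (h : Inp5 τ X Y W T B N) : Nz (B 4) (Qp W B) := by
  have c0 : Cj (B 4) (M W B) (Qp W B) := fun a ha s hs => MQ W B (qM h a ha s hs)
  have c1 : Cj (B 4) (B (-2)) (Qp W B) := cj_cl (base5 h).symm (MQ W B) (bm2Q W B)
  exact c0.sup c1

/-! ### `B₋₂` normalises `N''` -/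

theorem bm2M (h : Inp5 τ X Y W T B N) : Nz (B (-2)) (M W B) := by
  have c0 : Cj (B (-2)) (W 0) (M W B) := cj_cm (bm2_w0 h) ((w0Q W).trans (Q2M W B))
  have c1 : Cj (B (-2)) (W 1) (M W B) := cj_cl (bm2_w1 h).symm ((w0Q W).trans (Q2M W B)) ((w1Q W).trans (Q2M W B))
  have c2 : Cj (B (-2)) (W 2) (M W B) := cj_cm (bm2_w2 h).symm ((w2Q W).trans (Q2M W B))
  have c3 : Cj (B (-2)) (W (-1)) (M W B) := cj_cm (bm2_wm1 h) ((wm1Q W).trans (Q2M W B))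
  have c4 : Cj (B (-2)) (W (-2)) (M W B) := cj_cm (bm2_wm2 h) ((wm2Q W).trans (Q2M W B))
  have d0 : Cj (B (-2)) (B 0) (M W B) := cj_cl (bm2_b0 h) ((wm1Q W).trans (Q2M W B)) (b0M W B)
  have d1 : Cj (B (-2)) (B 2) (M W B) := cj_cm (bm2_b2 h) (b2M W B)
  have d2 : Cj (B (-2)) (W 3) (M W B) := cj_cl (bm2_w3 h).symm ((E_Q2 W).trans (Q2M W B)) (w3M W B)
  exact (((((((c0.sup c1).sup c2).sup c3).sup c4).sup d0).sup d1).sup d2)

/-! ### the doubles `N''`, `Q'` -/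

theorem db (h : Inp5 τ X Y W T B N) : DB τ (B 0) (X 0) (W 0) (Y 0) := (b2 h).db
theorem db2 (h : Inp5 τ X Y W T B N) : DB τ (B 2) (X 2) (W 2) (Y 2) := ((bs h 1).db :)
theorem db4 (h : Inp5 τ X Y W T B N) : DB τ (B 4) (X 4) (W 4) (Y 4) := ((bs h 2).db :)
theorem dbm2 (h : Inp5 τ X Y W T B N) : DB τ (B (-2)) (X (-2)) (W (-2)) (Y (-2)) := ((bs h (-1)).db :)

theorem dM (h : Inp5 τ X Y W T B N) : Dbl τ (M W B) (MK X Y) := by
  have b := base h.toInp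
  have l1 : D W B ≤ N 1 := (DM W B).trans (M_le_N h)
  have l2 : P W B ≤ N 1 := (PM W B).trans (M_le_N h)
  have d0 : Dbl τ (D W B) (Q1 X Y) := ((dQ2 h.toInp).sup_B h.tt (db h) (w0Q W) b.i3 (b2 h).bA.nz).1
  have d1 : Dbl τ (P W B) (PK X Y) := (d0.sup_B h.tt (db2 h) ((w2Q W).trans (Q2D W B)) b.i4
    (nzN1 h ((b2M W B).trans (M_le_N h)) l1 ((E_Q2 W).trans (Q2D W B)))).1
  exact d1.sup_W h.tt (h.Wab _) (h.Wsq _) (h.Wt _) (fun y hy => h.tX _ y (h.YX _ hy)) (h.YW _) (h.Wf _)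
    (h.Ws _) b.i5 (nzN1 h ((w3M W B).trans (M_le_N h)) l2 (((E_Q2 W).trans (Q2D W B)).trans (DP W B)))

theorem dQ (h : Inp5 τ X Y W T B N) : Dbl τ (Qp W B) (QpK X Y) :=
  ((dM h).sup_B h.tt (dbm2 h) ((wm2Q W).trans (Q2M W B)) (base h.toInp).i6 (bm2M h)).1

/-! ### `W₋₃` -/

/-- `N₋₁` -/
theorem wm3_Nm (h : Inp5 τ X Y W T B N) {S : Subgroup G} (hS : S ≤ N (-1)) : Cl (W (-3)) S (EK (F (-1) 1 W)) := by
  have h1 : W (-3) ≤ N (-1) := ((wm1Q (F (-1) 1 W)).trans (bs h (-1)).nA :)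
  have h2 : Cl (N (-1)) (N (-1)) (EK (F (-1) 1 W)) := ((bs h (-1)).ncomm :)
  exact h2.mono h1 hS le_rfl

theorem Q2_Nm (h : Inp5 τ X Y W T B N) : Q2 W ≤ N (-1) := by
  have h1 : Q2 (F 0 (-1) W) ≤ N (-1) := ((br h 0).nA :)
  refine le_trans ?_ h1
  show W 0 ⊔ W 1 ⊔ W 2 ⊔ W (-1) ⊔ W (-2) ≤ W 0 ⊔ W (-1) ⊔ W (-2) ⊔ W 1 ⊔ W 2
  refine le_of_eq ?_
  ac_rfl

theorem b0_Nm (h : Inp5 τ X Y W T B N) : B 0 ≤ N (-1) := ((br h 0).nB :)
theorem bm2_Nm (h : Inp5 τ X Y W T B N) : B (-2) ≤ N (-1) := ((bs h (-1)).nB :)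

theorem uM (h : Inp5 τ X Y W T B N) (a : FiveIn X Y W B) : Nz (W (-3)) (M W B) := by
  have l : EK (F (-1) 1 W) ≤ M W B := (Em_le W).trans (Q2M W B)
  have c0 : Cj (W (-3)) (Q2 W) (M W B) := cj_cl (wm3_Nm h (Q2_Nm h)) l (Q2M W B)
  have c1 : Cj (W (-3)) (B 0) (M W B) := cj_cl (wm3_Nm h (b0_Nm h)) l (b0M W B)
  have c2 : Cj (W (-3)) (B 2) (M W B) := cj_cl (wm3_b2 h) l (b2M W B)
  have c3 : Cj (W (-3)) (W 3) (M W B) := cj_cl a.s3.symm (DM W B) (w3M W B)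
  exact ((c0.sup c1).sup c2).sup c3

theorem u (h : Inp5 τ X Y W T B N) (a : FiveIn X Y W B) : Nz (W (-3)) (Qp W B) := by
  have l : EK (F (-1) 1 W) ≤ Qp W B := (Em_le W).trans (Q2Q W B)
  have c0 : Cj (W (-3)) (M W B) (Qp W B) := fun x hx s hs => MQ W B (uM h a x hx s hs)
  have c1 : Cj (W (-3)) (B (-2)) (Qp W B) := cj_cl (wm3_Nm h (bm2_Nm h)) l (bm2Q W B)
  exact c0.sup c1

/-! ### the action on `A₀` modulo `W₀` -/

/-- trivial on `W₀` and on `A₀ / W₀` -/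
def St (W : ℤ → Subgroup G) : Subgroup G where
  carrier := {g | (∀ x ∈ W 0, g * x = x * g) ∧ ∀ a ∈ Q2 W, g * a * g⁻¹ * a⁻¹ ∈ W 0}
  one_mem' := ⟨fun x _ => by simp, fun a _ => by simp⟩
  mul_mem' := by
    rintro g g' ⟨h1, h2⟩ ⟨h3, h4⟩
    refine ⟨fun x hx => comm_mul (h1 x hx) (h3 x hx), fun a ha => cl_mul (h4 a ha) (h2 a ha) fun r hr => ?_⟩
    rw [h1 r hr, mul_inv_cancel_right]; exact hr
  inv_mem' := by
    rintro g ⟨h1, h2⟩
    refine ⟨fun x hx => comm_inv (h1 x hx), fun a ha => ?_⟩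
    have h3 := h2 a ha
    have h4 := comm_inv (h1 _ (inv_mem h3))
    have e : g⁻¹ * a * g⁻¹⁻¹ * a⁻¹ = g⁻¹ * (g * a * g⁻¹ * a⁻¹)⁻¹ * g := by group
    rw [e, h4, mul_assoc, inv_mul_cancel, mul_one]
    exact inv_mem h3

theorem mem_St {g : G} : g ∈ St W ↔ (∀ x ∈ W 0, g * x = x * g) ∧ ∀ a ∈ Q2 W, g * a * g⁻¹ * a⁻¹ ∈ W 0 := Iff.rfl

theorem le_St {A : Subgroup G} (h1 : Cm A (W 0)) (h2 : Cl A (Q2 W) (W 0)) : A ≤ St W := fun g hg =>
  ⟨fun x hx => h1 g hg x hx, fun a ha => h2 g hg a ha⟩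

/-- pieces of `A₀` -/
theorem cl_Q2 (h : Inp5 τ X Y W T B N) {A : Subgroup G} (h0 : Cm A (W 0)) (h1 : Cl A (W 1) (W 0))
    (h2 : Cl A (W 2) (W 0)) (h3 : Cl A (W (-1)) (W 0)) (h4 : Cl A (W (-2)) (W 0)) : Cl A (Q2 W) (W 0) := by
  have n (S : Subgroup G) (hS : S ≤ Q2 W) : Nz S (W 0) := ((cA h.toInp).mono hS (w0Q W)).nz
  have e1 : Cl A (EK W) (W 0) := ((h0.cl _).sup' h1 (n _ (w0Q W)) (n _ (w1Q W))).sup' h2
    (n _ (sup_le (w0Q W) (w1Q W))) (n _ (w2Q W))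
  have e2 : Cl A (RK W) (W 0) := e1.sup' h3 (n _ (E_Q2 W)) (n _ (wm1Q W))
  exact e2.sup' h4 (n _ (R_Q2 W)) (n _ (wm2Q W))

theorem wm3_w0 (h : Inp5 τ X Y W T B N) : Cm (W (-3)) (W 0) := ((base (sh h.toInp (-1))).w12 :)

theorem wm3_St (h : Inp5 τ X Y W T B N) (a : FiveIn X Y W B) : W (-3) ≤ St W := by
  have c3 : Cm (W (-3)) (W (-1)) := ((base (sh h.toInp (-1))).w11 :)
  have c4 : Cm (W (-2)) (W (-3)) := ((base (rf h.toInp (-1))).w01 :)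
  exact le_St (wm3_w0 h) (cl_Q2 h (wm3_w0 h) a.r2 a.r4 (c3.cl _) (c4.symm.cl _))

theorem Q2_St (h : Inp5 τ X Y W T B N) : Q2 W ≤ St W :=
  le_St ((cA h.toInp).mono le_rfl (w0Q W)) ((cA h.toInp).cl _)

theorem b0_St (h : Inp5 τ X Y W T B N) : B 0 ≤ St W := le_St ((b2 h).bA.mono le_rfl (w0Q W)) ((b2 h).bA.cl _)

theorem b2_St (h : Inp5 τ X Y W T B N) : B 2 ≤ St W :=
  le_St (b2_w0 h) (cl_Q2 h (b2_w0 h) ((b2_w1 h).cl _) ((b2_w2 h).cl _) (b2_wm1 h).symm ((b2_wm2 h).cl _))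

theorem bm2_St (h : Inp5 τ X Y W T B N) : B (-2) ≤ St W :=
  le_St (bm2_w0 h) (cl_Q2 h (bm2_w0 h) (bm2_w1 h).symm ((bm2_w2 h).symm.cl _) ((bm2_wm1 h).cl _) ((bm2_wm2 h).cl _))

/-- the reflected relations of `W 3` -/
theorem w3_St (h : Inp5 τ X Y W T B N) (a : FiveIn (F 0 (-1) X) (F 0 (-1) Y) (F 0 (-1) W) (F 0 (-1) B)) :
    W 3 ≤ St W := by
  have c := c3E h.toInp
  have h3 : Cl (W 3) (W (-1)) (W 0) := (a.r2 :)
  have h4 : Cl (W 3) (W (-2)) (W 0) := (a.r4 :)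
  exact le_St (c.mono le_rfl (w0E W)) (cl_Q2 h (c.mono le_rfl (w0E W)) ((c.mono le_rfl (w1E W)).cl _)
    ((c.mono le_rfl (w2E W)).cl _) h3 h4)

theorem Qp_St (h : Inp5 τ X Y W T B N) (a : FiveIn (F 0 (-1) X) (F 0 (-1) Y) (F 0 (-1) W) (F 0 (-1) B)) :
    Qp W B ≤ St W :=
  sup_le (sup_le (sup_le (sup_le (Q2_St h) (b0_St h)) (b2_St h)) (w3_St h a)) (bm2_St h)

/-- `B₄` normalises `St` -/
theorem b4_St (h : Inp5 τ X Y W T B N) : Nz (B 4) (St W) := by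
  rintro b hb g ⟨h1, h2⟩
  have c0 : ∀ x ∈ W 0, b * x = x * b := fun x hx => ((b4 h).r04 x hx b hb).symm
  refine ⟨fun x hx => comm_mul (comm_mul (c0 x hx) (h1 x hx)) (comm_inv (c0 x hx)), fun a ha => ?_⟩
  have ha' : b⁻¹ * a * b ∈ Q2 W := (q0 h).inv hb ha
  have h3 := h2 _ ha'
  have e : b * g * b⁻¹ * a * (b * g * b⁻¹)⁻¹ * a⁻¹ =
      b * (g * (b⁻¹ * a * b) * g⁻¹ * (b⁻¹ * a * b)⁻¹) * b⁻¹ := by group
  rw [e, c0 _ h3, mul_inv_cancel_right]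
  exact h3

/-! ### the main step -/

/-- `C(t) ∩ St ≤ Q₀` -/
theorem mem_Q0 (h : Inp5 τ X Y W T B N) {c : G} (hc : c ∈ St W) (hτ : τ c = c) : c ∈ Q0 X Y := by
  refine (base h.toInp).k8 c hτ (fun w hw => hc.1 w hw) fun y hy => ?_
  have hY : Q2 Y ≤ Q2 W := (dQ2 h.toInp).le
  refine h.Wf 0 _ (hc.2 y (hY hy)) ?_
  have e : τ y = y := (dQ2 h.toInp).fixK y hy
  rw [map_mul, map_mul, map_mul, map_inv, map_inv, hτ, e]

/-- both inputs -/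
structure Two5 (X Y W B : ℤ → Subgroup G) : Prop where
  l : FiveIn X Y W B
  r : FiveIn (F 0 (-1) X) (F 0 (-1) Y) (F 0 (-1) W) (F 0 (-1) B)

theorem mem_Qx (h : Inp5 τ X Y W T B N) (a : Two5 X Y W B) {b w : G} (hb : b ∈ B 4) (hw : w ∈ W (-3))
    (hc : (b * w * b⁻¹ * w⁻¹)⁻¹ * τ (b * w * b⁻¹ * w⁻¹) ∈ Qp W B) :
    b * w * b⁻¹ * w⁻¹ ∈ Qp W B ⊔ Y (-3) := by
  obtain ⟨r, hr, h1⟩ := (dQ h).exists_fix h.tt hc
  have hS : b * w * b⁻¹ * w⁻¹ ∈ St W :=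
    mul_mem (b4_St h b hb w (wm3_St h a.l hw)) (inv_mem (wm3_St h a.l hw))
  have h2 : b * w * b⁻¹ * w⁻¹ * r ∈ Q0 X Y := mem_Q0 h (mul_mem hS (Qp_St h a.r hr)) h1
  have h3 : Q0 X Y ≤ Qp W B ⊔ Y (-3) := sup_le_sup (dQ h).le le_rfl
  have h4 := mul_mem (h3 h2) (inv_mem (Subgroup.mem_sup_left (T := Y (-3)) hr))
  rwa [mul_inv_cancel_right] at h4

theorem step [Finite G] (h : Inp5 τ X Y W T B N) (a : Two5 X Y W B) {S : Subgroup G} (hS : S ≤ B 4)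
    (hTS : Nz (T (-3)) S) {w : G} (hw : w ∈ W (-3))
    (hc : ∀ b ∈ S, (b * w * b⁻¹ * w⁻¹)⁻¹ * τ (b * w * b⁻¹ * w⁻¹) ∈ Qp W B) :
    ∀ b ∈ S, b * w * b⁻¹ * w⁻¹ ∈ Qp W B := by
  obtain ⟨t, ht, hf⟩ := h.hf (-3) 4 (by decide)
  have hf4 := Hom.free h.tt (db4 h) (h.YX 4) (h.tT _ t ht) hf (h.Wab 4) (h.Wsq 4)
  have nt : Nz (T (-3)) (Qp W B) := by
    have tb (c : ℤ) : Nz (T (-3)) (B (2 * c)) := by
      have h1 := (bs h c).bTn (-3 - 2 * c)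
      have e1 : F c 1 T (-3 - 2 * c) = T (-3) := by
        show T (2 * c + 1 * (-3 - 2 * c)) = T (-3)
        congr 1; ring
      have e2 : F c 1 B 0 = B (2 * c) := by
        show B (2 * c + 1 * 0) = B (2 * c)
        congr 1; ring
      rwa [e1, e2] at h1
    have t0 : Nz (T (-3)) (B 0) := (tb 0 :)
    have t2 : Nz (T (-3)) (B 2) := (tb 1 :)
    have t2' : Nz (T (-3)) (B (-2)) := (tb (-1) :)
    exact (((((((h.TW _ 0).sup' (h.TW _ 1)).sup' (h.TW _ 2)).sup' (h.TW _ _)).sup' (h.TW _ _)).sup' t0).sup' t2).sup'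
      (h.TW _ 3) |>.sup' t2'
  have hY3 : Y (-3) ≤ W (-3) := h.YW _
  refine kill (fun b hb => hTS t ht b hb) (fun b hb => hf4 b (hS hb)) (h.TWc _ t ht w hw)
    ((q h).mono hS) (fun r hr => u h a.l w hw r hr) fun b hb => ?_
  have h1 := mem_Qx h a (hS hb) hw (hc b hb)
  obtain ⟨r, hr, y, hy, e⟩ := mem_sup ((u h a.l).mono hY3) h1
  rw [e]
  have h2 : t * y * t⁻¹ = y := by
    rw [h.TWc _ t ht y (hY3 hy), mul_inv_cancel_right]
  have e2 : (r * y)⁻¹ * (t * (r * y) * t⁻¹) = y⁻¹ * (r⁻¹ * (t * r * t⁻¹)) * (t * y * t⁻¹) := by group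
  rw [e2, h2]
  exact (u h a.l).inv (hY3 hy) (mul_mem (inv_mem hr) (nt t ht r hr))

/-! ### (t) - (z) -/

/-- (t) -/
theorem lt [Finite G] (h : Inp5 τ X Y W T B N) (a : FiveIn X Y W B) : Cl (X (-3)) (W 4) (M W B) := by
  intro x hx v hv
  obtain ⟨t, ht, hf⟩ := h.hf 4 (-3) (by decide)
  have hYX : Y (-3) = X (-3) := yo3 h
  have hXW : X (-3) ≤ W (-3) := hYX ▸ h.YW _
  have nW4 : Nz (W 4) (M W B) := nzN1 h (w4_le_N h) (M_le_N h) ((E_Q2 W).trans (Q2M W B))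
  have nX : Nz (X (-3)) (M W B) := (uM h a).mono hXW
  have nt : Nz (T 4) (M W B) := by
    have tb (c : ℤ) : Nz (T 4) (B (2 * c)) := by
      have h1 := (bs h c).bTn (4 - 2 * c)
      have e1 : F c 1 T (4 - 2 * c) = T 4 := by
        show T (2 * c + 1 * (4 - 2 * c)) = T 4
        congr 1; ring
      have e2 : F c 1 B 0 = B (2 * c) := by
        show B (2 * c + 1 * 0) = B (2 * c)
        congr 1; ring
      rwa [e1, e2] at h1
    have t0 : Nz (T 4) (B 0) := (tb 0 :)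
    have t2 : Nz (T 4) (B 2) := (tb 1 :)
    exact (((((((h.TW _ 0).sup' (h.TW _ 1)).sup' (h.TW _ 2)).sup' (h.TW _ _)).sup' (h.TW _ _)).sup' t0).sup' t2).sup'
      (h.TW _ 3)
  refine kill (B := X (-3)) (fun b hb => h.TX _ _ t ht b hb) hf (h.TWc _ t ht v hv) nX
    (fun r hr => nW4 v hv r hr) (fun x hx => ?_) x hx
  -- `⁅x, v⁆ ∈ N'' Z₄`
  have hy : v⁻¹ * τ v ∈ Y 4 := brkW h.toGen 4 hv
  obtain ⟨y, hy'⟩ : ∃ y, y = v⁻¹ * τ v := ⟨_, rfl⟩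
  rw [← hy'] at hy
  have ev : τ v = v * y := by rw [hy']; group
  have h1 : (x * v * x⁻¹ * v⁻¹)⁻¹ * τ (x * v * x⁻¹ * v⁻¹) ∈ M W B := by
    refine tau_comm (a' := 1) (b' := y) (by rw [h.tX _ x hx, mul_one]) ev (nX.le hx) (nW4.le hv) ?_ ?_ ?_
    · simp
    · exact (dM h).le ((base h.toInp).r34z x hx y hy)
    · simp
  obtain ⟨r, hr, h2⟩ := (dM h).exists_fix h.tt h1
  have h3 : x * v * x⁻¹ * v⁻¹ * r ∈ N 1 :=
    mul_mem (mul_mem (xm3_N h x hx v (w4_le_N h hv)) (inv_mem (w4_le_N h hv))) (M_le_N h hr)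
  have h4 : x * v * x⁻¹ * v⁻¹ * r ∈ NK X Y := (b2 h).ndbl.fix _ h3 h2
  have h5 : NK X Y ≤ M W B ⊔ Y 4 := sup_le_sup (dM h).le le_rfl
  have h6 := mul_mem (h5 h4) (inv_mem (Subgroup.mem_sup_left (T := Y 4) hr))
  rw [mul_inv_cancel_right] at h6
  obtain ⟨m, hm, z, hz, e⟩ := mem_sup (nW4.mono (h.YW 4)) h6
  rw [e]
  have h7 : t * z * t⁻¹ = z := by
    rw [h.TWc _ t ht z (h.YW 4 hz), mul_inv_cancel_right]
  have e2 : (m * z)⁻¹ * (t * (m * z) * t⁻¹) = z⁻¹ * (m⁻¹ * (t * m * t⁻¹)) * (t * z * t⁻¹) := by group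
  rw [e2, h7]
  exact nW4.inv (h.YW 4 hz) (mul_mem (inv_mem hm) (nt t ht m hm))

section

variable [Finite G] (h : Inp5 τ X Y W T B N) (a : Two5 X Y W B)
include h a

omit [Finite G] a in
/-- bracket of `w ∈ W₋₃` -/
theorem brk3 {w : G} (hw : w ∈ W (-3)) : ∃ x ∈ X (-3), τ w = w * x := by
  refine ⟨w⁻¹ * τ w, h.YX _ (brkW h.toGen _ hw), by group⟩

/-- (v) -/
theorem lv : Cl (Y 4) (W (-3)) (Qp W B) := by
  intro b hb w hw
  obtain ⟨x, hx, ew⟩ := brk3 h hw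
  have hYX : Y (-3) = X (-3) := yo3 h
  have hYB : Y 4 ≤ B 4 := (h.YW 4).trans (db4 h).WB
  refine step h a hYB (h.TY _ _) hw (fun b hb => ?_) b hb
  refine tau_comm (a' := 1) (b' := x) (by rw [h.tX _ b (h.YX _ hb), mul_one]) ew ((q h).le (hYB hb))
    ((u h a.l).le hw) ?_ ?_ ?_
  · simp
  · exact (dQ h).le ((le_sup_left : MK X Y ≤ QpK X Y) ((base h.toInp).r34z.symm b hb x hx))
  · simp

/-- `X₋₃` and `W 4` -/
theorem lt' : Cl (W 4) (X (-3)) (Qp W B) := ((lt h a.l).symm).mono3 (MQ W B)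

omit [Finite G] a in
theorem lzx : Cl (X 4) (X (-3)) (Qp W B) := ((base h.toInp).r34.symm).mono3 (dQ h).le

/-- (w) -/
theorem lw : Cl (W 4) (W (-3)) (Qp W B) := by
  intro b hb w hw
  obtain ⟨x, hx, ew⟩ := brk3 h hw
  have hWB : W 4 ≤ B 4 := (db4 h).WB
  refine step h a hWB (h.TW _ _) hw (fun b hb => ?_) b hb
  have hy : b⁻¹ * τ b ∈ Y 4 := brkW h.toGen 4 hb
  refine tau_comm (a' := b⁻¹ * τ b) (b' := x) (by group) ew ((q h).le (hWB hb))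
    ((u h a.l).le hw) ?_ ?_ ?_
  · exact lv h a _ hy w hw
  · exact lt' h a b hb x hx
  · exact lzx h _ (h.YX 4 hy) x hx

/-- (x) -/
theorem lx : Cl (B 4) (X (-3)) (Qp W B) := by
  intro b hb x hx
  have hYX : Y (-3) = X (-3) := yo3 h
  have hXW : X (-3) ≤ W (-3) := hYX ▸ h.YW _
  have tb : Nz (T (-3)) (B 4) := ((bs h 2).bTn (-7) :)
  refine step h a le_rfl tb (hXW hx) (fun b hb => ?_) b hb
  obtain ⟨y, hy, v, hv, e⟩ := (db4 h).brk b hb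
  refine tau_comm (a' := y * v) (b' := 1) (by rw [← e]; group) (by rw [h.tX _ x hx, mul_one]) ((q h).le hb)
    ((u h a.l).le (hXW hx)) ?_ ?_ ?_
  · exact cl_mul (lt' h a v hv x hx) (lzx h y hy x hx) fun r hr => q h y ((db4 h).XB hy) r hr
  · simp
  · simp

/-- (y) -/
theorem ly : Cl (X 4) (W (-3)) (Qp W B) := by
  intro b hb w hw
  obtain ⟨x, hx, ew⟩ := brk3 h hw
  have hXB : X 4 ≤ B 4 := (db4 h).XB
  refine step h a hXB (h.TX _ _) hw (fun b hb => ?_) b hb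
  refine tau_comm (a' := 1) (b' := x) (by rw [h.tX _ b hb, mul_one]) ew ((q h).le (hXB hb))
    ((u h a.l).le hw) ?_ ?_ ?_
  · simp
  · exact lzx h b hb x hx
  · simp

/-- (z) -/
theorem lz : Cl (B 4) (W (-3)) (Qp W B) := by
  intro b hb w hw
  obtain ⟨x, hx, ew⟩ := brk3 h hw
  have tb : Nz (T (-3)) (B 4) := ((bs h 2).bTn (-7) :)
  refine step h a le_rfl tb hw (fun b hb => ?_) b hb
  obtain ⟨y, hy, v, hv, e⟩ := (db4 h).brk b hb
  refine tau_comm (a' := y * v) (b' := x) (by rw [← e]; group) ew ((q h).le hb) ((u h a.l).le hw) ?_ ?_ ?_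
  · exact cl_mul (lw h a v hv w hw) (ly h a y hy w hw) fun r hr => q h y ((db4 h).XB hy) r hr
  · exact lx h a b hb x hx
  · exact lx h a _ (mul_mem ((db4 h).XB hy) ((db4 h).WB hv)) x hx

/-- **Level 5**: the inputs of `End.dblUs` -/
theorem out : Dbl τ (Qp W B) (QpK X Y) ∧ Nz (W (-3)) (Qp W B) ∧ Nz (B 4) (Qp W B) ∧
    Cl (W (-3)) (B 4) (Qp W B) := ⟨dQ h, u h a.l, q h, (lz h a).symm⟩

end

end Cfsg.Agent.OddHalf.D7TwF4.Growth.FiveB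

end

-- merged: Cfsg.Agent.OddHalf.D7TwF4.Growth.ToTwo
section

/-!
# Growth for `²F₄(q)`: the output of levels 1 - 3 (helper702; text bb ODD 13178)
-/

set_option autoImplicit false
set_option linter.unusedVariables false

namespace Cfsg.Agent.OddHalf.D7TwF4.Growth.ToTwo

open Cfsg.Agent.OddHalf.D7TwF4.Growth.Defs Cfsg.Agent.OddHalf.D7TwF4.Growth.Tools
open Cfsg.Agent.OddHalf.D7TwF4.Growth.Frame Cfsg.Agent.OddHalf.D7TwF4.Growth.Two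
open Cfsg.Agent.OddHalf.D7TwF4.Growth.One Cfsg.Agent.OddHalf.D7TwF4.Growth.NOne
open Cfsg.Agent.OddHalf.D7TwF4.Growth.Three
open Cfsg.Agent.OddHalf.D7TwF4.Growth

variable {G : Type*} [Group G] {τ : G →* G} {X Y W T : ℤ → Subgroup G}

theorem bA (h : Inp τ X Y W T) : Cm (Bp τ X Y W T) (Q2 W) := by
  have e1 : Cm (Bp τ X Y W T) (EK W) := (cNc h).mono (fun b hb => (mem_Bp.1 hb).1) le_rfl
  have e2 : Cm (Bp τ X Y W T) (EK (F 0 (-1) W)) := (cNc (neg h)).mono (fun b hb => (mem_Bp.1 (Bp_le h hb)).1) le_rfl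
  have e3' := e2.mono le_rfl (y1E (F 0 (-1) W))
  have e4' := e2.mono le_rfl (y2E (F 0 (-1) W))
  have e3 : Cm (Bp τ X Y W T) (W (-1)) := e3'
  have e4 : Cm (Bp τ X Y W T) (W (-2)) := e4'
  exact (e1.sup' e3).sup' e4

theorem bTn (h : Inp τ X Y W T) (i : ℤ) : Nz (T i) (Bp τ X Y W T) := by
  intro t ht b hb
  rw [mem_Bp] at hb ⊢
  refine ⟨nT h i t ht b hb.1, fun s hs => ?_⟩
  have h1 : t * s = s * t := h.TT i 0 t ht s hs
  exact comm_mul (comm_mul h1 (hb.2 s hs)) (comm_inv h1)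

theorem free0 (h : Inp τ X Y W T) {t : G} (ht : τ t = t) (hX : ∀ x ∈ X 0, t * x * t⁻¹ = x → x = 1) :
    ∀ b ∈ Bp τ X Y W T, t * b * t⁻¹ = b → b = 1 :=
  Hom.free h.tt (dbP h) (h.YX 0) ht hX (h.Wab 0) (h.Wsq 0)

/-- `⁅B₀, X₄⁆ = 1` -/
theorem b4 [Finite G] (h : Inp τ X Y W T) : Cm (Bp τ X Y W T) (X 4) := by
  intro b hb x hx
  have hd := dbP h
  have hx0 : ∀ y ∈ X 0, y * x = x * y := fun y hy => (base h).x04 y hy x hx
  have hw0 : ∀ w ∈ W 0, w * x = x * w := fun w hw => ((base h).x4w0 x hx w hw).symm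
  -- the commutators
  have hc1 : ∀ b ∈ Bp τ X Y W T, b * x * b⁻¹ * x⁻¹ ∈ NK X Y := by
    intro b hb
    apply (dN h).fix
    · have h1 := n4 h x hx _ (inv_mem (mem_Bp.1 hb).1)
      have e : b * x * b⁻¹ * x⁻¹ = b * (x * b⁻¹ * x⁻¹) := by group
      rw [e]; exact mul_mem (mem_Bp.1 hb).1 h1
    · obtain ⟨y, hy, w, hw, h1⟩ := hd.brk b hb
      have e1 : τ b = b * (y * w) := by rw [← h1]; group
      have e2 : y * w * x = x * (y * w) := comm_mul (hx0 y hy) (hw0 w hw)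
      have e3 : τ (b * x * b⁻¹ * x⁻¹) = b * (y * w * x) * (y * w)⁻¹ * b⁻¹ * x⁻¹ := by
        simp only [map_mul, map_inv, e1, h.tX 4 x hx]; group
      rw [e3, e2]; group
  have hc2 : ∀ b ∈ Bp τ X Y W T, b * x * b⁻¹ * x⁻¹ ∈ Q2 Y ⊔ Y 4 := by
    intro b hb
    apply (base h).kJ _ (hc1 b hb)
    intro y hy
    have h1 := hd.comm b⁻¹ (inv_mem hb) y (hd.XB hy)
    refine comm_comm_left (g := b⁻¹ * y * b⁻¹⁻¹ * y⁻¹) ?_ (hx0 y hy).symm (hw0 _ h1)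
    group
  -- `Y₄` normalises `Q₂`
  have hd2 := dQ2 h
  have hx4 := x4A h
  have hn4 : Nz (Y 4) (Q2 Y) := nz_fix hd2 (fun y hy => h.tX 4 y (h.YX 4 hy)) (hx4.mono (h.YX 4))
  have hc3 : ∀ b ∈ Bp τ X Y W T, b * x * b⁻¹ * x⁻¹ ∈ Q2 Y := by
    obtain ⟨t, ht, hfr⟩ := h.hf 4 0 (by norm_num)
    have htx : t * x = x * t := h.TXc 4 t ht x hx
    intro b hb
    apply hd2.fix
    · refine kill (B := Bp τ X Y W T) (R := Q2 W) (fun b hb => bTn h 4 t ht b hb)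
        (free0 h (h.tT 4 t ht) hfr) htx (bA h).nz (fun r hr => hx4 x hx r hr) ?_ b hb
      intro b hb
      obtain ⟨q, hq, y, hy, h1⟩ := mem_sup hn4 (hc2 b hb)
      have hty : t * y * t⁻¹ = y := by rw [h.TXc 4 t ht y (h.YX 4 hy), mul_inv_cancel_right]
      have hTQ : Nz (T 4) (Q2 Y) := by
        have y := h.TY 4
        exact ((((y 0).sup' (y 1)).sup' (y 2)).sup' (y _)).sup' (y _)
      have e1 : (q * y)⁻¹ * (t * (q * y) * t⁻¹) = y⁻¹ * (q⁻¹ * (t * q * t⁻¹)) * y⁻¹⁻¹ := by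
        calc (q * y)⁻¹ * (t * (q * y) * t⁻¹) = y⁻¹ * (q⁻¹ * (t * q * t⁻¹)) * (t * y * t⁻¹) := by group
          _ = _ := by rw [hty, inv_inv]
      rw [h1, e1]
      exact hd2.le (hn4 _ (inv_mem hy) _ (mul_mem (inv_mem hq) (hTQ t ht q hq)))
    · obtain ⟨y, hy, w, hw, h1⟩ := hd.brk b hb
      exact (dN h).fixK _ (hc1 b hb)
  refine Hom.nh h.tt (K := Q2 Y) hd ((cA h).mono hd2.le hd2.le) hc3 ((bA h).mono le_rfl hd2.le) hx0 hw0
    (T := T 4) (bTn h 4) (h.TW _ _) (fun t ht => h.TXc 4 t ht x hx) (h.TX _ _) (h.tT _) ?_ (h.YX 0) b hb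
  intro f hf hm hY he
  exact (base h).nh2 f hf hm hY he

/-- `N₁ = N'' W₄` -/
theorem ndec (h : Inp τ X Y W T) : Nc τ X Y W = M W (Bf τ X Y W T) ⊔ W 4 := by
  have hd := dbN h
  have dp := dbP h
  have hB0 : Bf τ X Y W T 0 = Bp τ X Y W T := Bf_zero h
  -- `B₂`
  have hB2 : Bf τ X Y W T 2 = Bp τ (F 1 (-1) X) (F 1 (-1) Y) (F 1 (-1) W) (F 1 (-1) T) := by
    rw [← Bf_zero (rf h 1), ← Bf_nat τ X Y W T 1 (Or.inr rfl)]
    rfl
  have dq : DB τ (Bf τ X Y W T 2) (X 2) (W 2) (Y 2) := by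
    rw [hB2]
    exact dbP (rf h 1)
  have dp' : DB τ (Bf τ X Y W T 0) (X 0) (W 0) (Y 0) := by rw [hB0]; exact dp
  have hB2N : Bf τ X Y W T 2 ≤ Nc τ X Y W := by
    rw [hB2, ← Nc_ref τ X Y W]
    exact fun b hb => (mem_Bp.1 hb).1
  have hB0N : Bf τ X Y W T 0 ≤ Nc τ X Y W := by
    rw [hB0]; exact fun b hb => (mem_Bp.1 hb).1
  obtain ⟨L, hL⟩ : ∃ L, L = M W (Bf τ X Y W T) ⊔ W 4 := ⟨_, rfl⟩
  rw [← hL]
  have l4 : W 4 ≤ L := hL ▸ le_sup_right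
  have l3 : W 3 ≤ L := hL ▸ le_sup_of_le_left le_sup_right
  have lB2 : Bf τ X Y W T 2 ≤ L := hL ▸ le_sup_of_le_left (le_sup_of_le_left le_sup_right)
  have lB0 : Bf τ X Y W T 0 ≤ L := hL ▸ le_sup_of_le_left (le_sup_of_le_left (le_sup_of_le_left le_sup_right))
  have lQ : Q2 W ≤ L := hL ▸ le_sup_of_le_left (le_sup_of_le_left (le_sup_of_le_left le_sup_left))
  have lE : EK W ≤ L := (EQ2 W).trans lQ
  have hLN : L ≤ Nc τ X Y W := by
    rw [hL]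
    exact sup_le (sup_le (sup_le (sup_le (Q2N h) hB0N) hB2N) (w3N h)) (w4N h)
  apply le_antisymm _ hLN
  -- brackets
  have hyL : ∀ i, W i ≤ L → Y i ≤ L := fun i hi => (h.YW i).trans hi
  have m1 : W (-1) ≤ L := (ym1Q2 W).trans lQ
  have m2 : W (-2) ≤ L := (ym2Q2 W).trans lQ
  have w0 : W 0 ≤ L := (y0E W).trans lE
  have w1 : W 1 ≤ L := (y1E W).trans lE
  have w2 : W 2 ≤ L := (y2E W).trans lE
  have hKL : NK X Y ≤ L :=
    sup_le (sup_le (sup_le (sup_le (sup_le (sup_le (sup_le (sup_le (hyL 0 w0) (hyL 1 w1)) (hyL 2 w2)) (hyL _ m1))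
      (hyL _ m2)) (dp'.XB.trans lB0)) (dq.XB.trans lB2)) (hyL 3 l3)) (hyL 4 l4)
  let S : Subgroup G :=
    { carrier := {m | m ∈ Nc τ X Y W ∧ ∃ l ∈ L, m⁻¹ * (l⁻¹ * τ l) ∈ EK W}
      one_mem' := ⟨one_mem _, 1, one_mem _, by simp⟩
      mul_mem' := by
        rintro a b ⟨ha, m, hm, h1⟩ ⟨hb, k, hk, h2⟩
        refine ⟨mul_mem ha hb, m * k, mul_mem hm hk, ?_⟩
        have eN := Nc_eq h
        exact brk_mul h (eN ▸ hLN hm) (eN ▸ hLN hk) (eN ▸ ha) (eN ▸ hb) h1 h2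
      inv_mem' := by
        rintro a ⟨ha, m, hm, h1⟩
        have eN := Nc_eq h
        exact ⟨inv_mem ha, m⁻¹, inv_mem hm, brk_inv h (eN ▸ hLN hm) (eN ▸ ha) h1⟩ }
  have hS : NK X Y ≤ S := by
    have hy : ∀ i, W i ≤ L → Y i ≤ S := by
      intro i hi y hy
      obtain ⟨w, hw, h1⟩ := h.Ws i y hy
      exact ⟨hLN (hi (h.YW i hy)), w, hi hw, by rw [h1, inv_mul_cancel]; exact one_mem _⟩
    have hx0 : X 0 ≤ S := by
      intro x hx
      obtain ⟨b, hb, w, hw, h1⟩ := dp'.surj x hx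
      exact ⟨hLN (lB0 (dp'.XB hx)), b, lB0 hb, by rw [h1, inv_mul_cancel_left]; exact y0E W hw⟩
    have hx2 : X 2 ≤ S := by
      intro x hx
      obtain ⟨b, hb, w, hw, h1⟩ := dq.surj x hx
      exact ⟨hLN (lB2 (dq.XB hx)), b, lB2 hb, by rw [h1, inv_mul_cancel_left]; exact y2E W hw⟩
    exact sup_le (sup_le (sup_le (sup_le (sup_le (sup_le (sup_le (sup_le (hy 0 w0) (hy 1 w1)) (hy 2 w2)) (hy _ m1))
      (hy _ m2)) hx0) hx2) (hy 3 l3)) (hy 4 l4)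
  intro n hn
  obtain ⟨m, hm, e, he, h1⟩ := hd.brk n hn
  obtain ⟨-, l, hl, h2⟩ := hS hm
  obtain ⟨f, hf⟩ : ∃ f, f = m⁻¹ * (l⁻¹ * τ l) := ⟨_, rfl⟩
  rw [← hf] at h2
  have e1 : τ n = n * (m * e) := by rw [← h1]; group
  have e2 : τ l = l * (m * f) := by rw [hf]; group
  have h3 : (n * l⁻¹)⁻¹ * τ (n * l⁻¹) ∈ EK W := by
    have e3 : (n * l⁻¹)⁻¹ * τ (n * l⁻¹) = (l * m) * (e * f⁻¹) * (l * m)⁻¹ := by
      rw [map_mul, map_inv, e1, e2]; group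
    rw [e3]
    exact (cNc h).nz _ (mul_mem (hLN hl) (hd.XB hm)) _ (mul_mem he (inv_mem h2))
  obtain ⟨x, hx, w, hw, h4⟩ := hd.mem_of_brk h.tt (mul_mem hn (inv_mem (hLN hl))) h3
  have e5 : n = x * w * l := by rw [← h4]; group
  rw [e5]
  exact mul_mem (mul_mem (hKL hx) (lE hw)) hl

/-- The facts of levels 1 - 3 in the standard position. -/
theorem base2_of [Finite G] (h : Inp τ X Y W T) : Base2 τ X Y W T (Bf τ X Y W T) (Nf τ X Y W) where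
  o4 := o4 h
  nE := by rw [Nf_one]; exact cNc h
  ncomm := by rw [Nf_one]; exact (dbN h).comm
  nsq := by rw [Nf_one]; exact (dbN h).sq
  ndbl := by rw [Nf_one]; exact dN h
  nA := by rw [Nf_one]; exact Q2N h
  n5 := by rw [Nf_one]; exact n5 h
  n4 := by rw [Nf_one]; exact n4 h
  nT i := by rw [Nf_one]; exact nT h i
  nB := by rw [Nf_one, Bf_zero h]; exact fun b hb => (mem_Bp.1 hb).1
  ndec := by rw [Nf_one]; exact ndec h
  db := by rw [Bf_zero h]; exact dbP h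
  bA := by rw [Bf_zero h]; exact bA h
  b4 := by rw [Bf_zero h]; exact b4 h
  bT := by
    rw [Bf_zero h]
    exact fun t ht b hb => ((mem_Bp.1 hb).2 t ht).symm
  bTn i := by rw [Bf_zero h]; exact bTn h i

/-- The output of levels 1 - 3. -/
theorem main [Finite G] (h : Inp τ X Y W T) : Inp2 τ X Y W T (Bf τ X Y W T) (Nf τ X Y W) where
  toInp := h
  fr2 c e he := by
    rw [Nf_nat τ X Y W c he, Bf_nat τ X Y W T c he]
    exact base2_of (inp h c he)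

end Cfsg.Agent.OddHalf.D7TwF4.Growth.ToTwo

end

-- merged: Cfsg.Agent.OddHalf.D7TwF4.Growth.End
section

/-!
# ODD D7, `K = ²F₄(q)`: the end of the growth (helper583; text bb ODD 13178, END)

* `dblUs` : `U* = W₋₃ Q' B₄` is `t`-free with fixed points `U = X₋₃ ⋯ X₄`;
* `Pos.false_of_dbl` : the contradiction, if a `t`-free group contains the Sylow 2-subgroup `U` of `K`.
-/

set_option autoImplicit false
set_option linter.unusedVariables false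

namespace Cfsg.Agent.OddHalf.D7TwF4.Growth.End

open Cfsg.Agent.OddHalf.D7TwF4.Growth.Defs Cfsg.Agent.OddHalf.D7TwF4.Growth.Tools
open Cfsg.Agent.OddHalf.D7TwF4.Growth.Frame Cfsg.Agent.OddHalf.D7TwF4.Growth.Two

section

variable {G : Type*} [Group G] {τ : G →* G} {X Y W T B N : ℤ → Subgroup G}

/-- the double of `X 4` -/
theorem db_at (h : Inp2 τ X Y W T B N) (c : ℤ) : DB τ (B (2 * c)) (X (2 * c)) (W (2 * c)) (Y (2 * c)) := by
  have h1 := (h.fr2 c 1 (Or.inl rfl)).db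
  have e : ∀ Z : ℤ → Subgroup G, F c 1 Z 0 = Z (2 * c) := fun Z => by
    show Z (2 * c + 1 * 0) = Z (2 * c)
    congr 1; ring
  rwa [e, e, e, e] at h1

/-- adding `W i` -/
theorem dbl_addW (h : Gen τ X Y W T) {R K : Subgroup G} (i : ℤ) (hR : Dbl τ R K) (hi : K ⊓ Y i = ⊥)
    (hn : Nz (W i) R) : Dbl τ (R ⊔ W i) (K ⊔ Y i) :=
  hR.sup_W h.tt (h.Wab i) (h.Wsq i) (h.Wt i) (fun y hy => h.tX i y (h.YX i hy)) (h.YW i) (h.Wf i) (h.Ws i) hi hn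

/-- **`U*`.** -/
theorem dblUs (h : Inp2 τ X Y W T B N) (dQ : Dbl τ (Qp W B) (QpK X Y)) (u : Nz (W (-3)) (Qp W B))
    (q : Nz (B 4) (Qp W B)) (z : Cl (W (-3)) (B 4) (Qp W B)) : Dbl τ (Us W B) (U X Y) := by
  have b := base h.toInp
  have db : DB τ (B 4) (X 4) (W 4) (Y 4) := db_at h 2
  have d1 : Dbl τ (Qx W B) (Q0 X Y) := dbl_addW h.toGen (-3) dQ b.i7 u
  have n1 : Nz (B 4) (Qx W B) := by
    intro x hx r hr
    have h1 : (Qx W B) ≤ (Qx W B).comap (MulAut.conj x).toMonoidHom := by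
      refine sup_le (fun y hy => Subgroup.mem_sup_left (q x hx y hy)) (fun y hy => ?_)
      show x * y * x⁻¹ ∈ Qx W B
      have e : x * y * x⁻¹ = (x * y * x⁻¹ * y⁻¹) * y := by group
      rw [e]
      exact mul_mem (Subgroup.mem_sup_left (z.symm x hx y hy)) (Subgroup.mem_sup_right hy)
    exact h1 hr
  have d2 : Dbl τ (Qx W B ⊔ W 4) (Q0 X Y ⊔ Y 4) := dbl_addW h.toGen 4 d1 b.i8 (n1.mono db.WB)
  exact (d2.sup_B h.tt db le_sup_right b.i9 (n1.sup' db.nzW)).1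

/-- `U` contains `X₋₃, …, X₄` -/
theorem le_U (hY : ∀ c, Y (2 * c + 1) = X (2 * c + 1)) (k : ℤ) (h1 : -3 ≤ k) (h2 : k ≤ 4) : X k ≤ U X Y := by
  have l1 : EK Y ≤ RK Y := le_sup_left
  have l2 : RK Y ≤ Q2 Y := le_sup_left
  have l3 : Q2 Y ≤ Q1 X Y := le_sup_left
  have l4 : Q1 X Y ≤ PK X Y := le_sup_left
  have l5 : PK X Y ≤ MK X Y := le_sup_left
  have l6 : MK X Y ≤ QpK X Y := le_sup_left
  have l7 : QpK X Y ≤ Q0 X Y := le_sup_left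
  have l8 : Q0 X Y ≤ U X Y := le_sup_left.trans le_sup_left
  have o1 : Y 1 = X 1 := hY 0
  have o2 : Y (-1) = X (-1) := by have := hY (-1); norm_num at this; exact this
  have o3 : Y 3 = X 3 := hY 1
  have o4 : Y (-3) = X (-3) := by have := hY (-2); norm_num at this; exact this
  have hc : k = -3 ∨ k = -2 ∨ k = -1 ∨ k = 0 ∨ k = 1 ∨ k = 2 ∨ k = 3 ∨ k = 4 := by omega
  rcases hc with rfl | rfl | rfl | rfl | rfl | rfl | rfl | rfl
  · rw [← o4]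
    exact (show Y (-3) ≤ Q0 X Y from le_sup_right).trans l8
  · exact (show X (-2) ≤ QpK X Y from le_sup_right).trans (l7.trans l8)
  · rw [← o2]
    exact (show Y (-1) ≤ RK Y from le_sup_right).trans (l2.trans (l3.trans (l4.trans (l5.trans (l6.trans (l7.trans l8))))))
  · exact (show X 0 ≤ Q1 X Y from le_sup_right).trans (l4.trans (l5.trans (l6.trans (l7.trans l8))))
  · rw [← o1]
    exact (show Y 1 ≤ EK Y from le_sup_right.trans le_sup_left).trans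
      (l1.trans (l2.trans (l3.trans (l4.trans (l5.trans (l6.trans (l7.trans l8)))))))
  · exact (show X 2 ≤ PK X Y from le_sup_right).trans (l5.trans (l6.trans (l7.trans l8)))
  · rw [← o3]
    exact (show Y 3 ≤ MK X Y from le_sup_right).trans (l6.trans (l7.trans l8))
  · exact le_sup_right

end

/-! ### The contradiction -/

section

open Cfsg.Agent.KFacts.TwF4 Cfsg.Agent.Octagon.Pkg Cfsg.Agent.SplitTwo.ZS
open Cfsg.Agent.OddHalf.D7TwF4.Defs Cfsg.Agent.OddHalf.SpTwoN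

universe u v w

variable {E : Type w} [Field E] {σ : E →+* E} {Y₀ : Type u} [Group Y₀] {G : Type v} [Group G]
variable {S : Full σ Y₀} {i : Y₀ →* G} {t : G} {τ : G →* G}

theorem good_of_dbl (hτ : ∀ x, τ x = t * x * t) (tt : t * t = 1) {R K : Subgroup G} (h : Dbl τ R K) :
    SemiGrow.Good t R where
  conj w hw := by rw [← hτ]; exact h.inv w hw
  good w hw hwt := by
    obtain ⟨r, hr, e⟩ := h.free w hw (by rw [hτ, hwt, mul_inv_cancel])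
    refine ⟨τ r, h.inv r hr, ?_⟩
    rw [hτ, SemiGrow.conj_conj tt, ← hτ]
    exact e

/-- `t` is a square modulo a perfect group: no. -/
theorem no_hom (P : Pos S i t) {m : G →* ℤˣ} (hm : m t = -1) : False := by
  have h1 : commutator G ≤ m.ker := by
    rw [commutator_def, Subgroup.commutator_le]
    intro x _ y _
    rw [MonoidHom.mem_ker, commutatorElement_def, map_mul, map_mul, map_mul, map_inv, map_inv, mul_comm (m x) (m y)]
    group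
  have h2 : t ∈ m.ker := h1 (by rw [P.perf]; exact Subgroup.mem_top _)
  rw [MonoidHom.mem_ker, hm] at h2
  exact absurd h2 (by decide)

/-- **The contradiction.** -/
theorem false_of_dbl (P : Pos S i t) (hτ : ∀ x, τ x = t * x * t) {R K : Subgroup G} (h : Dbl τ R K)
    (hU : (UY S).map i ≤ R) : False := by
  have := P.finG
  have : Fact (Nat.Prime 2) := ⟨Nat.prime_two⟩
  have hg := good_of_dbl hτ P.tt h
  set C : Subgroup G := Subgroup.centralizer ({t} : Set G) with hC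
  have hTC : TT S i t ≤ C := by
    refine sup_le ?_ ?_
    · rw [Subgroup.zpowers_le, hC, Subgroup.mem_centralizer_singleton_iff]
    · rintro _ ⟨y, _, rfl⟩
      rw [hC, Subgroup.mem_centralizer_singleton_iff]
      exact (P.ti y).symm
  obtain ⟨Q, hQ⟩ := IsPGroup.exists_le_sylow (G := C) (p := 2) (P := (TT S i t).subgroupOf C)
    (P.pT.comap_of_injective C.subtype C.subtype_injective)
  obtain ⟨m, hm⟩ := hg.exists_hom P.tt P.t1 Q (by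
    intro g hgQ
    have h1 : IsPGroup 2 ((Q : Subgroup C).map C.subtype) := Q.isPGroup'.map C.subtype
    have h2 : TT S i t ≤ (Q : Subgroup C).map C.subtype := by
      intro x hx
      exact ⟨⟨x, hTC hx⟩, hQ (by rw [Subgroup.mem_subgroupOf]; exact hx), rfl⟩
    have h3 := P.max _ h1 h2 (by
      rintro _ ⟨y, _, rfl⟩
      exact Subgroup.mem_centralizer_singleton_iff.1 y.2)
    have h4 : (g : G) ∈ TT S i t := h3 ⟨g, hgQ, rfl⟩
    -- the elements of `⟨t⟩ U`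
    obtain ⟨u, hu, c, hc, e⟩ := SemiGrow.mem_sup (N := (UY S).map i) (P := Subgroup.zpowers t) (by
      rintro p hp _ ⟨y, hy, rfl⟩
      have h5 : p ∈ Subgroup.centralizer ({i y} : Set G) := by
        have : Subgroup.zpowers t ≤ Subgroup.centralizer ({i y} : Set G) := by
          rw [Subgroup.zpowers_le, Subgroup.mem_centralizer_singleton_iff]
          exact P.ti y
        exact this hp
      rw [Subgroup.mem_centralizer_singleton_iff] at h5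
      rw [h5, mul_inv_cancel_right]
      exact ⟨y, hy, rfl⟩) (w := (g : G)) (by rw [sup_comm]; exact h4)
    have h6 : c = 1 ∨ c = t := by
      rw [Subgroup.mem_zpowers_iff] at hc
      obtain ⟨k, rfl⟩ := hc
      have h7 : ∀ j : ℤ, t ^ (2 * j) = 1 := fun j => by rw [zpow_mul, zpow_ofNat, pow_two, P.tt, one_zpow]
      rcases Int.even_or_odd k with ⟨j, rfl⟩ | ⟨j, rfl⟩
      · left
        rw [← two_mul, h7]
      · right
        rw [zpow_add, h7, one_mul, zpow_one]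
    rcases h6 with rfl | rfl
    · left
      rw [e, mul_one]
      exact hU hu
    · right
      obtain ⟨y, hy, rfl⟩ := hu
      rw [e, ← P.ti, ← mul_assoc, P.tt, one_mul]
      exact hU ⟨y, hy, rfl⟩)
  exact no_hom P hm

/-- the contradiction from `U*` in the position `X₁, …, X₈` -/
theorem false_of_U (P : Pos S i t) (hτ : ∀ x, τ x = t * x * t) {X Y : ℤ → Subgroup G}
    (hX : ∀ k, X k = (S.XZ k).map i) (hY : ∀ c, Y (2 * c + 1) = X (2 * c + 1)) {R : Subgroup G}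
    (h : Dbl τ R (U (F 2 1 X) (F 2 1 Y))) : False := by
  refine false_of_dbl P hτ h (le_trans ?_ h.le)
  rw [Subgroup.map_le_iff_le_comap]
  apply J_le
  intro k h1 h2
  rw [← Subgroup.map_le_iff_le_comap, ← hX]
  have h3 := le_U (X := F 2 1 X) (Y := F 2 1 Y) (fun c => by
    have e : (2 * 2 + 1 * (2 * c + 1) : ℤ) = 2 * (c + 2) + 1 := by ring
    show Y (2 * 2 + 1 * (2 * c + 1)) = X (2 * 2 + 1 * (2 * c + 1))
    rw [e]
    exact hY _) (k - 4) (by omega) (by omega)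
  have e : F 2 1 X (k - 4) = X k := by
    show X (2 * 2 + 1 * (k - 4)) = X k
    congr 1; ring
  rwa [e] at h3

end

end Cfsg.Agent.OddHalf.D7TwF4.Growth.End

end

-- merged: Cfsg.Agent.OddHalf.D7TwF4.Growth.LevelFive
section

/-!
# Growth for `²F₄(q)`: level 5 and the whole growth (helper570)

* `main : Inp5 → Dbl τ U* U`;
* `of_inp : Inp τ X Y W T → ∃ R, Dbl τ R U`.
-/

set_option autoImplicit false

namespace Cfsg.Agent.OddHalf.D7TwF4.Growth.LevelFive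

open Cfsg.Agent.OddHalf.D7TwF4.Growth.Defs Cfsg.Agent.OddHalf.D7TwF4.Growth.Tools
open Cfsg.Agent.OddHalf.D7TwF4.Growth.Frame Cfsg.Agent.OddHalf.D7TwF4.Growth.Two
open Cfsg.Agent.OddHalf.D7TwF4.Growth.Inp Cfsg.Agent.OddHalf.D7TwF4.Growth.FiveB
open Cfsg.Agent.OddHalf.D7TwF4.Growth.FiveDef

variable {G : Type*} [Group G] {τ : G →* G} {X Y W T B N : ℤ → Subgroup G}

theorem fiveIn (h : Base5A τ X Y W T B N) : FiveIn X Y W B := ⟨h.s3, h.r2, h.r4⟩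

/-- **Level 5.** -/
theorem main [Finite G] (h : Inp5 τ X Y W T B N) : Dbl τ (Us W B) (U X Y) := by
  have a : Two5 X Y W B := ⟨fiveIn (FiveA.base5A h), fiveIn (FiveA.base5A (inp5 h 0 (Or.inr rfl)))⟩
  exact End.dblUs h.toInp2 (dQ h) (u h a.l) (q h) (lz h a).symm

/-- **The growth**: `t` acts freely on a group whose fixed points are `U = X₋₃ ⋯ X₄`. -/
theorem of_inp [Finite G] (h : Inp τ X Y W T) : ∃ R : Subgroup G, Dbl τ R (U X Y) :=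
  ⟨_, main (Mq.inp5_of (ToTwo.main h))⟩

end Cfsg.Agent.OddHalf.D7TwF4.Growth.LevelFive

end
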